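import Cfsg.Agent.Lib.Classical.UnitaryTwo
import Cfsg.Agent.Lib.Classical.SL2Rep
import Cfsg.Agent.Lib.AutPSL.Main
import Cfsg.Agent.Lib.AutPSU.Basic
import Cfsg.Agent.SimpleFacts.SUMult.Blocks
import Cfsg.Agent.SimpleFacts.SUMult.Point
import Mathlib

/-!
Automorphisms of `SU₂(q)` are semilinear; those normalising the diagonal torus are diagonal times field.
-/

set_option autoImplicit false
set_option linter.unusedSectionVars false
set_option linter.unusedSimpArgs false

namespace Cfsg.Agent.Phan.TwoAut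

open Matrix
open Cfsg.Agent.Forms Cfsg.Agent.Classical Cfsg.Agent.Classical.Unitary
open Cfsg.Agent.SimpleFacts.SUMult Blocks
open scoped MatrixGroups commutatorElement

universe u

variable {F : Type u} [Field F] [Fintype F] {q : ℕ} (hF : Fintype.card F = q ^ 2)

include hF

/-- The isomorphism with `SL₂` is a conjugation. -/
theorem exists_explicit (K : Type*) [Field K] [Fintype K] (hK : Fintype.card K = q) :
    ∃ (ι : K →+* F) (P : Matrix (Fin 2) (Fin 2) F) (φ : SL(2, K) ≃* Cfsg.SU 2 F q), IsUnit P.det ∧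
      ∀ g : SL(2, K), mat (φ g) = P * (g : Matrix (Fin 2) (Fin 2) K).map ι * P⁻¹ := by
  obtain ⟨ι, hι⟩ := exists_fixHom hF K hK
  have hιq : ∀ x : K, ι x ^ q = ι x := fun x => (hι _).1 ⟨x, rfl⟩
  obtain ⟨δ, hδ0, hδ⟩ := exists_traceZero hF
  obtain ⟨u, huu, hu1, -, -⟩ := exists_isotropic_pair hF (n := 2) 0 1 (by decide)
  have hu : u ≠ 0 := fun h => by simp [h] at hu1
  obtain ⟨v', hv', huv'⟩ := exists_partner hF hu huu
  set v := δ ^ q • v' with hv
  have hvv : Cfsg.hermForm 2 F q v v = 0 := by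
    rw [hv, UnitaryCount.hermForm_smul_smul, hv', mul_zero]
  have huv : Cfsg.hermForm 2 F q u v = δ := by rw [hv, H_smul_right, huv', mul_one, pow_qq hF]
  have hvu : Cfsg.hermForm 2 F q v u = -δ := by
    rw [← H_conj hF, huv, eq_neg_iff_add_eq_zero, add_comm, hδ]
  set P : Matrix (Fin 2) (Fin 2) F := !![u 0, v 0; u 1, v 1] with hP
  have hPx : ∀ x : Fin 2 → F, P *ᵥ x = x 0 • u + x 1 • v := by
    intro x
    funext i
    fin_cases i <;> simp [hP, Matrix.mulVec, dotProduct, Fin.sum_univ_two, mul_comm]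
  have hB : ∀ x y : Fin 2 → F, Cfsg.hermForm 2 F q (P *ᵥ x) (P *ᵥ y) =
      δ * (x 0 * y 1 ^ q - x 1 * y 0 ^ q) := by
    intro x y
    simp only [hPx, H_add_left, H_add_right hF, H_smul_left, H_smul_right, huu, hvv, huv, hvu]
    ring
  have hPdet : P.det ≠ 0 := by
    intro h
    obtain ⟨x, hx, hx'⟩ := Matrix.exists_mulVec_eq_zero_iff.2 h
    have h1 := hB x ![0, 1]
    have h2 := hB x ![1, 0]
    rw [hx', H_zero_left] at h1 h2
    simp [hδ0, zero_pow (q_ne_zero hF)] at h1 h2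
    exact hx (funext fun i => by fin_cases i <;> assumption)
  have hPu : IsUnit P.det := isUnit_iff_ne_zero.2 hPdet
  have hconj : ∀ (A : Matrix (Fin 2) (Fin 2) F),
      (∀ x y, Cfsg.hermForm 2 F q (P *ᵥ (A *ᵥ x)) (P *ᵥ (A *ᵥ y)) =
        Cfsg.hermForm 2 F q (P *ᵥ x) (P *ᵥ y)) ↔
      (∀ x y, Cfsg.hermForm 2 F q ((P * A * P⁻¹) *ᵥ x) ((P * A * P⁻¹) *ᵥ y) =
        Cfsg.hermForm 2 F q x y) := by
    intro A
    constructor
    · intro h x y
      have := h (P⁻¹ *ᵥ x) (P⁻¹ *ᵥ y)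
      simp only [Matrix.mulVec_mulVec, Matrix.mul_nonsing_inv _ hPu, Matrix.one_mulVec,
        ← mul_assoc] at this
      exact this
    · intro h x y
      have := h (P *ᵥ x) (P *ᵥ y)
      simp only [Matrix.mulVec_mulVec, Matrix.nonsing_inv_mul_cancel_right _ _ hPu] at this ⊢
      exact this
  have hdet : ∀ A : Matrix (Fin 2) (Fin 2) F, (P * A * P⁻¹).det = A.det := fun A => by
    rw [Matrix.det_mul, Matrix.det_mul, Matrix.det_nonsing_inv, Ring.inverse_eq_inv']
    field_simp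
  have hmem : ∀ g : SL(2, K), ∀ x y, Cfsg.hermForm 2 F q
      ((P * (g : Matrix _ _ K).map ι * P⁻¹) *ᵥ x) ((P * (g : Matrix _ _ K).map ι * P⁻¹) *ᵥ y) =
        Cfsg.hermForm 2 F q x y := by
    intro g
    refine (hconj _).1 fun x y => ?_
    rw [hB, hB]
    have hd : ι ((g : Matrix (Fin 2) (Fin 2) K) 0 0) * ι ((g : Matrix (Fin 2) (Fin 2) K) 1 1) -
        ι ((g : Matrix (Fin 2) (Fin 2) K) 0 1) * ι ((g : Matrix (Fin 2) (Fin 2) K) 1 0) = 1 := by
      rw [← map_mul, ← map_mul, ← map_sub, ← Matrix.det_fin_two, g.2, map_one]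
    simp only [Matrix.mulVec, dotProduct, Fin.sum_univ_two, Matrix.map_apply,
      HermStd.add_pow_q hF, mul_pow, hιq]
    linear_combination (δ * (x 0 * y 1 ^ q - x 1 * y 0 ^ q)) * hd
  let φ : SL(2, K) →* Cfsg.SU 2 F q :=
    { toFun := fun g => suMk _ (by
        rw [hdet, show (g : Matrix (Fin 2) (Fin 2) K).map ι = ι.mapMatrix g from rfl,
          ← RingHom.map_det, g.2, map_one]) (hmem g)
      map_one' := SU_ext fun x => by
        rw [suMk_mulVec, Matrix.SpecialLinearGroup.coe_one, Matrix.map_one ι ι.map_zero ι.map_one,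
          mul_one, Matrix.mul_nonsing_inv _ hPu, mat_one]
      map_mul' := fun a b => SU_ext fun x => by
        rw [suMk_mulVec, mul_mulVec, suMk_mulVec, suMk_mulVec, Matrix.mulVec_mulVec,
          Matrix.SpecialLinearGroup.coe_mul, Matrix.map_mul]
        simp only [mul_assoc, Matrix.nonsing_inv_mul_cancel_left _ _ hPu] }
  have hcancel : ∀ A B : Matrix (Fin 2) (Fin 2) F, P * A * P⁻¹ = P * B * P⁻¹ → A = B := by
    intro A B h
    have h2 := congrArg (fun M => P⁻¹ * (M * P)) h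
    simpa [mul_assoc, Matrix.nonsing_inv_mul _ hPu, Matrix.nonsing_inv_mul_cancel_left _ _ hPu]
      using h2
  refine ⟨ι, P, MulEquiv.ofBijective φ ⟨fun a b h => ?_, fun h => ?_⟩, hPu, fun g => rfl⟩
  · refine GL2.sl_ext (Matrix.ext fun i j => ι.injective ?_)
    exact congrFun (congrFun (hcancel _ _ (congrArg mat h)) i) j
  · set A := P⁻¹ * mat h * P with hA
    have hPA : P * A * P⁻¹ = mat h := by
      simp [hA, mul_assoc, Matrix.mul_nonsing_inv _ hPu, Matrix.mul_nonsing_inv_cancel_left _ _ hPu]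
    have hAdet : A 0 0 * A 1 1 - A 0 1 * A 1 0 = 1 := by
      rw [← Matrix.det_fin_two, ← hdet A, hPA]; exact h.1.2
    have hpres := (hconj A).2 (by rw [hPA]; exact h.2)
    have hq0 := q_ne_zero hF
    have e00 : A 0 0 * A 1 0 ^ q - A 1 0 * A 0 0 ^ q = 0 := by
      have := hpres ![1, 0] ![1, 0]
      rw [hB, hB] at this
      simpa [Matrix.mulVec, dotProduct, Fin.sum_univ_two, hδ0, zero_pow hq0] using this
    have e01 : A 0 0 * A 1 1 ^ q - A 1 0 * A 0 1 ^ q = 1 := by
      have := hpres ![1, 0] ![0, 1]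
      rw [hB, hB] at this
      simpa [Matrix.mulVec, dotProduct, Fin.sum_univ_two, hδ0, zero_pow hq0] using this
    have e10 : A 0 1 * A 1 0 ^ q - A 1 1 * A 0 0 ^ q = -1 := by
      have := hpres ![0, 1] ![1, 0]
      rw [hB, hB] at this
      simp [Matrix.mulVec, dotProduct, Fin.sum_univ_two, zero_pow hq0] at this
      exact mul_left_cancel₀ hδ0 (by linear_combination this)
    have e11 : A 0 1 * A 1 1 ^ q - A 1 1 * A 0 1 ^ q = 0 := by
      have := hpres ![0, 1] ![0, 1]
      rw [hB, hB] at this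
      simpa [Matrix.mulVec, dotProduct, Fin.sum_univ_two, hδ0, zero_pow hq0] using this
    have hfix : ∀ i j, A i j ∈ Set.range ι := by
      intro i j
      rw [hι]
      fin_cases i <;> fin_cases j <;> simp
      · linear_combination (-(A 0 0 ^ q)) * hAdet - A 0 0 * e10 + A 0 1 * e00
      · linear_combination (-(A 0 1 ^ q)) * hAdet + A 0 1 * e01 - A 0 0 * e11
      · linear_combination (-(A 1 0 ^ q)) * hAdet - A 1 0 * e10 + A 1 1 * e00
      · linear_combination (-(A 1 1 ^ q)) * hAdet + A 1 1 * e01 - A 1 0 * e11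
    choose g hg using hfix
    have hgA : (Matrix.of g).map ι = A := by ext i j; simp [hg]
    have hgdet : (Matrix.of g).det = 1 := by
      refine ι.injective ?_
      rw [RingHom.map_det, map_one, RingHom.mapMatrix_apply, hgA, Matrix.det_fin_two]
      exact hAdet
    refine ⟨⟨Matrix.of g, hgdet⟩, SU_ext fun x => ?_⟩
    show (P * (Matrix.of g).map ι * P⁻¹) *ᵥ x = _
    rw [hgA, hPA]

omit hF in
theorem map_mul_conj {σ : F ≃+* F} {A B C : Matrix (Fin 2) (Fin 2) F} :
    (A * B * C).map σ = A.map σ * B.map σ * C.map σ := by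
  rw [Matrix.map_mul, Matrix.map_mul]

omit hF in
/-- An automorphism of a finite field extends along an embedding. -/
theorem exists_extend {K : Type*} [Field K] [Fintype K] (ι : K →+* F) (τ : K ≃+* K) :
    ∃ σ : F ≃+* F, ∀ x, σ (ι x) = ι (τ x) := by
  obtain ⟨p, hp⟩ := CharP.exists K
  have : Fact p.Prime := ⟨CharP.char_is_prime K p⟩
  have : CharP F p := charP_of_injective_ringHom ι.injective p
  let _ := ZMod.algebra K p
  let f : K ≃ₐ[ZMod p] K := AlgEquiv.ofRingEquiv (f := τ) (fun r => by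
    exact RingHom.congr_fun (Subsingleton.elim ((τ.toRingHom).comp (algebraMap (ZMod p) K))
      (algebraMap (ZMod p) K)) r)
  obtain ⟨k, hk⟩ := (FiniteField.bijective_frobeniusAlgEquivOfAlgebraic_pow (ZMod p) K).2 f
  refine ⟨iterateFrobeniusEquiv F p k, fun x => ?_⟩
  have h1 : τ x = x ^ p ^ (k : ℕ) := by
    have h2 := congrArg (fun g : K ≃ₐ[ZMod p] K => g x) hk
    simp only [AlgEquiv.coe_pow, FiniteField.coe_frobeniusAlgEquivOfAlgebraic_iterate, ZMod.card] at h2
    exact h2.symm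
  rw [iterateFrobeniusEquiv_def, h1, map_pow]

omit hF in
theorem iota_eq (K : Type*) [Field K] :
    ∃ J : GL (Fin 2) K, (AutPSL.Basic.iota : MulAut (Matrix.ProjectiveSpecialLinearGroup (Fin 2) K)) =
      AutPSL.Basic.gAut J := by
  refine ⟨⟨!![0, 1; -1, 0], !![0, -1; 1, 0], by ext i j; fin_cases i <;> fin_cases j <;> simp,
    by ext i j; fin_cases i <;> fin_cases j <;> simp⟩, ?_⟩
  rw [AutPSL.Basic.iota, AutPSL.Basic.gAut, MonoidHom.comp_apply]
  congr 1
  refine MulEquiv.ext fun s => Subtype.ext ?_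
  change ((s⁻¹ : SL(2, K)) : Matrix (Fin 2) (Fin 2) K)ᵀ = _ * (s : Matrix (Fin 2) (Fin 2) K) * _
  rw [Matrix.SpecialLinearGroup.coe_inv, Matrix.adjugate_fin_two]
  ext i j
  fin_cases i <;> fin_cases j <;> simp [Matrix.mul_apply, Fin.sum_univ_two, Matrix.vecMul, dotProduct]

omit hF in
/-- An automorphism of `SL₂` over a finite field with at least four elements is semilinear. -/
theorem sl_aut {K : Type u} [Field K] [Fintype K] (h4 : 4 ≤ Fintype.card K) (β : MulAut SL(2, K)) :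
    ∃ (g : GL (Fin 2) K) (τ : K ≃+* K), β = AutPSL.Basic.conjSL g * AutPSL.Basic.fieldSL τ := by
  obtain ⟨g, τ, γ, hγ, h⟩ := AutPSL.Main.exists_decomp le_rfl (AutPSL.Basic.descend β)
  obtain ⟨g', hg'⟩ : ∃ g' : GL (Fin 2) K, AutPSL.Basic.descend β =
      AutPSL.Basic.gAut g' * AutPSL.Basic.fAut τ := by
    rcases hγ with rfl | rfl
    · exact ⟨g, by rw [h, mul_one]⟩
    · obtain ⟨J, hJ⟩ := iota_eq K
      exact ⟨g * AutPSL.Main.fieldGL τ J, by
        rw [h, hJ, mul_assoc, AutPSL.Main.fAut_mul_gAut, ← mul_assoc, ← map_mul]⟩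
  refine ⟨g', τ, ?_⟩
  set β' := AutPSL.Basic.conjSL g' * AutPSL.Basic.fieldSL τ with hβ'
  have hd : AutPSL.Basic.descend (β'⁻¹ * β) = 1 := by
    rw [map_mul, map_inv, hg', hβ', map_mul]
    exact inv_mul_cancel _
  set δ := β'⁻¹ * β with hδ
  have hz : ∀ s : SL(2, K), s⁻¹ * δ s ∈ Subgroup.center SL(2, K) := fun s => by
    rw [← QuotientGroup.eq]
    have := DFunLike.congr_fun hd (QuotientGroup.mk s)
    rw [AutPSL.Basic.descend_mk] at this
    exact this.symm
  have hfix : ∀ s : SL(2, K), δ s = s := by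
    let T : Subgroup SL(2, K) := δ.toMonoidHom.eqLocus (MonoidHom.id _)
    have hT : commutator SL(2, K) ≤ T := by
      rw [commutator_def, Subgroup.commutator_le]
      intro a _ b _
      obtain ⟨za, hza, ea⟩ : ∃ w ∈ Subgroup.center SL(2, K), δ a = a * w :=
        ⟨a⁻¹ * δ a, hz a, (mul_inv_cancel_left a _).symm⟩
      obtain ⟨zb, hzb, eb⟩ : ∃ w ∈ Subgroup.center SL(2, K), δ b = b * w :=
        ⟨b⁻¹ * δ b, hz b, (mul_inv_cancel_left b _).symm⟩
      show δ ⁅a, b⁆ = ⁅a, b⁆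
      have ca := Subgroup.mem_center_iff.1 hza
      have cb := Subgroup.mem_center_iff.1 hzb
      rw [map_commutatorElement, ea, eb, commutatorElement_def, commutatorElement_def, _root_.mul_inv_rev, _root_.mul_inv_rev]
      calc a * za * (b * zb) * (za⁻¹ * a⁻¹) * (zb⁻¹ * b⁻¹)
          = a * (za * (b * zb)) * za⁻¹ * a⁻¹ * (zb⁻¹ * b⁻¹) := by simp only [mul_assoc]
        _ = a * b * (zb * a⁻¹) * zb⁻¹ * b⁻¹ := by
            rw [← ca (b * zb)]; simp only [mul_assoc, mul_inv_cancel_left]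
        _ = a * b * a⁻¹ * b⁻¹ := by rw [← cb a⁻¹]; simp only [mul_assoc, mul_inv_cancel_left]
    intro s
    have hs : s ∈ T := hT (by rw [SL2Rep.commutator_two_eq_top (F := K) h4]; trivial)
    exact hs
  have h1 : δ = 1 := MulEquiv.ext hfix
  rw [hδ, inv_mul_eq_one] at h1
  exact h1.symm

/-- Automorphisms of `SU₂(q)` are semilinear. -/
theorem aut_form (hq : 3 < q) (α : MulAut (Cfsg.SU 2 F q)) :
    ∃ (σ : F ≃+* F) (h h' : Matrix (Fin 2) (Fin 2) F), h * h' = 1 ∧ h' * h = 1 ∧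
      ∀ x, mat (α x) = h * (mat x).map σ * h' := by
  have : Fintype (fixField hF) := Fintype.ofFinite _
  have hK : Fintype.card (fixField hF) = q := by rw [← Nat.card_eq_fintype_card, natCard_fixField hF]
  obtain ⟨ι, P, φ, hP, hφ⟩ := exists_explicit hF (fixField hF) hK
  obtain ⟨g, τ, hβ⟩ := sl_aut (K := fixField hF) (by omega) ((φ.trans α).trans φ.symm)
  obtain ⟨σ, hσ⟩ := exists_extend ι τ
  set gm : Matrix (Fin 2) (Fin 2) F := ((g : GL (Fin 2) (fixField hF)) : Matrix _ _ (fixField hF)).map ι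
  set gi : Matrix (Fin 2) (Fin 2) F := ((g⁻¹ : GL (Fin 2) (fixField hF)) : Matrix _ _ (fixField hF)).map ι
  have hg1 : gm * gi = 1 := by
    rw [← Matrix.map_mul, Units.mul_inv, Matrix.map_one ι ι.map_zero ι.map_one]
  have hg2 : gi * gm = 1 := by
    rw [← Matrix.map_mul, Units.inv_mul, Matrix.map_one ι ι.map_zero ι.map_one]
  have hP1 : P.map σ * P⁻¹.map σ = 1 := by
    rw [← Matrix.map_mul, Matrix.mul_nonsing_inv _ hP, Matrix.map_one σ σ.map_zero σ.map_one]
  have hP2 : P⁻¹.map σ * P.map σ = 1 := by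
    rw [← Matrix.map_mul, Matrix.nonsing_inv_mul _ hP, Matrix.map_one σ σ.map_zero σ.map_one]
  refine ⟨σ, P * gm * P⁻¹.map σ, P.map σ * gi * P⁻¹, ?_, ?_, fun x => ?_⟩
  · calc P * gm * P⁻¹.map σ * (P.map σ * gi * P⁻¹) = P * (gm * (P⁻¹.map σ * P.map σ) * gi) * P⁻¹ := by
          simp only [mul_assoc]
      _ = 1 := by rw [hP2, mul_one, hg1, mul_one, Matrix.mul_nonsing_inv _ hP]
  · calc P.map σ * gi * P⁻¹ * (P * gm * P⁻¹.map σ) = P.map σ * (gi * (P⁻¹ * P) * gm) * P⁻¹.map σ := by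
          simp only [mul_assoc]
      _ = 1 := by rw [Matrix.nonsing_inv_mul _ hP, mul_one, hg2, mul_one, hP1]
  · obtain ⟨s, rfl⟩ := φ.surjective x
    have h1 : α (φ s) = φ (AutPSL.Basic.conjSL g (AutPSL.Basic.fieldSL τ s)) := by
      have := DFunLike.congr_fun hβ s
      simp only [MulEquiv.trans_apply, MulAut.mul_apply] at this
      rw [← this, MulEquiv.apply_symm_apply]
    rw [h1, hφ, hφ]
    have h2 : ((AutPSL.Basic.conjSL g (AutPSL.Basic.fieldSL τ s) : SL(2, fixField hF)) :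
        Matrix _ _ (fixField hF)).map ι = gm * ((s : Matrix _ _ (fixField hF)).map ι).map σ * gi := by
      have e0 : ((AutPSL.Basic.conjSL g (AutPSL.Basic.fieldSL τ s) : SL(2, fixField hF)) :
          Matrix (Fin 2) (Fin 2) (fixField hF)) = ((g : GL (Fin 2) (fixField hF)) : Matrix (Fin 2) (Fin 2) (fixField hF)) *
            (s : Matrix (Fin 2) (Fin 2) (fixField hF)).map (τ : fixField hF → fixField hF) *
            ((g⁻¹ : GL (Fin 2) (fixField hF)) : Matrix (Fin 2) (Fin 2) (fixField hF)) := rfl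
      rw [e0]
      rw [Matrix.map_mul, Matrix.map_mul]
      congr 2
      ext i j
      simp [hσ]
    rw [h2, map_mul_conj]
    calc P * (gm * ((s : Matrix _ _ (fixField hF)).map ι).map σ * gi) * P⁻¹
        = P * gm * ((P⁻¹.map σ * P.map σ) * ((s : Matrix _ _ (fixField hF)).map ι).map σ *
            (P⁻¹.map σ * P.map σ)) * gi * P⁻¹ := by rw [hP2, one_mul, mul_one]; simp only [mul_assoc]
      _ = P * gm * P⁻¹.map σ * (P.map σ * ((s : Matrix _ _ (fixField hF)).map ι).map σ * P⁻¹.map σ) *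
          (P.map σ * gi * P⁻¹) := by simp only [mul_assoc]

/-- The shape of an element of `SU₂(q)`. -/
theorem shape (x : Cfsg.SU 2 F q) :
    mat x 1 1 = mat x 0 0 ^ q ∧ mat x 1 0 = -(mat x 0 1 ^ q) ∧ mat x 0 1 = -(mat x 1 0 ^ q) ∧
      mat x 0 0 * mat x 0 0 ^ q + mat x 0 1 * mat x 0 1 ^ q = 1 := by
  have key : ∀ i j : Fin 2, mat x⁻¹ i j = mat x j i ^ q := by
    intro i j
    have h1 : mat x⁻¹ i j = (mat x⁻¹ *ᵥ (Pi.single j 1 : Fin 2 → F)) i := by
      rw [Matrix.mulVec_single_one, Matrix.col_apply]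
    rw [h1, ← H_single_right hF (mat x⁻¹ *ᵥ _), ← SU_H x, ← mul_mulVec, mul_inv_cancel, mat_one, one_mulVec,
      ← H_conj hF (mat x *ᵥ (Pi.single i 1 : Fin 2 → F)), H_single_right hF, Matrix.mulVec_single_one,
      Matrix.col_apply]
  have hadj : mat x⁻¹ = (mat x).adjugate := rfl
  rw [hadj, Matrix.adjugate_fin_two] at key
  have h00 := key 0 0
  have h01 := key 0 1
  have h10 := key 1 0
  simp at h00 h01 h10
  have hd : mat x 0 0 * mat x 1 1 - mat x 0 1 * mat x 1 0 = 1 := by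
    rw [← Matrix.det_fin_two]; exact x.1.2
  refine ⟨h00, ?_, ?_, ?_⟩
  · linear_combination -h10
  · linear_combination -h01
  · linear_combination hd - mat x 0 0 * h00 - mat x 0 1 * h10

omit hF in
/-- Diagonal. -/
def Diag (x : Cfsg.SU 2 F q) : Prop := mat x 0 1 = 0

theorem exists_diag {t : F} (ht : t ^ (q + 1) = 1) :
    ∃ d : Cfsg.SU 2 F q, Diag d ∧ mat d 0 0 = t := by
  obtain ⟨c, d, hd, hdet⟩ : ∃ (c : Fin 2 → F) (d : Cfsg.SU 2 F q), mat d = Matrix.diagonal c ∧ c 0 = t := by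
    have ht0 : t ≠ 0 := fun h => by simp [h] at ht
    have hc : ∀ i, (![t, t⁻¹] : Fin 2 → F) i ^ (q + 1) = 1 := fun i => by
      fin_cases i <;> simp [inv_pow, ht]
    exact ⟨![t, t⁻¹], suMk (Matrix.diagonal ![t, t⁻¹]) (by simp [Matrix.det_diagonal, Fin.prod_univ_two, ht0])
      (diag_preserves hF _ hc), rfl, rfl⟩
  exact ⟨d, by simp [Diag, hd], by simp [hd, hdet]⟩

/-- An element of norm one other than `±1`. -/
theorem exists_tor (hq : 2 < q) : ∃ t : F, t ^ (q + 1) = 1 ∧ t * t ≠ 1 := by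
  classical
  by_contra hc
  push Not at hc
  have hμc : Nat.card (powMonoidHom (q + 1) : Fˣ →* Fˣ).ker = q + 1 := by
    rw [IsCyclic.card_powMonoidHom_ker, natCard_units_F hF, Nat.gcd_mul_left_left]
  let ι : (powMonoidHom (q + 1) : Fˣ →* Fˣ).ker → ({1, -1} : Finset F) := fun u =>
    ⟨((u : Fˣ) : F), by
      have h1 := hc ((u : Fˣ) : F) (by simpa using congrArg Units.val u.2)
      rcases mul_self_eq_one_iff.1 h1 with h | h <;> simp [h]⟩
  have hι : Function.Injective ι := fun u u' h => Subtype.ext (Units.ext (congrArg Subtype.val h))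
  have h2 := Nat.card_le_card_of_injective ι hι
  rw [hμc, Nat.card_eq_fintype_card, Fintype.card_coe] at h2
  have : ({1, -1} : Finset F).card ≤ 2 := Finset.card_le_two
  omega

/-- An automorphism normalising the diagonal torus is diagonal times field. -/
theorem aut_diag_big (hq : 3 < q) (α : MulAut (Cfsg.SU 2 F q)) (hα : ∀ x, Diag x → Diag (α x)) :
    ∃ (σ : F ≃+* F) (c : F), c ^ (q + 1) = 1 ∧
      ∀ x, mat (α x) 0 0 = σ (mat x 0 0) ∧ mat (α x) 0 1 = c * σ (mat x 0 1) := by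
  obtain ⟨σ, h, h', hh, hh', hform⟩ := aut_form hF hq α
  suffices key : ∃ (σ' : F ≃+* F) (c : F),
      ∀ x, mat (α x) 0 0 = σ' (mat x 0 0) ∧ mat (α x) 0 1 = c * σ' (mat x 0 1) by
    obtain ⟨σ', c, hk⟩ := key
    obtain ⟨J, hJ⟩ := exists_su_frame hF (n := 2) (f := ![(Pi.single 0 1 : Fin 2 → F)])
      (f' := ![(Pi.single 1 1 : Fin 2 → F)]) (by omega) (one_frame (by rw [H_single_single hF, if_pos rfl]))
      (one_frame (by rw [H_single_single hF, if_pos rfl]))
    have hJ' : ∀ i, mat J i 0 = (Pi.single 1 1 : Fin 2 → F) i := fun i => by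
      have : (mat J *ᵥ (Pi.single 0 1 : Fin 2 → F)) i = (Pi.single 1 1 : Fin 2 → F) i := congrFun (hJ 0) i
      rwa [Matrix.mulVec_single_one, Matrix.col_apply] at this
    obtain ⟨-, -, hJ01, -⟩ := shape hF J
    have h00 : mat J 0 0 = 0 := by rw [hJ']; simp
    have h10 : mat J 1 0 = 1 := by rw [hJ']; simp
    rw [h10, one_pow] at hJ01
    obtain ⟨e0, e1⟩ := hk J
    rw [h00, map_zero] at e0
    rw [hJ01, map_neg, map_one] at e1
    obtain ⟨-, -, -, hn⟩ := shape hF (α J)
    rw [e0, zero_mul, zero_add, e1, ← pow_succ'] at hn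
    refine ⟨σ', c, ?_, hk⟩
    rw [pow_succ] at hn ⊢
    rw [mul_neg, mul_one, neg_eq_neg_one_mul, mul_pow,
      show ((-1 : F)) ^ q = -1 by rw [← HermStd.qHom_apply hF, map_neg, map_one]] at hn
    linear_combination hn
  obtain ⟨t, ht, ht2⟩ := exists_tor hF (by omega)
  obtain ⟨d, hd, hdt⟩ := exists_diag hF ht
  have hd01 : mat d 0 1 = 0 := hd
  obtain ⟨hd11, hd10, -, -⟩ := shape hF d
  rw [hd01, zero_pow (by omega), neg_zero] at hd10
  rw [hdt] at hd11
  have ha01 : mat (α d) 0 1 = 0 := hα d hd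
  obtain ⟨-, ha10, -, -⟩ := shape hF (α d)
  rw [ha01, zero_pow (by omega), neg_zero] at ha10
  have hne : σ t ≠ σ (t ^ q) := fun he => by
    apply ht2
    have := σ.injective he
    rw [pow_succ, ← this] at ht
    exact ht
  have e : h * (mat d).map σ = mat (α d) * h := by
    rw [hform, mul_assoc _ h' h, hh', mul_one]
  have ent : ∀ i, h i 0 * σ t = mat (α d) i i * h i 0 ∧ h i 1 * σ (t ^ q) = mat (α d) i i * h i 1 := by
    intro i
    have h0 := congrFun (congrFun e i) 0
    have h1 := congrFun (congrFun e i) 1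
    simp only [Matrix.mul_apply, Fin.sum_univ_two, Matrix.map_apply] at h0 h1
    rw [hd10, map_zero, hdt, mul_zero, add_zero] at h0
    rw [hd01, map_zero, hd11, mul_zero, zero_add] at h1
    refine ⟨h0.trans ?_, h1.trans ?_⟩ <;> fin_cases i <;> simp [ha01, ha10]
  have hrow : ∀ i, h i 0 = 0 ∨ h i 1 = 0 := by
    intro i
    by_contra hcon
    push Not at hcon
    obtain ⟨h0, h1⟩ := ent i
    have e0 : σ t = mat (α d) i i := mul_left_cancel₀ hcon.1 (h0.trans (mul_comm _ _))
    have e1 : σ (t ^ q) = mat (α d) i i := mul_left_cancel₀ hcon.2 (h1.trans (mul_comm _ _))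
    exact hne (e0.trans e1.symm)
  have hprod : ∀ i j, h i 0 * h' 0 j + h i 1 * h' 1 j = (1 : Matrix (Fin 2) (Fin 2) F) i j := fun i j => by
    rw [← hh, Matrix.mul_apply, Fin.sum_univ_two]
  have hprod' : ∀ i j, h' i 0 * h 0 j + h' i 1 * h 1 j = (1 : Matrix (Fin 2) (Fin 2) F) i j := fun i j => by
    rw [← hh', Matrix.mul_apply, Fin.sum_univ_two]
  have p00 := hprod 0 0
  have p11 := hprod 1 1
  have p01 := hprod 0 1
  have p10 := hprod 1 0
  simp at p00 p11 p01 p10
  have comp : ∀ x j, mat (α x) 0 j = (h 0 0 * σ (mat x 0 0) + h 0 1 * σ (mat x 1 0)) * h' 0 j +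
      (h 0 0 * σ (mat x 0 1) + h 0 1 * σ (mat x 1 1)) * h' 1 j := fun x j => by
    rw [hform, Matrix.mul_apply, Fin.sum_univ_two]
    simp only [Matrix.mul_apply, Fin.sum_univ_two, Matrix.map_apply]
  rcases hrow 0 with h00 | h01
  · -- antidiagonal
    rw [h00, zero_mul, zero_add] at p00 p01
    have h01 : h 0 1 ≠ 0 := fun hz => by rw [hz, zero_mul] at p00; exact zero_ne_one p00
    have h11' : h' 1 1 = 0 := (mul_eq_zero.1 p01).resolve_left h01
    have h11 : h 1 1 = 0 := by
      rcases hrow 1 with h10 | h11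
      · exfalso
        rw [h10, zero_mul, zero_add, h11', mul_zero] at p11
        exact zero_ne_one p11
      · exact h11
    have h00' : h' 0 0 = 0 := by
      rw [h11, zero_mul, add_zero] at p10 p11
      refine (mul_eq_zero.1 p10).resolve_left fun hz => ?_
      rw [hz, zero_mul] at p11
      exact zero_ne_one p11
    let qE : F ≃+* F := RingEquiv.ofBijective (HermStd.qHom hF)
      ⟨(HermStd.qHom hF).injective, Finite.injective_iff_surjective.1 (HermStd.qHom hF).injective⟩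
    refine ⟨qE.trans σ, -(h 0 1 * h' 0 1), fun x => ?_⟩
    obtain ⟨s11, s10, -, -⟩ := shape hF x
    have hqE : ∀ y, qE.trans σ y = σ (y ^ q) := fun y => by
      show σ (HermStd.qHom hF y) = _
      rw [HermStd.qHom_apply]
    rw [hqE, hqE]
    constructor
    · rw [comp, h00, h00', s11]
      linear_combination σ (mat x 0 0 ^ q) * p00
    · rw [comp, h00, h11', s10, map_neg]
      ring
  · rw [h01, zero_mul, add_zero] at p00 p01
    have h00 : h 0 0 ≠ 0 := fun hz => by rw [hz, zero_mul] at p00; exact zero_ne_one p00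
    have h01' : h' 0 1 = 0 := (mul_eq_zero.1 p01).resolve_left h00
    have h10 : h 1 0 = 0 := by
      rcases hrow 1 with h10 | h11
      · exact h10
      · exfalso
        rw [h11, zero_mul, add_zero, h01', mul_zero] at p11
        exact zero_ne_one p11
    have h10' : h' 1 0 = 0 := by
      rw [h10, zero_mul, zero_add] at p10 p11
      refine (mul_eq_zero.1 p10).resolve_left fun hz => ?_
      rw [hz, zero_mul] at p11
      exact zero_ne_one p11
    refine ⟨σ, h 0 0 * h' 1 1, fun x => ⟨?_, ?_⟩⟩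
    · rw [comp, h01, h10']
      linear_combination σ (mat x 0 0) * p00
    · rw [comp, h01, h01']
      ring

theorem ext_two {a b : Cfsg.SU 2 F q} (h0 : mat a 0 0 = mat b 0 0) (h1 : mat a 0 1 = mat b 0 1) : a = b := by
  obtain ⟨a11, a10, -, -⟩ := shape hF a
  obtain ⟨b11, b10, -, -⟩ := shape hF b
  refine SU_ext fun x => funext fun i => ?_
  fin_cases i <;> simp [Matrix.mulVec, dotProduct, Fin.sum_univ_two, a11, a10, b11, b10, h0, h1]

theorem exists_mk {x y : F} (h : x * x ^ q + y * y ^ q = 1) :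
    ∃ g : Cfsg.SU 2 F q, mat g 0 0 = x ∧ mat g 0 1 = y := by
  refine ⟨suMk !![x, y; -(y ^ q), x ^ q] ?_ ?_, rfl, rfl⟩
  · rw [Matrix.det_fin_two_of]; linear_combination h
  · intro u v
    simp only [Cfsg.hermForm, Fin.sum_univ_two, Matrix.mulVec, dotProduct]
    have hneg : ∀ z : F, (-z) ^ q = -(z ^ q) := fun z => by rw [← HermStd.qHom_apply hF, map_neg, HermStd.qHom_apply]
    simp [HermStd.add_pow_q hF, mul_pow, pow_qq hF, hneg]
    linear_combination (u 0 * v 0 ^ q + u 1 * v 1 ^ q) * h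

/-- The case of nine elements. -/
theorem aut_diag_three (hq : q = 3) (α : MulAut (Cfsg.SU 2 F q)) (hα : ∀ x, Diag x → Diag (α x)) :
    ∃ (σ : F ≃+* F) (c : F), c ^ (q + 1) = 1 ∧
      ∀ x, mat (α x) 0 0 = σ (mat x 0 0) ∧ mat (α x) 0 1 = c * σ (mat x 0 1) := by
  subst hq
  have h9 : Fintype.card F = 9 := by rw [hF]; norm_num
  have h3 : (3 : F) = 0 := by
    have h := Nat.cast_card_eq_zero F
    rw [h9] at h
    exact mul_self_eq_zero.1 (show (3 : F) * 3 = 0 by linear_combination h)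
  obtain ⟨t, ht, ht2⟩ := exists_tor hF (by norm_num)
  have hts : t * t = -1 := by
    have : (t * t - 1) * (t * t + 1) = 0 := by linear_combination ht
    rcases mul_eq_zero.1 this with h | h
    · exact absurd (sub_eq_zero.1 h) ht2
    · exact eq_neg_of_add_eq_zero_left h
  have ht3 : t ^ 3 = -t := by linear_combination t * hts
  obtain ⟨d, hd, hdt⟩ := exists_diag hF ht
  have hd01 : mat d 0 1 = 0 := hd
  obtain ⟨w, hw0, hw1⟩ := exists_mk hF (q := 3) (x := 0) (y := 1) (by norm_num)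
  have mul_ent : ∀ a b : Cfsg.SU 2 F 3, ∀ i j, mat (a * b) i j = mat a i 0 * mat b 0 j + mat a i 1 * mat b 1 j :=
    fun a b i j => by rw [show mat (a * b) = mat a * mat b from rfl, Matrix.mul_apply, Fin.sum_univ_two]
  obtain ⟨d11, d10, -, -⟩ := shape hF d
  obtain ⟨w11, w10, -, -⟩ := shape hF w
  rw [hd01, zero_pow (by norm_num), neg_zero] at d10
  rw [hdt, ht3] at d11
  rw [hw1, one_pow] at w10
  rw [hw0, zero_pow (by norm_num)] at w11
  have units : ∀ z : F, z ^ (3 + 1) = 1 → ∃ k : ℕ, z = t ^ k := by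
    intro z hz
    have h : (z - 1) * (z + 1) * ((z - t) * (z + t)) = 0 := by
      linear_combination hz - (z * z - 1) * hts
    rcases mul_eq_zero.1 h with h | h <;> rcases mul_eq_zero.1 h with h | h
    · exact ⟨0, by linear_combination h⟩
    · exact ⟨2, by linear_combination h - hts⟩
    · exact ⟨1, by linear_combination h⟩
    · exact ⟨3, by linear_combination h - ht3⟩
  have dpow : ∀ k : ℕ, mat (d ^ k) 0 0 = t ^ k ∧ mat (d ^ k) 0 1 = 0 := by
    intro k
    induction k with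
    | zero => simp [mat_one]
    | succ k ih =>
      rw [pow_succ d k, mul_ent, mul_ent, ih.1, ih.2, hdt, hd01, d10]
      constructor <;> ring
  -- the quaternion subgroup
  have quat : ∀ z : Cfsg.SU 2 F 3, mat z 0 0 + mat z 0 0 ^ 3 = 0 → ∃ k : ℕ, z = d ^ k ∨ z = d ^ k * w := by
    intro z hz
    obtain ⟨-, -, -, hn⟩ := shape hF z
    have : mat z 0 0 * (mat z 0 0 * mat z 0 0 + 1) = 0 := by linear_combination hz
    rcases mul_eq_zero.1 this with h | h
    · rw [h, zero_mul, zero_add, ← pow_succ'] at hn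
      obtain ⟨k, hk⟩ := units _ hn
      refine ⟨k, Or.inr (ext_two hF ?_ ?_)⟩
      · rw [mul_ent, hw0, w10, (dpow k).1, (dpow k).2, h]; ring
      · rw [mul_ent, hw1, (dpow k).1, (dpow k).2, hk]; ring
    · have hz1 : mat z 0 0 ^ (3 + 1) = 1 := by linear_combination (mat z 0 0 * mat z 0 0 - 1) * h
      have hy : mat z 0 1 * mat z 0 1 ^ 3 = 0 := by linear_combination hn - hz1
      have hy0 : mat z 0 1 = 0 := by
        rcases mul_eq_zero.1 hy with h | h
        · exact h
        · exact (pow_eq_zero_iff (by norm_num)).1 h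
      obtain ⟨k, hk⟩ := units _ hz1
      exact ⟨k, Or.inl (ext_two hF (by rw [(dpow k).1, hk]) (by rw [(dpow k).2, hy0]))⟩
  -- field part
  obtain ⟨a11, a10, -, an⟩ := shape hF (α d)
  have ha01 : mat (α d) 0 1 = 0 := hα d hd
  rw [ha01, zero_mul, add_zero, ← pow_succ'] at an
  rw [ha01, zero_pow (by norm_num), neg_zero] at a10
  have d2 : ∀ z : Cfsg.SU 2 F 3, mat z 0 1 = 0 → mat z 0 0 * mat z 0 0 = 1 → mat (z * z) 0 0 = 1 ∧ mat (z * z) 0 1 = 0 := by
    intro z h1 h2
    rw [mul_ent, mul_ent, h1]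
    constructor
    · linear_combination h2
    · ring
  have had : mat (α d) 0 0 = t ∨ mat (α d) 0 0 = t ^ 3 := by
    obtain ⟨k, hk⟩ := units _ an
    have hne : mat (α d) 0 0 * mat (α d) 0 0 ≠ 1 := by
      intro h2
      obtain ⟨e0, e1⟩ := d2 _ ha01 h2
      have : α (d * d) = 1 := by
        rw [map_mul]
        exact ext_two hF (by rw [e0, mat_one, Matrix.one_apply_eq])
          (by rw [e1, mat_one, Matrix.one_apply_ne (by decide)])
      have h5 := congrArg (fun g => mat g 0 0) ((map_eq_one_iff α α.injective).1 this)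
      simp only [mul_ent, hdt, hd01, mat_one, Matrix.one_apply_eq] at h5
      exact ht2 (by linear_combination h5)
    have hk4 : t ^ k = t ^ (k % 4) := by
      rw [← Nat.div_add_mod k 4, pow_add, pow_mul, show t ^ 4 = 1 from ht, one_pow, one_mul]
      simp
    rw [hk4] at hk
    have := Nat.mod_lt k (show 4 > 0 by norm_num)
    rcases (show k % 4 = 0 ∨ k % 4 = 1 ∨ k % 4 = 2 ∨ k % 4 = 3 by omega) with h | h | h | h <;> rw [h] at hk
    · exact absurd (by rw [hk]; ring) hne
    · exact Or.inl (by rw [hk, pow_one])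
    · exact absurd (by rw [hk]; linear_combination (t * t - 1) * hts) hne
    · exact Or.inr hk
  let qE : F ≃+* F := RingEquiv.ofBijective (HermStd.qHom hF)
    ⟨(HermStd.qHom hF).injective, Finite.injective_iff_surjective.1 (HermStd.qHom hF).injective⟩
  obtain ⟨σ, hσ⟩ : ∃ σ : F ≃+* F, σ t = mat (α d) 0 0 := by
    rcases had with h | h
    · exact ⟨RingEquiv.refl F, h.symm⟩
    · exact ⟨qE, by rw [h]; show HermStd.qHom hF t = _; rw [HermStd.qHom_apply]⟩
  have hσq : ∀ y, σ (y ^ 3) = σ y ^ 3 := fun y => map_pow σ y 3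
  -- the second generator goes antidiagonal
  obtain ⟨ew11, ew10, -, ewn⟩ := shape hF (α w)
  have hwd : d * w * d = w := by
    refine ext_two hF ?_ ?_ <;> simp only [mul_ent, hw0, hw1, w10, w11, hdt, hd01, d10, d11]
    · ring
    · linear_combination (-1 : F) * hts
  have haw0 : mat (α w) 0 0 = 0 := by
    have h5 := congrArg (fun g => mat g 0 0) (congrArg α hwd)
    simp only [map_mul, mul_ent, ha01, a10] at h5
    have h6 : (mat (α d) 0 0 * mat (α d) 0 0 - 1) * mat (α w) 0 0 = 0 := by linear_combination h5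
    refine (mul_eq_zero.1 h6).resolve_left fun h7 => ht2 ?_
    apply σ.injective
    rw [map_mul, hσ, map_one]
    linear_combination h7
  set c := mat (α w) 0 1 with hc
  have hc1 : c ^ (3 + 1) = 1 := by
    rw [haw0, zero_mul, zero_add, ← pow_succ'] at ewn
    exact ewn
  have hc0 : c ≠ 0 := fun h => by rw [h, zero_pow (by norm_num)] at hc1; exact zero_ne_one hc1
  -- the model
  have hpres : ∀ x : Cfsg.SU 2 F 3, σ (mat x 0 0) * σ (mat x 0 0) ^ 3 + c * σ (mat x 0 1) * (c * σ (mat x 0 1)) ^ 3 = 1 := by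
    intro x
    obtain ⟨-, -, -, hn⟩ := shape hF x
    have h6 := congrArg σ hn
    rw [map_add, map_mul, map_mul, map_one, hσq, hσq] at h6
    linear_combination h6 + (σ (mat x 0 1) ^ 4) * hc1
  choose β hβ0 hβ1 using fun x => exists_mk hF (hpres x)
  have hβm : ∀ a b, β (a * b) = β a * β b := by
    intro a b
    obtain ⟨-, a10', -, -⟩ := shape hF (β a)
    obtain ⟨b11', b10', -, -⟩ := shape hF (β b)
    obtain ⟨s11, s10, -, -⟩ := shape hF b
    refine ext_two hF ?_ ?_ <;>
      rw [mul_ent] <;> simp only [hβ0, hβ1, b10', b11', mul_ent, s10, s11, map_add, map_mul, map_neg, hσq]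
    · linear_combination (σ (mat a 0 1) * σ (mat b 0 1) ^ 3) * hc1
    · ring
  let βh : Cfsg.SU 2 F 3 →* Cfsg.SU 2 F 3 := MonoidHom.mk' β hβm
  have hβinj : Function.Injective β := by
    intro a b h
    have e0 : σ (mat a 0 0) = σ (mat b 0 0) := by rw [← hβ0, h, hβ0]
    have e1 : c * σ (mat a 0 1) = c * σ (mat b 0 1) := by rw [← hβ1, h, hβ1]
    exact ext_two hF (σ.injective e0) (σ.injective (mul_left_cancel₀ hc0 e1))
  have hβd : α d = β d := ext_two hF (by rw [hβ0, hdt, hσ]) (by rw [hβ1, hd01, map_zero, mul_zero, ha01])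
  have hβw : α w = β w := ext_two hF (by rw [hβ0, hw0, map_zero, haw0]) (by rw [hβ1, hw1, map_one, mul_one])
  -- the two agree on the quaternion group, hence everywhere up to a central character
  have agree : ∀ z, mat z 0 0 + mat z 0 0 ^ 3 = 0 → α z = β z := by
    intro z hz
    obtain ⟨k, rfl | rfl⟩ := quat z hz
    · rw [map_pow, show β (d ^ k) = β d ^ k from map_pow βh d k, hβd]
    · rw [map_mul, map_pow, hβm, show β (d ^ k) = β d ^ k from map_pow βh d k, hβd, hβw]
  have tr0 : ∀ y u : Cfsg.SU 2 F 3, mat u 0 0 + mat u 0 0 ^ 3 = 0 →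
      mat (y * u * y⁻¹) 0 0 + mat (y * u * y⁻¹) 0 0 ^ 3 = 0 := by
    intro y u hu
    obtain ⟨z11, -, -, -⟩ := shape hF (y * u * y⁻¹)
    obtain ⟨u11, -, -, -⟩ := shape hF u
    rw [← z11]
    have htr : (mat (y * u * y⁻¹)).trace = (mat u).trace := by
      rw [show mat (y * u * y⁻¹) = mat y * (mat u * mat y⁻¹) from by rw [mul_assoc]; rfl, Matrix.trace_mul_comm,
        mul_assoc, show mat y⁻¹ * mat y = mat (y⁻¹ * y) from rfl, inv_mul_cancel, mat_one, mul_one]
    rw [Matrix.trace_fin_two, Matrix.trace_fin_two, u11, hu] at htr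
    exact htr
  have hcent : ∀ u : Cfsg.SU 2 F 3, u * β d = β d * u → u * β w = β w * u →
      u = 1 ∨ (mat u 0 0 = -1 ∧ mat u 0 1 = 0) := by
    intro u e1 e2
    obtain ⟨u11, u10, -, un⟩ := shape hF u
    have f1 := congrArg (fun g => mat g 0 1) e1
    have f2 := congrArg (fun g => mat g 0 1) e2
    obtain ⟨bd11, bd10, -, -⟩ := shape hF (β d)
    obtain ⟨bw11, bw10, -, -⟩ := shape hF (β w)
    simp only [mul_ent, hβ0, hβ1, bd11, bw11, hdt, hd01, hw0, hw1, map_zero, map_one, mul_zero, zero_mul, mul_one,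
      zero_pow (show (3 : ℕ) ≠ 0 by norm_num), add_zero, zero_add, u11] at f1 f2
    have hne : σ t ^ 3 - σ t ≠ 0 := by
      rw [← hσq, ht3, map_neg]
      intro h7
      have h8 : σ t = 0 := by linear_combination h7 + σ t * h3
      rw [(map_eq_zero σ).1 h8, zero_mul] at hts
      exact one_ne_zero (show (1 : F) = 0 by linear_combination hts)
    have u01 : mat u 0 1 = 0 :=
      (mul_eq_zero.1 (show (σ t ^ 3 - σ t) * mat u 0 1 = 0 by linear_combination f1)).resolve_left hne
    have ureal : mat u 0 0 ^ 3 = mat u 0 0 := mul_left_cancel₀ hc0 (by linear_combination -f2)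
    rw [u01, zero_mul, add_zero, ureal] at un
    rcases mul_self_eq_one_iff.1 un with h | h
    · left
      exact ext_two hF (by rw [h, mat_one, Matrix.one_apply_eq]) (by rw [u01, mat_one, Matrix.one_apply_ne (by decide)])
    · exact Or.inr ⟨h, u01⟩
  let χ : Cfsg.SU 2 F 3 → Cfsg.SU 2 F 3 := fun y => (β y)⁻¹ * α y
  have hχ : ∀ y, χ y * β d = β d * χ y ∧ χ y * β w = β w * χ y := by
    intro y
    have main : ∀ g, mat g 0 0 + mat g 0 0 ^ 3 = 0 → χ y * β g = β g * χ y := by
      intro g hg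
      have h1 := agree _ (tr0 y g hg)
      rw [map_mul, map_mul, map_inv, agree g hg, hβm, hβm, show β y⁻¹ = (β y)⁻¹ from map_inv βh y] at h1
      calc χ y * β g = (β y)⁻¹ * (α y * β g * (α y)⁻¹) * α y := by simp only [χ]; group
        _ = β g * χ y := by rw [h1]; simp only [χ]; group
    exact ⟨main d (by rw [hdt, ht3]; ring), main w (by rw [hw0]; ring)⟩
  have scal : ∀ u : Cfsg.SU 2 F 3, mat u 0 0 = -1 → mat u 0 1 = 0 → (∀ z, u * z = z * u) ∧ u * u = 1 := by
    intro u h0 h1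
    obtain ⟨x11, x10, -, -⟩ := shape hF u
    rw [h1, zero_pow (by norm_num), neg_zero] at x10
    rw [h0] at x11
    refine ⟨fun z => ext_two hF ?_ ?_, ext_two hF ?_ ?_⟩
    · rw [mul_ent, mul_ent, h0, h1, x10]; ring
    · rw [mul_ent, mul_ent, h0, h1, x11]; ring
    · rw [mul_ent, h0, h1, x10, mat_one, Matrix.one_apply_eq]; ring
    · rw [mul_ent, h0, h1, mat_one, Matrix.one_apply_ne (by decide)]; ring
  have hχc : ∀ y z, χ y * z = z * χ y := by
    intro y z
    rcases hcent _ (hχ y).1 (hχ y).2 with h | ⟨h0, h1⟩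
    · rw [h, one_mul, mul_one]
    · exact (scal _ h0 h1).1 z
  let χh : Cfsg.SU 2 F 3 →* Cfsg.SU 2 F 3 := MonoidHom.mk' χ fun a b => by
    show (β (a * b))⁻¹ * α (a * b) = χ a * ((β b)⁻¹ * α b)
    rw [hβm, map_mul, _root_.mul_inv_rev, ← mul_assoc (χ a), hχc a]
    simp only [χ]
    group
  have : Fact (Nat.Prime 3) := ⟨Nat.prime_three⟩
  have : Fact (Nat.Prime 2) := ⟨Nat.prime_two⟩
  have : CharP F 3 := (CharP.charP_iff_prime_eq_zero Nat.prime_three).2 (by exact_mod_cast h3)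
  refine ⟨σ, c, hc1, fun x => ?_⟩
  suffices hx : α x = β x by rw [hx]; exact ⟨hβ0 x, hβ1 x⟩
  obtain ⟨m, hm, hmem⟩ := Point.coAb_of_ne_char hF 3 (r := 2) (by norm_num) (n := 2) (by norm_num) (by norm_num) x
  have hsq : χ x * χ x = 1 := by
    rcases hcent _ (hχ x).1 (hχ x).2 with h | ⟨h0, h1⟩
    · rw [h, one_mul]
    · exact (scal _ h0 h1).2
  have hcomm : commutator (Cfsg.SU 2 F 3) ≤ χh.ker := by
    rw [commutator_def, Subgroup.commutator_le]
    intro a _ b _
    rw [MonoidHom.mem_ker, map_commutatorElement, commutatorElement_eq_one_iff_mul_comm]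
    exact hχc a _
  have hodd : Odd m := Nat.odd_iff.2 (by omega)
  have h4 : χ x ^ m = 1 := by
    rw [show χ x = χh x from rfl, ← map_pow]
    exact hcomm hmem
  obtain ⟨j, rfl⟩ := hodd
  rw [pow_succ, pow_mul, pow_two, hsq, one_pow, one_mul] at h4
  exact (inv_mul_eq_one.1 h4).symm

/-- An automorphism normalising the diagonal torus is diagonal times field. -/
theorem aut_diag (hq : 2 < q) (α : MulAut (Cfsg.SU 2 F q)) (hα : ∀ x, Diag x → Diag (α x)) :
    ∃ (σ : F ≃+* F) (c : F), c ^ (q + 1) = 1 ∧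
      ∀ x, mat (α x) 0 0 = σ (mat x 0 0) ∧ mat (α x) 0 1 = c * σ (mat x 0 1) :=
  if h : 3 < q then aut_diag_big hF h α hα else aut_diag_three hF (by omega) α hα

end Cfsg.Agent.Phan.TwoAut
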