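import Cfsg.Agent.Lib.Phan.Glue
import Cfsg.Agent.Lib.Phan.TwoAut
import Cfsg.Agent.Lib.AutPSU.Basic
import Mathlib

/-!
Aligning the standard pairs of a weak Phan system.
-/

set_option autoImplicit false
set_option linter.unusedSectionVars false
set_option linter.unusedSimpArgs false

namespace Cfsg.Agent.Phan.Align

open Matrix
open Cfsg.Agent.Forms Cfsg.Agent.Classical Cfsg.Agent.Classical.Unitary
open Cfsg.Agent.SimpleFacts.SUMult Blocks CosetGeom
open Cfsg.Agent.Phan.Orth Cfsg.Agent.Phan.Base Cfsg.Agent.Phan.Shift Cfsg.Agent.Phan.TwoAut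

universe u v

variable {F : Type u} [Field F] [Fintype F] {q : ℕ} {G : Type v} [Group G]
variable (hF : Fintype.card F = q ^ 2)

omit [Fintype F] in
theorem diag_map_conj_det {N : ℕ} (σ : F ≃+* F) (d : Fin N → F) (hd : ∀ i, d i ≠ 0)
    (M : Matrix (Fin N) (Fin N) F) (hM : M.det = 1) :
    (Matrix.diagonal d * M.map σ * Matrix.diagonal fun i => (d i)⁻¹).det = 1 := by
  rw [det_mul, det_mul, show M.map σ = σ.toRingHom.mapMatrix M from rfl, ← RingHom.map_det, hM, map_one,
    mul_one, ← det_mul, Matrix.diagonal_mul_diagonal]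
  simp [hd]

include hF

theorem ne_of_norm {d : F} (hd : d ^ (q + 1) = 1) : d ≠ 0 := fun h => by
  rw [h, zero_pow (by omega)] at hd
  exact zero_ne_one hd

theorem theta_preserves {N : ℕ} (σ : F ≃+* F) (d : Fin N → F) (hd : ∀ i, d i ^ (q + 1) = 1)
    (g : Cfsg.SU N F q) (x y : Fin N → F) :
    Cfsg.hermForm N F q ((Matrix.diagonal d * (mat g).map σ * Matrix.diagonal fun i => (d i)⁻¹) *ᵥ x)
      ((Matrix.diagonal d * (mat g).map σ * Matrix.diagonal fun i => (d i)⁻¹) *ᵥ y) =
      Cfsg.hermForm N F q x y := by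
  have hmap : ∀ u v, Cfsg.hermForm N F q ((mat g).map σ *ᵥ u) ((mat g).map σ *ᵥ v) =
      Cfsg.hermForm N F q u v := by
    intro u v
    have e : ∀ w : Fin N → F, w = fun i => σ (σ.symm (w i)) := fun w => funext fun i => (σ.apply_symm_apply _).symm
    rw [e u, e v, AutPSU.Basic.map_mulVec_field σ (mat g), AutPSU.Basic.map_mulVec_field σ (mat g), AutPSU.Basic.hermForm_map,
      AutPSU.Basic.hermForm_map, SU_H]
  rw [← Matrix.mulVec_mulVec, ← Matrix.mulVec_mulVec, ← Matrix.mulVec_mulVec, ← Matrix.mulVec_mulVec,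
    diag_preserves hF _ hd, hmap, diag_preserves hF _ fun i => by rw [inv_pow, hd, inv_one]]

/-- Diagonal conjugation after a field automorphism. -/
noncomputable def theta {N : ℕ} (σ : F ≃+* F) (d : Fin N → F) (hd : ∀ i, d i ^ (q + 1) = 1) :
    Cfsg.SU N F q →* Cfsg.SU N F q where
  toFun g := suMk (Matrix.diagonal d * (mat g).map σ * Matrix.diagonal fun i => (d i)⁻¹)
    (diag_map_conj_det σ d (fun i => ne_of_norm hF (hd i)) _ g.1.2) (theta_preserves hF σ d hd g)
  map_one' := SU_ext fun x => by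
    rw [suMk_mulVec, mat_one, Matrix.map_one σ σ.map_zero σ.map_one, mul_one, Matrix.diagonal_mul_diagonal]
    simp [ne_of_norm hF (hd _)]
  map_mul' a b := SU_ext fun x => by
    rw [mul_mulVec, suMk_mulVec, suMk_mulVec, suMk_mulVec, Matrix.mulVec_mulVec]
    have hD : (Matrix.diagonal fun i => (d i)⁻¹) * Matrix.diagonal d = 1 := by
      rw [Matrix.diagonal_mul_diagonal]
      simp [ne_of_norm hF (hd _)]
    congr 1
    rw [show mat (a * b) = mat a * mat b from rfl, Matrix.map_mul]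
    calc Matrix.diagonal d * ((mat a).map σ * (mat b).map σ) * Matrix.diagonal (fun i => (d i)⁻¹)
        = Matrix.diagonal d * (mat a).map σ * ((Matrix.diagonal fun i => (d i)⁻¹) * Matrix.diagonal d) *
            (mat b).map σ * Matrix.diagonal (fun i => (d i)⁻¹) := by rw [hD, mul_one]; simp only [mul_assoc]
      _ = _ := by simp only [mul_assoc]

theorem theta_entry {N : ℕ} (σ : F ≃+* F) (d : Fin N → F) (hd : ∀ i, d i ^ (q + 1) = 1) (g : Cfsg.SU N F q)
    (i j : Fin N) : mat (theta hF σ d hd g) i j = d i * σ (mat g i j) * (d j)⁻¹ := by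
  show (Matrix.diagonal d * (mat g).map σ * Matrix.diagonal fun i => (d i)⁻¹) i j = _
  rw [Matrix.mul_diagonal, Matrix.diagonal_mul, Matrix.map_apply]

theorem theta_injective {N : ℕ} (σ : F ≃+* F) (d : Fin N → F) (hd : ∀ i, d i ^ (q + 1) = 1) :
    Function.Injective (theta hF σ d hd) := fun a b h => by
  have key : mat a = mat b := Matrix.ext fun i j => σ.injective (by
    have h1 : mat (theta hF σ d hd a) i j = mat (theta hF σ d hd b) i j := by rw [h]
    rw [theta_entry, theta_entry] at h1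
    exact mul_left_cancel₀ (ne_of_norm hF (hd i)) (mul_right_cancel₀ (inv_ne_zero (ne_of_norm hF (hd j))) h1))
  exact SU_ext fun x => by rw [key]

theorem theta_surjective {N : ℕ} (σ : F ≃+* F) (d : Fin N → F) (hd : ∀ i, d i ^ (q + 1) = 1) :
    Function.Surjective (theta hF σ d hd) :=
  Finite.injective_iff_surjective.1 (theta_injective hF σ d hd)

omit hF in
theorem su_ext_entries {N : ℕ} {a b : Cfsg.SU N F q} (h : ∀ i j, mat a i j = mat b i j) : a = b :=
  SU_ext fun x => by rw [Matrix.ext h]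

theorem two_ext {a b : Cfsg.SU 2 F q} (h0 : mat a 0 0 = mat b 0 0) (h1 : mat a 0 1 = mat b 0 1) : a = b := by
  obtain ⟨a11, a10, -, -⟩ := shape hF a
  obtain ⟨b11, b10, -, -⟩ := shape hF b
  refine su_ext_entries fun i j => ?_
  fin_cases i <;> fin_cases j
  · exact h0
  · exact h1
  · show mat a 1 0 = mat b 1 0
    rw [a10, b10, h1]
  · show mat a 1 1 = mat b 1 1
    rw [a11, b11, h0]

omit hF in
theorem col_entry {N : ℕ} (g : Cfsg.SU N F q) (l m : Fin N) :
    mat g l m = (mat g *ᵥ (Pi.single m 1 : Fin N → F)) l := by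
  rw [Matrix.mulVec_single_one, Matrix.col_apply]

omit hF in
theorem left_entries (a : Cfsg.SU 2 F q) :
    mat (shift 0 2 3 (by omega) a) = !![mat a 0 0, mat a 0 1, 0; mat a 1 0, mat a 1 1, 0; 0, 0, 1] := by
  ext i j
  rw [col_entry, shift_apply]
  fin_cases i <;> fin_cases j <;> simp [Matrix.mulVec, dotProduct, Fin.sum_univ_two, Pi.single_apply]

omit hF in
theorem right_entries (a : Cfsg.SU 2 F q) :
    mat (shift 1 2 3 (by omega) a) = !![1, 0, 0; 0, mat a 0 0, mat a 0 1; 0, mat a 1 0, mat a 1 1] := by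
  ext i j
  rw [col_entry, shift_apply]
  fin_cases i <;> fin_cases j <;> simp [Matrix.mulVec, dotProduct, Fin.sum_univ_two, Pi.single_apply]

theorem diag_mul_comm {s t : Cfsg.SU 2 F q} (hs : Diag s) (ht : Diag t) : s * t = t * s := by
  obtain ⟨-, s10, -, -⟩ := shape hF s
  obtain ⟨-, t10, -, -⟩ := shape hF t
  have hs' : mat s 0 1 = 0 := hs
  have ht' : mat t 0 1 = 0 := ht
  rw [hs', zero_pow (q_ne_zero hF), neg_zero] at s10
  rw [ht', zero_pow (q_ne_zero hF), neg_zero] at t10
  refine su_ext_entries fun i j => ?_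
  rw [show mat (s * t) = mat s * mat t from rfl, show mat (t * s) = mat t * mat s from rfl]
  fin_cases i <;> fin_cases j <;> simp [Matrix.mul_apply, Fin.sum_univ_two, hs', ht', s10, t10] <;> ring

theorem diag_norm {t : Cfsg.SU 2 F q} (ht : Diag t) : mat t 0 0 ^ (q + 1) = 1 := by
  obtain ⟨-, -, -, hn⟩ := shape hF t
  rw [show mat t 0 1 = 0 from ht, zero_mul, add_zero, ← pow_succ'] at hn
  exact hn

/-- A diagonal element of one block acts on the other by a diagonal conjugation. -/
theorem left_conj_right {t : Cfsg.SU 2 F q} (ht : Diag t) (x : Cfsg.SU 2 F q) :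
    ∃ hd : ∀ i, (![mat t 1 1, 1] : Fin 2 → F) i ^ (q + 1) = 1,
      shift 0 2 3 (by omega) t * shift 1 2 3 (by omega) x * (shift 0 2 3 (by omega) t)⁻¹ =
        shift 1 2 3 (by omega) (theta hF (RingEquiv.refl F) ![mat t 1 1, 1] hd x) := by
  obtain ⟨t11, t10, -, -⟩ := shape hF t
  have ht01 : mat t 0 1 = 0 := ht
  rw [ht01, zero_pow (q_ne_zero hF), neg_zero] at t10
  have hn : mat t 1 1 ^ (q + 1) = 1 := by rw [t11, ← pow_mul, mul_comm, pow_mul, diag_norm hF ht, one_pow]
  refine ⟨fun i => by fin_cases i <;> simp [hn], mul_inv_eq_iff_eq_mul.2 (su_ext_entries fun i j => ?_)⟩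
  rw [show mat (shift 0 2 3 (by omega) t * shift 1 2 3 (by omega) x) =
      mat (shift 0 2 3 (by omega) t) * mat (shift 1 2 3 (by omega) x) from rfl,
    show mat (shift 1 2 3 (by omega) (theta hF (RingEquiv.refl F) ![mat t 1 1, 1] _ x) *
        shift 0 2 3 (by omega) t) =
      mat (shift 1 2 3 (by omega) (theta hF (RingEquiv.refl F) ![mat t 1 1, 1] _ x)) *
        mat (shift 0 2 3 (by omega) t) from rfl,
    left_entries, right_entries, right_entries]
  have h1 : mat t 1 1 ≠ 0 := ne_of_norm hF hn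
  simp only [theta_entry]
  fin_cases i <;> fin_cases j <;> simp [Matrix.mul_apply, Fin.sum_univ_three, ht01, t10, h1]

/-- A standard pair as a homomorphism on `SU₃`. -/
theorem pair_hom {V A B : Subgroup G} (h : Cfsg.IsStandardUnitaryPair V A B F q)
    (eA : Nonempty (Cfsg.SU 2 F q ≃* A)) (eB : Nonempty (Cfsg.SU 2 F q ≃* B)) :
    ∃ ψ : Cfsg.SU 3 F q →* G, ψ.range = V ∧ (∀ x, ψ x = 1 → x ∈ Subgroup.center (Cfsg.SU 3 F q)) ∧
      (ψ.comp (shift 0 2 3 (by omega))).range = A ∧ Function.Injective (ψ.comp (shift 0 2 3 (by omega))) ∧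
      (ψ.comp (shift 1 2 3 (by omega))).range = B ∧ Function.Injective (ψ.comp (shift 1 2 3 (by omega))) := by
  have e01 : Cfsg.suBlock 3 F q {0, 1} = (shift 0 2 3 (by omega)).range := suBlock_eq hF _ _ (fun j => by
    fin_cases j <;> simp)
  have e12 : Cfsg.suBlock 3 F q {1, 2} = (shift 1 2 3 (by omega)).range := suBlock_eq hF _ _ (fun j => by
    fin_cases j <;> simp)
  have inj : ∀ {C : Subgroup G} (φ : Cfsg.SU 2 F q →* G), φ.range = C →
      Nonempty (Cfsg.SU 2 F q ≃* C) → Function.Injective φ := by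
    rintro C φ rfl ⟨e⟩
    have hs : Function.Surjective (e.symm.toMonoidHom.comp φ.rangeRestrict) :=
      e.symm.surjective.comp φ.rangeRestrict_surjective
    intro a b hab
    exact Finite.injective_iff_surjective.2 hs (show e.symm (φ.rangeRestrict a) = e.symm (φ.rangeRestrict b) by
      rw [show φ.rangeRestrict a = φ.rangeRestrict b from Subtype.ext hab])
  obtain ⟨ψ, hV, hker, hA, hB⟩ : ∃ ψ : Cfsg.SU 3 F q →* G, ψ.range = V ∧
      (∀ x, ψ x = 1 → x ∈ Subgroup.center (Cfsg.SU 3 F q)) ∧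
      (ψ.comp (shift 0 2 3 (by omega))).range = A ∧ (ψ.comp (shift 1 2 3 (by omega))).range = B := by
    rcases h with ⟨φ, h1, h2⟩ | ⟨φ, h1, h2⟩
    · refine ⟨V.subtype.comp φ.toMonoidHom, ?_, fun x hx => ?_, ?_, ?_⟩
      · rw [MonoidHom.range_comp, MonoidHom.range_eq_top.2 φ.surjective, ← MonoidHom.range_eq_map,
          Subgroup.range_subtype]
      · have : φ x = 1 := Subtype.ext hx
        rw [(map_eq_one_iff φ φ.injective).1 this]
        exact one_mem _
      · rw [MonoidHom.range_comp, ← e01]; exact h1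
      · rw [MonoidHom.range_comp, ← e12]; exact h2
    · refine ⟨V.subtype.comp (φ.toMonoidHom.comp (QuotientGroup.mk' (Subgroup.center (Cfsg.SU 3 F q)))),
        ?_, fun x hx => ?_, ?_, ?_⟩
      · rw [MonoidHom.range_comp, MonoidHom.range_eq_top.2 (φ.surjective.comp (QuotientGroup.mk'_surjective _)),
          ← MonoidHom.range_eq_map, Subgroup.range_subtype]
      · have h3 : φ (QuotientGroup.mk' (Subgroup.center (Cfsg.SU 3 F q)) x) = 1 := Subtype.ext hx
        exact (QuotientGroup.eq_one_iff x).1 ((map_eq_one_iff φ φ.injective).1 h3)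
      · rw [MonoidHom.range_comp, ← e01]; exact h1
      · rw [MonoidHom.range_comp, ← e12]; exact h2
  exact ⟨ψ, hV, hker, hA, inj _ hA eA, hB, inj _ hB eB⟩

/-- Only diagonal elements of one block normalise the other. -/
theorem normaliser_diag (hq : 2 < q) {ψ : Cfsg.SU 3 F q →* G}
    (hker : ∀ x, ψ x = 1 → x ∈ Subgroup.center (Cfsg.SU 3 F q)) {g : Cfsg.SU 2 F q}
    (hnorm : ∀ x, ∃ y, ψ (shift 0 2 3 (by omega) g * shift 1 2 3 (by omega) x * (shift 0 2 3 (by omega) g)⁻¹) =
      ψ (shift 1 2 3 (by omega) y)) : Diag g := by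
  obtain ⟨J, hJ⟩ := exists_su_frame hF (n := 2) (f := ![(Pi.single 0 1 : Fin 2 → F)])
    (f' := ![(Pi.single 1 1 : Fin 2 → F)]) (by omega) (one_frame (by rw [H_single_single hF, if_pos rfl]))
    (one_frame (by rw [H_single_single hF, if_pos rfl]))
  have hJ' : ∀ i, mat J i 0 = (Pi.single 1 1 : Fin 2 → F) i := fun i => by
    have := congrFun (hJ 0) i
    rw [col_entry]
    exact this
  obtain ⟨y, hy⟩ := hnorm J
  obtain ⟨z, hz, hzy⟩ : ∃ z ∈ Subgroup.center (Cfsg.SU 3 F q),
      shift 0 2 3 (by omega) g * shift 1 2 3 (by omega) J * (shift 0 2 3 (by omega) g)⁻¹ =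
        shift 1 2 3 (by omega) y * z :=
    ⟨(shift 1 2 3 (by omega) y)⁻¹ * (shift 0 2 3 (by omega) g * shift 1 2 3 (by omega) J *
      (shift 0 2 3 (by omega) g)⁻¹), hker _ (by rw [map_mul, map_inv, hy, inv_mul_cancel]), by group⟩
  -- the centre fixes the line of the first vector
  obtain ⟨t, ht, ht2⟩ := exists_tor hF hq
  obtain ⟨d, hd, hdt⟩ := exists_diag hF ht
  have ht1 : t ≠ 1 := fun h => ht2 (by rw [h, mul_one])
  have hd01 : mat d 0 1 = 0 := hd
  obtain ⟨d11, d10, -, -⟩ := shape hF d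
  rw [hd01, zero_pow (q_ne_zero hF), neg_zero] at d10
  have hzc := Subgroup.mem_center_iff.1 hz (shift 1 2 3 (by omega) d)
  have hzc' : mat (shift 1 2 3 (by omega) d) * mat z = mat z * mat (shift 1 2 3 (by omega) d) :=
    congrArg mat hzc
  rw [right_entries] at hzc'
  have z10 : mat z 1 0 = 0 := by
    have := congrFun (congrFun hzc' 1) 0
    simp [Matrix.mul_apply, Fin.sum_univ_three, hd01, d10, hdt] at this
    exact (mul_eq_zero.1 (show (t - 1) * mat z 1 0 = 0 by linear_combination this)).resolve_left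
      (sub_ne_zero.2 ht1)
  have z20 : mat z 2 0 = 0 := by
    have := congrFun (congrFun hzc' 2) 0
    simp [Matrix.mul_apply, Fin.sum_univ_three, hd01, d10, hdt, d11] at this
    have htq : t ^ q ≠ 1 := fun h => ht1 (by rw [pow_succ, h, one_mul] at ht; exact ht)
    exact (mul_eq_zero.1 (show (t ^ q - 1) * mat z 2 0 = 0 by linear_combination this)).resolve_left
      (sub_ne_zero.2 htq)
  -- compare the third coordinate of the image of the first vector
  have key : mat (shift 0 2 3 (by omega) g * shift 1 2 3 (by omega) J * (shift 0 2 3 (by omega) g)⁻¹) 2 0 =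
      mat (shift 1 2 3 (by omega) y * z) 2 0 := by rw [hzy]
  rw [← map_inv, show mat (shift 0 2 3 (by omega) g * shift 1 2 3 (by omega) J * shift 0 2 3 (by omega) g⁻¹) =
      mat (shift 0 2 3 (by omega) g) * mat (shift 1 2 3 (by omega) J) * mat (shift 0 2 3 (by omega) g⁻¹)
      from rfl, show mat (shift 1 2 3 (by omega) y * z) = mat (shift 1 2 3 (by omega) y) * mat z from rfl,
    left_entries, left_entries, right_entries, right_entries] at key
  simp [Matrix.mul_apply, Fin.sum_univ_three, z10, z20, hJ'] at key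
  have hinv : mat g⁻¹ = (mat g).adjugate := rfl
  rw [hinv, Matrix.adjugate_fin_two] at key
  simp at key
  obtain ⟨-, -, g01, -⟩ := shape hF g
  show mat g 0 1 = 0
  rw [g01, key, zero_pow (q_ne_zero hF), neg_zero]

/-- The torus of a block seen from both sides is the same. -/
theorem torus_align (hq : 2 < q) {ψ ψ' : Cfsg.SU 3 F q →* G}
    (hker' : ∀ x, ψ' x = 1 → x ∈ Subgroup.center (Cfsg.SU 3 F q))
    (hb : Function.Injective (ψ.comp (shift 1 2 3 (by omega))))
    (ha' : Function.Injective (ψ'.comp (shift 0 2 3 (by omega))))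
    (hr : (ψ.comp (shift 1 2 3 (by omega))).range = (ψ'.comp (shift 0 2 3 (by omega))).range)
    (hcomm : ∀ x y, ψ (shift 0 2 3 (by omega) x) * ψ' (shift 1 2 3 (by omega) y) =
      ψ' (shift 1 2 3 (by omega) y) * ψ (shift 0 2 3 (by omega) x)) :
    ∀ x, Diag x → ∃ s, Diag s ∧ ψ (shift 1 2 3 (by omega) x) = ψ' (shift 0 2 3 (by omega) s) := by
  set b := ψ.comp (shift 1 2 3 (by omega)) with hbdef
  set a := ψ'.comp (shift 0 2 3 (by omega)) with hadef
  set b' := ψ'.comp (shift 1 2 3 (by omega)) with hb'def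
  obtain ⟨t, ht, ht2⟩ := exists_tor hF hq
  obtain ⟨d0, hd0, hd0t⟩ := exists_diag hF ht
  have norm : ∀ s, Diag s → ∀ x, ∃ y, a s * b' x * (a s)⁻¹ = b' y := by
    intro s hs x
    obtain ⟨hd, e⟩ := left_conj_right hF hs x
    refine ⟨theta hF (RingEquiv.refl F) ![mat s 1 1, 1] hd x, ?_⟩
    show ψ' _ * ψ' _ * (ψ' _)⁻¹ = ψ' _
    rw [← map_inv, ← map_mul, ← map_mul, e]
  -- an element of the torus read on the other side is diagonal
  have back : ∀ g, (∃ s, Diag s ∧ b g = a s) → Diag g := by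
    rintro g ⟨s, hs, hgs⟩
    obtain ⟨hd, e⟩ := left_conj_right hF hd0 g
    set g' := theta hF (RingEquiv.refl F) ![mat d0 1 1, 1] hd g with hg'
    set D := ψ (shift 0 2 3 (by omega) d0) with hD
    have hbg' : b g' = D * b g * D⁻¹ := by
      show ψ _ = ψ _ * ψ _ * (ψ _)⁻¹
      rw [← map_inv, ← map_mul, ← map_mul, e]
    obtain ⟨h, hh⟩ : b g' ∈ a.range := hr ▸ ⟨g', rfl⟩
    have hhd : Diag h := by
      refine normaliser_diag hF hq hker' fun x => ?_
      obtain ⟨y, hy⟩ := norm s hs x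
      refine ⟨y, ?_⟩
      rw [map_mul, map_mul, map_inv]
      show a h * b' x * (a h)⁻¹ = b' y
      have c1 : D⁻¹ * b' x * D = b' x := by
        rw [mul_assoc]
        show D⁻¹ * (ψ' _ * ψ _) = ψ' _
        rw [← hcomm d0 x, ← mul_assoc, inv_mul_cancel, one_mul]
      have c2 : D * b' y * D⁻¹ = b' y := by
        show ψ _ * ψ' _ * (ψ _)⁻¹ = ψ' _
        rw [hcomm d0 y, mul_inv_cancel_right]
      rw [hh, hbg', hgs, show D * a s * D⁻¹ * b' x * (D * a s * D⁻¹)⁻¹ =
        D * (a s * (D⁻¹ * b' x * D) * (a s)⁻¹) * D⁻¹ by group, c1, hy, c2]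
    have hc : g' * g = g * g' := hb (by
      rw [map_mul, map_mul, ← hh, hgs, ← map_mul, ← map_mul, diag_mul_comm hF hhd hs])
    have h00 : (mat g' * mat g) 0 0 = (mat g * mat g') 0 0 :=
      congrFun (congrFun (congrArg mat hc) 0) 0
    obtain ⟨-, g10, g01, -⟩ := shape hF g
    obtain ⟨d11, -, -, -⟩ := shape hF d0
    rw [Matrix.mul_apply, Matrix.mul_apply, Fin.sum_univ_two, Fin.sum_univ_two, hg'] at h00
    simp only [theta_entry] at h00
    simp at h00
    show mat g 0 1 = 0
    rw [d11, hd0t] at h00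
    have htq : t ^ q ≠ 0 := pow_ne_zero _ (ne_of_norm hF ht)
    have hne : t ^ q ≠ (t ^ q)⁻¹ := by
      intro he
      apply ht2
      have h1 : t ^ q * t ^ q = 1 := by
        nth_rewrite 2 [he]
        exact mul_inv_cancel₀ htq
      rw [pow_succ] at ht
      linear_combination -(t * t) * h1 + (t ^ q * t + 1) * ht
    have h2 : (t ^ q - (t ^ q)⁻¹) * (mat g 0 1 * mat g 1 0) = 0 := by linear_combination h00
    rcases mul_eq_zero.1 h2 with h3 | h3
    · exact absurd (sub_eq_zero.1 h3) hne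
    · rcases mul_eq_zero.1 h3 with h4 | h4
      · exact h4
      · rw [g01, h4, zero_pow (q_ne_zero hF), neg_zero]
  classical
  intro x hx
  -- a finite count
  let T := {s : Cfsg.SU 2 F q // Diag s}
  have hex : ∀ s : T, ∃ g : T, b g.1 = a s.1 := fun s => by
    obtain ⟨g, hg⟩ : a s.1 ∈ b.range := hr.symm ▸ ⟨s.1, rfl⟩
    exact ⟨⟨g, back g ⟨s.1, s.2, hg⟩⟩, hg⟩
  choose f hf using hex
  have hinj : Function.Injective f := fun s s' h => Subtype.ext (ha' ((hf s).symm.trans ((congrArg (fun g : T => b g.1) h).trans (hf s'))))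
  obtain ⟨s, hs⟩ := Finite.injective_iff_surjective.1 hinj ⟨x, hx⟩
  exact ⟨s.1, s.2, by have := hf s; rw [hs] at this; exact this⟩

/-- Correct a pair so that its first block has the given parametrisation. -/
theorem correct (hq : 2 < q) {ψ : Cfsg.SU 3 F q →* G} {v : Cfsg.SU 2 F q →* G}
    (hr : v.range = (ψ.comp (shift 0 2 3 (by omega))).range) (hv : Function.Injective v)
    (ha : Function.Injective (ψ.comp (shift 0 2 3 (by omega))))
    (hd : ∀ x, Diag x → ∃ s, Diag s ∧ v x = ψ (shift 0 2 3 (by omega) s)) :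
    ∃ ψ' : Cfsg.SU 3 F q →* G, ψ'.range = ψ.range ∧ (∀ x, ψ' (shift 0 2 3 (by omega) x) = v x) ∧
      ∃ σ : F ≃+* F, ∀ x, ψ' (shift 1 2 3 (by omega) x) =
        ψ (shift 1 2 3 (by omega) (theta hF σ (fun _ : Fin 2 => 1) (fun _ => one_pow _) x)) := by
  set a := ψ.comp (shift 0 2 3 (by omega)) with hadef
  let α : MulAut (Cfsg.SU 2 F q) :=
    ((MonoidHom.ofInjective hv).trans (MulEquiv.subgroupCongr hr)).trans (MonoidHom.ofInjective ha).symm
  have hα : ∀ x, a (α x) = v x := fun x => MonoidHom.apply_ofInjective_symm ha _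
  obtain ⟨σ, c, hc, hform⟩ := aut_diag hF hq α fun x hx => by
    obtain ⟨s, hs, e⟩ := hd x hx
    rwa [show α x = s from ha ((hα x).trans e)]
  have hd3 : ∀ i, (![c, 1, 1] : Fin 3 → F) i ^ (q + 1) = 1 := fun i => by fin_cases i <;> simp [hc]
  refine ⟨ψ.comp (theta hF σ ![c, 1, 1] hd3), ?_, fun x => ?_, σ, fun x => ?_⟩
  · rw [MonoidHom.range_comp, MonoidHom.range_eq_top.2 (theta_surjective hF σ _ hd3), ← MonoidHom.range_eq_map]
  · rw [MonoidHom.comp_apply, ← hα x, hadef, MonoidHom.comp_apply]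
    congr 1
    refine su_ext_entries fun i j => ?_
    obtain ⟨e0, e1⟩ := hform x
    obtain ⟨x11, x10, -, -⟩ := shape hF x
    obtain ⟨y11, y10, -, -⟩ := shape hF (α x)
    have hc0 : c ≠ 0 := ne_of_norm hF hc
    have hcq : c ^ q = c⁻¹ := by
      refine eq_inv_of_mul_eq_one_left ?_
      rw [← pow_succ]
      exact hc
    rw [theta_entry, left_entries, left_entries]
    fin_cases i <;> fin_cases j <;> simp [e0, e1, x10, x11, y10, y11, mul_pow, hcq, map_pow, hc0] <;> field_simp [hc0]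
  · rw [MonoidHom.comp_apply]
    congr 1
    refine su_ext_entries fun i j => ?_
    rw [theta_entry, right_entries, right_entries]
    simp only [theta_entry]
    fin_cases i <;> fin_cases j <;> simp [ne_of_norm hF hc]

end Cfsg.Agent.Phan.Align
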