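import Cfsg.Agent.Lib.Phan.Cov
import Mathlib

/-!
Two homomorphisms, defined on the stabilisers of two orthogonal unit vectors and agreeing on the common part,
extend to the whole special unitary group.
-/

set_option autoImplicit false
set_option linter.unusedSectionVars false
set_option linter.unusedSimpArgs false
set_option maxHeartbeats 400000

namespace Cfsg.Agent.Phan.Base

open Matrix MulAction
open Cfsg.Agent.Forms Cfsg.Agent.Classical Cfsg.Agent.Classical.Unitary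
open Cfsg.Agent.SimpleFacts.SUMult Blocks CosetGeom
open Cfsg.Agent.Phan.Orth Cfsg.Agent.Phan.Cov

universe u v

variable (F : Type u) [Field F] [Fintype F] (q n : ℕ) (G : Type v) [Group G]

local notation "S" => Cfsg.SU n F q
local notation "Ω" => UVec F q n

/-- The amalgam. -/
structure Data where
  /-- the base vector -/
  e : Ω
  /-- the second base vector -/
  x0 : Ω
  /-- an auxiliary vector -/
  x1 : Ω
  pe : Perp e x0
  pe1 : Perp e x1
  p01 : Perp x0 x1
  /-- the map on the first stabiliser -/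
  A : S → G
  /-- the map on the second stabiliser -/
  B : S → G
  A_mul : ∀ g h : S, g • e = e → h • e = e → A (g * h) = A g * A h
  B_mul : ∀ g h : S, g • x0 = x0 → h • x0 = x0 → B (g * h) = B g * B h
  agree : ∀ g : S, g • e = e → g • x0 = x0 → A g = B g
  gen : stabilizer S x0 ≤ (stabilizer S e ⊓ stabilizer S x0) ⊔ (stabilizer S x0 ⊓ stabilizer S x1)
  top : stabilizer S e ⊔ stabilizer S x0 = ⊤
  move : ∀ y : Ω, y.1 ∈ Submodule.span F ({x0.1, x1.1} : Set (Fin n → F)) →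
    ∃ h : S, h • e = e ∧ h • x0 = y ∧ ∀ g : S, g • x0 = x0 → g • x1 = x1 →
      h * g = g * h ∧ A h * B g = B g * A h

variable {F q n G} (D : Data F q n G) (hF : Fintype.card F = q ^ 2) (hn : 4 ≤ n) (hq : 2 < q) (hq4 : 3 < q ∨ 5 ≤ n)

theorem mk_smul {E : Type*} [Group E] {K : Subgroup E} (a b : E) : a • (b : E ⧸ K) = ((a * b : E) : E ⧸ K) := rfl

theorem inv_fix {g : S} {x : Ω} (h : g • x = x) : g⁻¹ • x = x := inv_smul_eq_iff.2 h.symm

theorem mul_fix {g h : S} {x : Ω} (hg : g • x = x) (hh : h • x = x) : (g * h) • x = x := by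
  rw [mul_smul, hh, hg]

theorem conj_fix' {g k : S} {x y : Ω} (hg : g • y = y) (hk : k • x = y) : (k⁻¹ * g * k) • x = x := by
  rw [mul_smul, mul_smul, hk, hg, ← hk, inv_smul_smul]

theorem A_one : D.A 1 = 1 := by
  simpa using (D.A_mul 1 1 (one_smul _ _) (one_smul _ _))

theorem B_one : D.B 1 = 1 := by
  simpa using (D.B_mul 1 1 (one_smul _ _) (one_smul _ _))

theorem A_inv {g : S} (h : g • D.e = D.e) : D.A g⁻¹ = (D.A g)⁻¹ :=
  eq_inv_of_mul_eq_one_left (by rw [← D.A_mul _ _ (inv_fix h) h, inv_mul_cancel, A_one])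

theorem B_inv {g : S} (h : g • D.x0 = D.x0) : D.B g⁻¹ = (D.B g)⁻¹ :=
  eq_inv_of_mul_eq_one_left (by rw [← D.B_mul _ _ (inv_fix h) h, inv_mul_cancel, B_one])

theorem perp_smul {x y : Ω} (g : S) (h : Perp x y) : Perp (g • x) (g • y) := by
  show Cfsg.hermForm n F q _ _ = 0
  rw [smul_val, smul_val, SU_H]
  exact h

theorem perp_smul_left {x y : Ω} {g : S} (hg : g • x = x) (h : Perp x y) : Perp x (g • y) := by
  have := perp_smul g h
  rwa [hg] at this

include hF in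
theorem exists_move {z x y : Ω} (hn3 : 2 < n) (hx : Perp z x) (hy : Perp z y) :
    ∃ m : S, m • z = z ∧ m • x = y := by
  obtain ⟨m, hm⟩ := exists_su_frame hF (f := ![z.1, x.1]) (f' := ![z.1, y.1]) hn3
    (pair_frame z.2 x.2 hx (sym hF hx)) (pair_frame z.2 y.2 hy (sym hF hy))
  exact ⟨m, Subtype.ext (hm 0), Subtype.ext (hm 1)⟩

open scoped _root_.Classical in
/-- An element of the first stabiliser moving the second base vector to a given one. -/
noncomputable def kx (x : Ω) : S :=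
  if h : ∃ k : S, k • D.e = D.e ∧ k • D.x0 = x then h.choose else 1

/-- The map on the stabiliser of a vector orthogonal to the base one. -/
noncomputable def phi (x : Ω) (g : S) : G :=
  D.A (kx D x) * D.B ((kx D x)⁻¹ * g * kx D x) * (D.A (kx D x))⁻¹

include hF hn

theorem kx_spec {x : Ω} (hx : Perp D.e x) : kx D x • D.e = D.e ∧ kx D x • D.x0 = x := by
  classical
  have hex := exists_move hF (by omega) D.pe hx
  rw [kx, dif_pos hex]
  exact hex.choose_spec

theorem phi_eq {x : Ω} (hx : Perp D.e x) {k g : S} (hk : k • D.e = D.e) (hkx : k • D.x0 = x) (hg : g • x = x) :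
    phi D x g = D.A k * D.B (k⁻¹ * g * k) * (D.A k)⁻¹ := by
  obtain ⟨h0, h0x⟩ := kx_spec D hF hn hx
  set k0 := kx D x with hk0
  have hh : (k0⁻¹ * k) • D.e = D.e := mul_fix (inv_fix h0) hk
  have hh' : (k0⁻¹ * k) • D.x0 = D.x0 := by rw [mul_smul, hkx, ← h0x, inv_smul_smul]
  set h := k0⁻¹ * k with hdef
  have hkeq : k = k0 * h := by rw [hdef, mul_inv_cancel_left]
  have hg0 : (k0⁻¹ * g * k0) • D.x0 = D.x0 := conj_fix' hg h0x
  rw [phi, ← hk0, hkeq, D.A_mul _ _ h0 hh, D.agree h hh hh',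
    show (k0 * h)⁻¹ * g * (k0 * h) = h⁻¹ * (k0⁻¹ * g * k0) * h by group,
    D.B_mul _ _ (mul_fix (inv_fix hh') hg0) hh', D.B_mul _ _ (inv_fix hh') hg0, B_inv D hh']
  group

theorem phi_mul {x : Ω} (hx : Perp D.e x) {g h : S} (hg : g • x = x) (hh : h • x = x) :
    phi D x (g * h) = phi D x g * phi D x h := by
  obtain ⟨h0, h0x⟩ := kx_spec D hF hn hx
  rw [phi, phi, phi, show (kx D x)⁻¹ * (g * h) * kx D x =
    ((kx D x)⁻¹ * g * kx D x) * ((kx D x)⁻¹ * h * kx D x) by group,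
    D.B_mul _ _ (conj_fix' hg h0x) (conj_fix' hh h0x)]
  group

theorem phi_inv {x : Ω} (hx : Perp D.e x) {g : S} (hg : g • x = x) : phi D x g⁻¹ = (phi D x g)⁻¹ := by
  refine eq_inv_of_mul_eq_one_left ?_
  rw [← phi_mul D hF hn hx (inv_fix hg) hg, inv_mul_cancel, phi]
  simp [B_one]

theorem phi_x0 {g : S} (hg : g • D.x0 = D.x0) : phi D D.x0 g = D.B g := by
  rw [phi_eq D hF hn D.pe (k := 1) (one_smul _ _) (one_smul _ _) hg, A_one]
  simp

theorem phi_conj {x : Ω} (hx : Perp D.e x) {k g : S} (hk : k • D.e = D.e) (hg : g • x = x) :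
    phi D (k • x) (k * g * k⁻¹) = D.A k * phi D x g * (D.A k)⁻¹ := by
  obtain ⟨h0, h0x⟩ := kx_spec D hF hn hx
  rw [phi_eq D hF hn (perp_smul_left hk hx) (k := k * kx D x) (mul_fix hk h0) (by rw [mul_smul, h0x])
    (by rw [mul_smul, mul_smul, inv_smul_smul, hg]), phi, D.A_mul _ _ hk h0]
  rw [show (k * kx D x)⁻¹ * (k * g * k⁻¹) * (k * kx D x) = (kx D x)⁻¹ * g * kx D x by group]
  group

theorem phi_base {x : Ω} (hx : Perp D.e x) {g : S} (hg : g • D.e = D.e) (hgx : g • x = x) :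
    phi D x g = D.A g := by
  obtain ⟨h0, h0x⟩ := kx_spec D hF hn hx
  have he : ((kx D x)⁻¹ * g * kx D x) • D.e = D.e := conj_fix' hg h0
  rw [phi, ← D.agree _ he (conj_fix' hgx h0x), D.A_mul _ _ (mul_fix (inv_fix h0) hg) h0,
    D.A_mul _ _ (inv_fix h0) hg, A_inv D h0]
  group

theorem perp_span' {y : Ω} (hy : y.1 ∈ Submodule.span F ({D.x0.1, D.x1.1} : Set (Fin n → F))) :
    Perp D.e y :=
  perp_span hF (by rintro t (rfl | rfl); exacts [D.pe, D.pe1]) hy

theorem phi_span {y : Ω} (hy : y.1 ∈ Submodule.span F ({D.x0.1, D.x1.1} : Set (Fin n → F))) {g : S}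
    (h0 : g • D.x0 = D.x0) (h1 : g • D.x1 = D.x1) (hg : g • y = y) : phi D y g = D.B g := by
  obtain ⟨h, he, hy', hc⟩ := D.move y hy
  obtain ⟨hcomm, hc'⟩ := hc g h0 h1
  rw [phi_eq D hF hn (perp_span' D hF hn hy) he hy' hg, mul_assoc h⁻¹ g h, ← hcomm,
    inv_mul_cancel_left, hc', mul_inv_cancel_right]

theorem span_fix {y : Ω} (hy : y.1 ∈ Submodule.span F ({D.x0.1, D.x1.1} : Set (Fin n → F))) {g : S}
    (h0 : g • D.x0 = D.x0) (h1 : g • D.x1 = D.x1) : g • y = y := by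
  refine Subtype.ext ?_
  rw [smul_val]
  have h0' : mat g *ᵥ D.x0.1 = D.x0.1 := congrArg Subtype.val h0
  have h1' : mat g *ᵥ D.x1.1 = D.x1.1 := congrArg Subtype.val h1
  obtain ⟨a, b, hab⟩ := Submodule.mem_span_pair.1 hy
  rw [← hab, Matrix.mulVec_add, Matrix.mulVec_smul, Matrix.mulVec_smul, h0', h1']

theorem phi_par {y : Ω} {a : F} (hy : y.1 = a • D.x0.1) {g : S} (hg : g • D.x0 = D.x0) :
    phi D y g = D.B g := by
  have hmem : y.1 ∈ Submodule.span F ({D.x0.1, D.x1.1} : Set (Fin n → F)) := by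
    rw [hy]
    exact Submodule.smul_mem _ _ (Submodule.subset_span (Set.mem_insert _ _))
  have hey := perp_span' D hF hn hmem
  have hfix : ∀ g : S, g • D.x0 = D.x0 → g • y = y := fun g h => Subtype.ext (by
    rw [smul_val, hy, Matrix.mulVec_smul, ← smul_val, h])
  let T : Subgroup S :=
    { carrier := {g | g • D.x0 = D.x0 ∧ phi D y g = D.B g}
      one_mem' := ⟨one_smul _ _, by rw [B_one, phi]; simp [B_one]⟩
      mul_mem' := fun {g h} hg hh => ⟨mul_fix hg.1 hh.1, by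
        rw [phi_mul D hF hn hey (hfix _ hg.1) (hfix _ hh.1), hg.2, hh.2, D.B_mul _ _ hg.1 hh.1]⟩
      inv_mem' := fun {g} hg => ⟨inv_fix hg.1, by
        rw [phi_inv D hF hn hey (hfix _ hg.1), hg.2, B_inv D hg.1]⟩ }
  have : stabilizer S D.x0 ≤ T := D.gen.trans (sup_le
    (fun g hg => ⟨hg.2, by rw [phi_base D hF hn hey hg.1 (hfix _ hg.2), D.agree g hg.1 hg.2]⟩)
    (fun g hg => ⟨hg.1, phi_span D hF hn hmem hg.1 hg.2 (hfix _ hg.1)⟩))
  exact (this hg).2

/-- Maps for linked vectors agree on common elements. -/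
theorem phi_linked {x x' : Ω} (hx : Perp D.e x) (hx' : Perp D.e x') (hl : Linked q x.1 x'.1) {g : S}
    (hg : g • x = x) (hg' : g • x' = x') : phi D x g = phi D x' g := by
  obtain ⟨x2, hx2, hxx2, he2, a, b, hab⟩ : ∃ x2 : Fin n → F, Cfsg.hermForm n F q x2 x2 = 1 ∧
      Cfsg.hermForm n F q x.1 x2 = 0 ∧ Cfsg.hermForm n F q D.e.1 x2 = 0 ∧
      ∃ a b : F, x'.1 = a • x.1 + b • x2 := by
    obtain ⟨x2, h2, hx2, a, b, hab⟩ := linked_frame hF (by omega) x.2 x'.2 hl
    rcases eq_or_ne b 0 with rfl | hb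
    · obtain ⟨z, hz, hzx, hze⟩ := exists_perp_pair hF (by omega) x.2 D.e.2 (sym hF hx)
      exact ⟨z, hz, sym hF hzx, sym hF hze, a, 0, by rw [hab, zero_smul, zero_smul]⟩
    · refine ⟨x2, h2, hx2, ?_, a, b, hab⟩
      have h0 : Cfsg.hermForm n F q D.e.1 x'.1 = 0 := hx'
      rw [hab, H_add_right hF, H_smul_right, H_smul_right,
        show Cfsg.hermForm n F q D.e.1 x.1 = 0 from hx, mul_zero, zero_add] at h0
      exact (mul_eq_zero.1 h0).resolve_left (pow_ne_zero _ hb)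
  obtain ⟨k, hk⟩ := exists_su_frame hF (f := ![D.e.1, D.x0.1, D.x1.1]) (f' := ![D.e.1, x.1, x2])
    (by omega) (triple_frame hF D.e.2 D.x0.2 D.x1.2 D.pe D.pe1 D.p01)
    (triple_frame hF D.e.2 x.2 hx2 hx he2 hxx2)
  have hke : k • D.e = D.e := Subtype.ext (hk 0)
  have hkx : k • D.x0 = x := Subtype.ext (hk 1)
  have hk2 : mat k *ᵥ D.x1.1 = x2 := hk 2
  set y := k⁻¹ • x' with hy
  have hyv : y.1 = a • D.x0.1 + b • D.x1.1 := by
    have h1 : mat k *ᵥ (a • D.x0.1 + b • D.x1.1) = x'.1 := by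
      rw [Matrix.mulVec_add, Matrix.mulVec_smul, Matrix.mulVec_smul, hk2, ← smul_val, hkx, hab]
    rw [hy, smul_val, ← h1, inv_mulVec k rfl]
  have hmem : y.1 ∈ Submodule.span F ({D.x0.1, D.x1.1} : Set (Fin n → F)) := by
    rw [hyv]; exact Submodule.mem_span_pair.2 ⟨a, b, rfl⟩
  set g' := k⁻¹ * g * k with hg'def
  have hg0 : g' • D.x0 = D.x0 := conj_fix' hg hkx
  have hgy : g' • y = y := conj_fix' hg' (smul_inv_smul k x')
  have hB : phi D y g' = D.B g' := by
    rcases eq_or_ne b 0 with hb | hb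
    · exact phi_par D hF hn (a := a) (by rw [hyv, hb, zero_smul, add_zero]) hg0
    · refine phi_span D hF hn hmem hg0 ?_ hgy
      refine Subtype.ext ?_
      rw [smul_val]
      have e1 : D.x1.1 = b⁻¹ • (y.1 + (-a) • D.x0.1) := by
        rw [hyv, smul_add, smul_add, smul_smul, smul_smul, smul_smul, inv_mul_cancel₀ hb]
        module
      rw [e1, Matrix.mulVec_smul, Matrix.mulVec_add, Matrix.mulVec_smul, ← smul_val, hgy, ← smul_val, hg0]
  have h2 := phi_conj D hF hn (perp_span' D hF hn hmem) hke hgy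
  rw [show k • y = x' from smul_inv_smul k x', show k * g' * k⁻¹ = g by rw [hg'def]; group, hB] at h2
  rw [h2, phi_eq D hF hn hx hke hkx hg]

omit hF hn

/-- The lifted stabiliser of the base vector. -/
def Kgrp : Subgroup (S × G) where
  carrier := {p | p.1 • D.e = D.e ∧ p.2 = D.A p.1}
  one_mem' := ⟨one_smul _ _, (A_one D).symm⟩
  mul_mem' {a b} ha hb := ⟨mul_fix ha.1 hb.1, by
    show a.2 * b.2 = D.A (a.1 * b.1)
    rw [D.A_mul _ _ ha.1 hb.1, ha.2, hb.2]⟩
  inv_mem' {a} ha := ⟨inv_fix ha.1, by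
    show a.2⁻¹ = D.A a.1⁻¹
    rw [A_inv D ha.1, ha.2]⟩

/-- The coset of the lift of an element. -/
noncomputable def pt (z : Ω) (m : S) : (S × G) ⧸ Kgrp D := ((m, phi D z m) : S × G)

/-- `m` carries the base vector to `v` and fixes a common perpendicular `z`. -/
def IsLift (v z : Ω) (m : S) : Prop := Perp D.e z ∧ Perp z v ∧ m • z = z ∧ m • D.e = v

open scoped _root_.Classical in
/-- The label of a neighbour of the base point. -/
noncomputable def lbl (v : Ω) : (S × G) ⧸ Kgrp D :=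
  if h : ∃ p : Ω × S, IsLift D v p.1 p.2 then pt D h.choose.1 h.choose.2 else ((1 : S × G) : (S × G) ⧸ Kgrp D)

include hF hn

theorem pt_same {v z : Ω} {m m' : S} (h : IsLift D v z m) (h' : IsLift D v z m') : pt D z m = pt D z m' := by
  rw [pt, pt, QuotientGroup.eq]
  have h1 : (m⁻¹ * m') • D.e = D.e := by rw [mul_smul, h'.2.2.2, ← h.2.2.2, inv_smul_smul]
  refine ⟨h1, ?_⟩
  show (phi D z m)⁻¹ * phi D z m' = D.A (m⁻¹ * m')
  rw [← phi_base D hF hn h.1 h1 (mul_fix (inv_fix h.2.2.1) h'.2.2.1),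
    phi_mul D hF hn h.1 (inv_fix h.2.2.1) h'.2.2.1, phi_inv D hF hn h.1 h.2.2.1]

theorem pt_linked {v z z' : Ω} {m m' : S} (h : IsLift D v z m) (h' : IsLift D v z' m')
    (hl : Linked q z.1 z'.1) : pt D z m = pt D z' m' := by
  obtain ⟨a, ha, hae⟩ := linked_move hF hn z.2 z'.2 D.e.2 v.2 hl (sym hF h.1) h.2.1 (sym hF h'.1) h'.2.1
  have h1 : a • z = z := Subtype.ext (ha _ (Or.inl rfl))
  have h2 : a • z' = z' := Subtype.ext (ha _ (Or.inr rfl))
  have h3 : a • D.e = v := Subtype.ext hae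
  rw [pt_same D hF hn h ⟨h.1, h.2.1, h1, h3⟩, pt_same D hF hn h' ⟨h'.1, h'.2.1, h2, h3⟩, pt, pt,
    phi_linked D hF hn h.1 h'.1 hl h1 h2]

include hq

theorem pt_indep {v z z' : Ω} {m m' : S} (hv : Perp D.e v) (h : IsLift D v z m) (h' : IsLift D v z' m') :
    pt D z m = pt D z' m' := by
  by_cases hl : Linked q z.1 z'.1
  · exact pt_linked D hF hn h h' hl
  obtain ⟨hr0, hrr, hrz, -⟩ := unlinked_rest hF z.2 z'.2 hl
  have hze : Cfsg.hermForm n F q z.1 D.e.1 = 0 := sym hF h.1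
  have hz'e : Cfsg.hermForm n F q z'.1 D.e.1 = 0 := sym hF h'.1
  have hev : Cfsg.hermForm n F q D.e.1 v.1 = 0 := hv
  have hzv : Cfsg.hermForm n F q z.1 v.1 = 0 := h.2.1
  have hz'v : Cfsg.hermForm n F q z'.1 v.1 = 0 := h'.2.1
  have hsp : z'.1 - Cfsg.hermForm n F q z'.1 z.1 • z.1 ∉
      Submodule.span F ({D.e.1, v.1, z.1} : Set (Fin n → F)) := by
    intro hs
    refine hr0 ?_
    obtain ⟨a, w, hw, hsum⟩ := Submodule.mem_span_insert.1 hs
    obtain ⟨b, c, hw'⟩ := Submodule.mem_span_pair.1 hw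
    set α := Cfsg.hermForm n F q z'.1 z.1
    set r := z'.1 - α • z.1 with hr
    have e1 : Cfsg.hermForm n F q r D.e.1 = 0 := by rw [hr, H_sub_left, H_smul_left, hz'e, hze]; ring
    have e2 : Cfsg.hermForm n F q r v.1 = 0 := by rw [hr, H_sub_left, H_smul_left, hz'v, hzv]; ring
    rw [← hw'] at hsum
    have f1 : a = 0 := by
      have := e1
      rw [hsum] at this
      simpa [H_add_left, H_smul_left, D.e.2, sym hF hev, hze] using this
    have f2 : b = 0 := by
      have := e2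
      rw [hsum] at this
      simpa [H_add_left, H_smul_left, v.2, hev, hzv] using this
    have f3 : c = 0 := by
      have := hrz
      rw [hsum] at this
      simpa [H_add_left, H_smul_left, z.2, sym hF hze, sym hF hzv] using this
    rw [hsum, f1, f2, f3, zero_smul, zero_smul, zero_smul, add_zero, add_zero]
  obtain ⟨w, hw, hwe, hwv, h1, h2⟩ := exists_between hF (by omega) z.2 z'.2 hze hzv hz'e hz'v hl hsp
  obtain ⟨a, ha1, ha2⟩ := exists_move hF (z := (⟨w, hw⟩ : Ω)) (by omega) (x := D.e) hwe hwv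
  have hW : IsLift D v ⟨w, hw⟩ a := ⟨sym hF hwe, hwv, ha1, ha2⟩
  exact (pt_linked D hF hn h hW h1).trans (pt_linked D hF hn hW h' h2)

omit hF hn hq in
variable (F q n G) in
/-- The label of a neighbour of the base point does not depend on the choices. -/
def Indep (D : Data F q n G) : Prop :=
  ∀ {v z z' : Ω} {m m' : S}, Perp D.e v → IsLift D v z m → IsLift D v z' m' → pt D z m = pt D z' m'

omit hq
variable (hI : Indep F q n G D)
include hI

theorem lbl_eq {v z : Ω} {m : S} (hv : Perp D.e v) (h : IsLift D v z m) : lbl D v = pt D z m := by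
  classical
  have hex : ∃ p : Ω × S, IsLift D v p.1 p.2 := ⟨(z, m), h⟩
  rw [lbl, dif_pos hex]
  exact hI hv hex.choose_spec h

theorem exists_lift' {v : Ω} (hv : Perp D.e v) : ∃ z m, IsLift D v z m := by
  obtain ⟨z, hz, hze, hzv⟩ := exists_perp_pair hF (by omega) D.e.2 v.2 hv
  obtain ⟨m, h1, h2⟩ := exists_move hF (z := (⟨z, hz⟩ : Ω)) (by omega) (x := D.e) hze hzv
  exact ⟨⟨z, hz⟩, m, sym hF hze, hzv, h1, h2⟩

theorem lbl_smul {v : Ω} (hv : Perp D.e v) {k : S} (hk : k • D.e = D.e) :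
    lbl D (k • v) = ((k, D.A k) : S × G) • lbl D v := by
  obtain ⟨z, m, h⟩ := exists_lift' D hF hn hI hv
  have h' : IsLift D (k • v) (k • z) (k * m * k⁻¹) := ⟨perp_smul_left hk h.1, perp_smul k h.2.1,
    by rw [mul_smul, mul_smul, inv_smul_smul, h.2.2.1],
    by rw [mul_smul, mul_smul, inv_fix hk, h.2.2.2]⟩
  rw [lbl_eq D hF hn hI hv h, lbl_eq D hF hn hI (perp_smul_left hk hv) h', pt, pt,
    phi_conj D hF hn h.1 hk h.2.2.1]
  show _ = (((k, D.A k) * (m, phi D z m) : S × G) : (S × G) ⧸ Kgrp D)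
  rw [QuotientGroup.eq]
  have e : ((k * m * k⁻¹, D.A k * phi D z m * (D.A k)⁻¹) : S × G)⁻¹ * ((k, D.A k) * (m, phi D z m)) =
      (k, D.A k) := by
    refine Prod.ext ?_ ?_ <;> simp [mul_assoc]
  rw [e]
  exact ⟨hk, rfl⟩

theorem lbl_fixed {x : Ω} (hx : Perp D.e x) {g : S} (hg : g • x = x) :
    ((g, phi D x g) : S × G) • lbl D x = lbl D x := by
  have h0 : ∀ g : S, g • D.x0 = D.x0 → ((g, D.B g) : S × G) • lbl D D.x0 = lbl D D.x0 := by
    let T : Subgroup S :=
      { carrier := {g | g • D.x0 = D.x0 ∧ ((g, D.B g) : S × G) • lbl D D.x0 = lbl D D.x0}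
        one_mem' := ⟨one_smul _ _, by rw [B_one]; exact one_smul _ _⟩
        mul_mem' := fun {g h} hg hh => ⟨mul_fix hg.1 hh.1, by
          rw [D.B_mul _ _ hg.1 hh.1, show ((g * h, D.B g * D.B h) : S × G) = (g, D.B g) * (h, D.B h) from rfl,
            mul_smul, hh.2, hg.2]⟩
        inv_mem' := fun {g} hg => ⟨inv_fix hg.1, by
          rw [B_inv D hg.1, show ((g⁻¹, (D.B g)⁻¹) : S × G) = (g, D.B g)⁻¹ from rfl,
            inv_smul_eq_iff, hg.2]⟩ }
    obtain ⟨m, hm1, hm2⟩ := exists_move hF (z := D.x1) (by omega) (x := D.e) (sym hF D.pe1) (sym hF D.p01)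
    have hm : IsLift D D.x0 D.x1 m := ⟨D.pe1, sym hF D.p01, hm1, hm2⟩
    have : stabilizer S D.x0 ≤ T := D.gen.trans (sup_le
      (fun g hg => ⟨hg.2, by rw [← D.agree g hg.1 hg.2, ← lbl_smul D hF hn hI D.pe hg.1, hg.2]⟩)
      (fun g hg => ⟨hg.1, by
        have hl : Linked q D.x0.1 D.x1.1 := Or.inr (by
          rw [show Cfsg.hermForm n F q D.x1.1 D.x0.1 = 0 from sym hF D.p01, zero_pow (by omega)]
          exact zero_ne_one)
        have hgm : IsLift D D.x0 D.x1 (g * m) := ⟨D.pe1, sym hF D.p01, mul_fix hg.2 hm1,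
          by rw [mul_smul, hm2, hg.1]⟩
        conv_rhs => rw [lbl_eq D hF hn hI D.pe hgm]
        rw [lbl_eq D hF hn hI D.pe hm, pt, pt, phi_mul D hF hn D.pe1 hg.2 hm1,
          ← phi_linked D hF hn D.pe D.pe1 hl hg.1 hg.2, phi_x0 D hF hn hg.1]
        rfl⟩))
    exact fun g hg => (this hg).2
  obtain ⟨hk, hkx⟩ := kx_spec D hF hn hx
  set k := kx D x with hkdef
  have e : ((g, phi D x g) : S × G) =
      (k, D.A k) * (k⁻¹ * g * k, D.B (k⁻¹ * g * k)) * (k, D.A k)⁻¹ := by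
    refine Prod.ext ?_ ?_
    · simp [mul_assoc]
    · rw [phi, ← hkdef]; rfl
  have hlx : lbl D x = ((k, D.A k) : S × G) • lbl D D.x0 := by
    rw [← lbl_smul D hF hn hI D.pe hk, hkx]
  rw [hlx, e, mul_smul, inv_smul_smul, mul_smul, h0 _ (conj_fix' hg hkx)]

omit hF hn hI

/-- The projection of a coset. -/
noncomputable def proj (c : (S × G) ⧸ Kgrp D) : Ω := c.out.1 • D.e

/-- Lifting of edges. -/
noncomputable def lift (c : (S × G) ⧸ Kgrp D) (y : Ω) : (S × G) ⧸ Kgrp D :=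
  c.out • lbl D (c.out.1⁻¹ • y)

theorem proj_mk (a : S × G) : proj D (a : (S × G) ⧸ Kgrp D) = a.1 • D.e := by
  obtain ⟨h, hh⟩ := QuotientGroup.mk_out_eq_mul (Kgrp D) a
  rw [proj, hh, Prod.fst_mul, mul_smul, h.2.1]

theorem proj_smul (a : S × G) (c : (S × G) ⧸ Kgrp D) : proj D (a • c) = a.1 • proj D c := by
  induction c using QuotientGroup.induction_on with
  | H b =>
    show proj D ((a * b : S × G) : (S × G) ⧸ Kgrp D) = _
    rw [proj_mk, proj_mk, Prod.fst_mul, mul_smul]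

include hF hn hI

theorem lift_mk (a : S × G) {y : Ω} (hy : Perp (a.1 • D.e) y) :
    lift D (a : (S × G) ⧸ Kgrp D) y = a • lbl D (a.1⁻¹ • y) := by
  obtain ⟨h, hh⟩ := QuotientGroup.mk_out_eq_mul (Kgrp D) a
  have hy' : Perp D.e (a.1⁻¹ • y) := by
    have := perp_smul a.1⁻¹ hy
    rwa [inv_smul_smul] at this
  rw [lift, hh, Prod.fst_mul, _root_.mul_inv_rev, mul_smul, mul_smul, lbl_smul D hF hn hI hy' (inv_fix h.2.1)]
  congr 1
  rw [show (((h : S × G).1⁻¹, D.A (h : S × G).1⁻¹) : S × G) = (h : S × G)⁻¹ from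
    Prod.ext rfl (by show _ = (h : S × G).2⁻¹; rw [A_inv D h.2.1, h.2.2])]
  exact smul_inv_smul _ _

theorem lift_base {y : Ω} (hy : Perp D.e y) : lift D ((1 : S × G) : (S × G) ⧸ Kgrp D) y = lbl D y := by
  rw [lift_mk D hF hn hI 1 (by simpa using hy)]
  simp

theorem lift_smul (a : S × G) (c : (S × G) ⧸ Kgrp D) {y : Ω} (hy : Perp (proj D c) y) :
    lift D (a • c) (a.1 • y) = a • lift D c y := by
  induction c using QuotientGroup.induction_on with
  | H b =>
    rw [proj_mk] at hy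
    show lift D ((a * b : S × G) : (S × G) ⧸ Kgrp D) _ = _
    rw [lift_mk D hF hn hI _ hy, lift_mk D hF hn hI (a * b) (by
      rw [Prod.fst_mul, mul_smul]; exact perp_smul _ hy)]
    rw [Prod.fst_mul, _root_.mul_inv_rev, mul_smul b.1⁻¹, inv_smul_smul, mul_smul]

theorem proj_lbl {y : Ω} (hy : Perp D.e y) : proj D (lbl D y) = y := by
  obtain ⟨z, m, h⟩ := exists_lift' D hF hn hI hy
  rw [lbl_eq D hF hn hI hy h, pt, proj_mk]
  exact h.2.2.2

theorem proj_lift (c : (S × G) ⧸ Kgrp D) (y : Ω) (hy : Perp (proj D c) y) : proj D (lift D c y) = y := by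
  induction c using QuotientGroup.induction_on with
  | H a =>
    rw [proj_mk] at hy
    have hy' : Perp D.e (a.1⁻¹ • y) := by
      have := perp_smul a.1⁻¹ hy
      rwa [inv_smul_smul] at this
    rw [lift_mk D hF hn hI a hy, proj_smul, proj_lbl D hF hn hI hy', smul_inv_smul]

theorem back_one {x : Ω} (hx : Perp D.e x) :
    lift D (lbl D x) D.e = ((1 : S × G) : (S × G) ⧸ Kgrp D) := by
  obtain ⟨z, m, h⟩ := exists_lift' D hF hn hI hx
  rw [lbl_eq D hF hn hI hx h, pt, lift_mk D hF hn hI _ (by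
    show Perp (m • D.e) D.e
    rw [h.2.2.2]
    exact sym hF hx)]
  have h' : IsLift D (m⁻¹ • D.e) z m⁻¹ :=
    ⟨h.1, perp_smul_left (inv_fix h.2.2.1) (sym hF h.1), inv_fix h.2.2.1, rfl⟩
  have he : Perp D.e (m⁻¹ • D.e) := by
    have h4 := perp_smul m⁻¹ (sym hF (show Perp D.e (m • D.e) by rw [h.2.2.2]; exact hx))
    rwa [inv_smul_smul] at h4
  rw [show (((m, phi D z m) : S × G).1)⁻¹ = m⁻¹ from rfl, lbl_eq D hF hn hI he h', pt, mk_smul,
    phi_inv D hF hn h.1 h.2.2.1]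
  congr 1
  exact mul_inv_cancel ((m, phi D z m) : S × G)

theorem tri_one {a b : Ω} (ha : Perp D.e a) (hb : Perp D.e b) (hab : Perp a b) :
    lift D (lbl D a) b = lbl D b := by
  obtain ⟨z, hz, hz'⟩ := exists_unit_perp hF ![D.e.1, a.1, b.1] ![D.e.1, a.1, b.1]
    (triple_frame hF D.e.2 a.2 b.2 ha hb hab) id (fun _ => rfl) (by omega)
  set Z : Ω := ⟨z, hz⟩
  have hZe : Perp Z D.e := hz' 0
  have hZa : Perp Z a := hz' 1
  have hZb : Perp Z b := hz' 2
  obtain ⟨m, hm1, hm2⟩ := exists_move hF (by omega) hZe hZa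
  have hm : IsLift D a Z m := ⟨sym hF hZe, hZa, hm1, hm2⟩
  rw [lbl_eq D hF hn hI ha hm, pt, lift_mk D hF hn hI _ (by show Perp (m • D.e) b; rw [hm2]; exact hab)]
  have hmb : Perp D.e (m⁻¹ • b) := by
    have := perp_smul m⁻¹ hab
    rwa [← hm2, inv_smul_smul] at this
  obtain ⟨m', hm1', hm2'⟩ := exists_move hF (by omega) hZe (perp_smul_left (inv_fix hm1) hZb)
  have hm' : IsLift D (m⁻¹ • b) Z m' := ⟨sym hF hZe, perp_smul_left (inv_fix hm1) hZb, hm1', hm2'⟩
  have hmm : IsLift D b Z (m * m') := ⟨sym hF hZe, hZb, mul_fix hm1 hm1',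
    by rw [mul_smul, hm2', smul_inv_smul]⟩
  rw [show (((m, phi D Z m) : S × G).1)⁻¹ = m⁻¹ from rfl, lbl_eq D hF hn hI hmb hm',
    lbl_eq D hF hn hI hb hmm, pt, pt, mk_smul, phi_mul D hF hn (sym hF hZe) hm1 hm1']
  rfl

theorem lift_lbl {x y : Ω} (hx : Perp D.e x) {g : S} (hgx : g • x = x) (hge : g • D.e = y) :
    lift D (lbl D x) y = (((g, phi D x g) : S × G) : (S × G) ⧸ Kgrp D) := by
  have h1 : Perp (proj D (lbl D x)) D.e := by
    rw [proj_lbl D hF hn hI hx]
    exact sym hF hx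
  have h2 := lift_smul D hF hn hI (g, phi D x g) _ h1
  rw [lbl_fixed D hF hn hI hx hgx, show ((g, phi D x g) : S × G).1 = g from rfl, hge,
    back_one D hF hn hI hx, mk_smul, mul_one] at h2
  exact h2

theorem sq_one {a b d : Ω} (ha : Perp D.e a) (hb : Perp D.e b) (had : Perp a d) (hbd : Perp b d)
    (hl : Linked q a.1 b.1) : lift D (lbl D a) d = lift D (lbl D b) d := by
  obtain ⟨g, hg, hge⟩ := linked_move hF hn a.2 b.2 D.e.2 d.2 hl (sym hF ha) had (sym hF hb) hbd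
  have hga : g • a = a := Subtype.ext (hg _ (Or.inl rfl))
  have hgb : g • b = b := Subtype.ext (hg _ (Or.inr rfl))
  have hgd : g • D.e = d := Subtype.ext hge
  rw [lift_lbl D hF hn hI ha hga hgd, lift_lbl D hF hn hI hb hgb hgd,
    phi_linked D hF hn ha hb hl hga hgb]

theorem to_base (c : S × G) {a : Ω} (ha : Perp (c.1 • D.e) a) : Perp D.e (c.1⁻¹ • a) := by
  have := perp_smul c.1⁻¹ ha
  rwa [inv_smul_smul] at this

theorem lift_trans (c : S × G) {a b : Ω} (ha : Perp (c.1 • D.e) a) (hab : Perp a b) :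
    lift D (lift D (c : (S × G) ⧸ Kgrp D) a) b = c • lift D (lbl D (c.1⁻¹ • a)) (c.1⁻¹ • b) := by
  rw [lift_mk D hF hn hI c ha, ← lift_smul D hF hn hI c _ (by
    rw [proj_lbl D hF hn hI (to_base D hF hn hI c ha)]
    exact perp_smul _ hab), smul_inv_smul]

theorem back_law (p : (S × G) ⧸ Kgrp D) (x : Ω) (hx : Perp (proj D p) x) :
    lift D (lift D p x) (proj D p) = p := by
  induction p using QuotientGroup.induction_on with
  | H c =>
    rw [proj_mk] at hx ⊢
    rw [lift_trans D hF hn hI c hx (sym hF hx), inv_smul_smul, back_one D hF hn hI (to_base D hF hn hI c hx),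
      mk_smul, mul_one]

theorem tri_law (p : (S × G) ⧸ Kgrp D) (a b : Ω) (ha : Perp (proj D p) a) (hb : Perp (proj D p) b)
    (hab : Perp a b) : lift D (lift D p a) b = lift D p b := by
  induction p using QuotientGroup.induction_on with
  | H c =>
    rw [proj_mk] at ha hb
    rw [lift_trans D hF hn hI c ha hab, tri_one D hF hn hI (to_base D hF hn hI c ha)
      (to_base D hF hn hI c hb) (perp_smul _ hab), lift_mk D hF hn hI c hb]

theorem sq_law (p : (S × G) ⧸ Kgrp D) (a b d : Ω) (ha : Perp (proj D p) a) (hb : Perp (proj D p) b)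
    (had : Perp a d) (hbd : Perp b d) (hl : Linked q a.1 b.1) :
    lift D (lift D p a) d = lift D (lift D p b) d := by
  induction p using QuotientGroup.induction_on with
  | H c =>
    rw [proj_mk] at ha hb
    have hl' : Linked q (c.1⁻¹ • a).1 (c.1⁻¹ • b).1 := by
      rcases hl with ⟨t, ht⟩ | ht
      · exact Or.inl ⟨t, by rw [smul_val, smul_val, ht, Matrix.mulVec_smul]⟩
      · exact Or.inr (by rw [smul_val, smul_val, SU_H]; exact ht)
    rw [lift_trans D hF hn hI c ha had, lift_trans D hF hn hI c hb hbd,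
      sq_one D hF hn hI (to_base D hF hn hI c ha) (to_base D hF hn hI c hb) (perp_smul _ had)
        (perp_smul _ hbd) hl']

/-- The covering. -/
noncomputable def covering : Covering F q n ((S × G) ⧸ Kgrp D) where
  proj := proj D
  lift := lift D
  proj_lift := proj_lift D hF hn hI
  back := back_law D hF hn hI
  tri := tri_law D hF hn hI
  sqLinked := sq_law D hF hn hI

/-- The two maps extend to the whole group, given consistent labellings. -/
theorem exists_hom_of (hL : ∀ p, ∃ ℓ : UVec F q n → (S × G) ⧸ Kgrp D, ℓ (proj D p) = p ∧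
    (∀ v, proj D (ℓ v) = v) ∧ ∀ v w, Perp v w → lift D (ℓ v) w = ℓ w) :
    ∃ Φ : S →* G, (∀ g : S, g • D.e = D.e → Φ g = D.A g) ∧
    (∀ g : S, g • D.x0 = D.x0 → Φ g = D.B g) := by
  classical
  set C := covering D hF hn hI with hC
  set base : (S × G) ⧸ Kgrp D := ((1 : S × G) : (S × G) ⧸ Kgrp D) with hbase
  have hpb : proj D base = D.e := by rw [hbase, proj_mk]; exact one_smul _ _
  obtain ⟨ℓ, hℓ0, hℓp, hℓ⟩ := hL base
  replace hℓ0 : ℓ D.e = base := by rw [← hℓ0]; congr 1; exact hpb.symm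
  let Q : Subgroup (S × G) :=
    { carrier := {a | ∀ v, a • ℓ v = ℓ (a.1 • v)}
      one_mem' := fun v => by rw [one_smul, Prod.fst_one, one_smul]
      mul_mem' := fun {a b} ha hb v => by rw [mul_smul, hb, ha, Prod.fst_mul, mul_smul]
      inv_mem' := fun {a} ha v => by
        rw [inv_smul_eq_iff, ha, Prod.fst_inv, smul_inv_smul] }
  have mem_of_point : ∀ (a : S × G) (v0 : Ω), a • ℓ v0 = ℓ (a.1 • v0) → a ∈ Q := by
    intro a v0 h0
    have h1 : ∀ v w, Perp v w → C.lift (a⁻¹ • ℓ (a.1 • v)) w = a⁻¹ • ℓ (a.1 • w) := by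
      intro v w hvw
      have h2 := lift_smul D hF hn hI a⁻¹ (ℓ (a.1 • v)) (y := a.1 • w) (by
        rw [show proj D (ℓ (a.1 • v)) = a.1 • v from hℓp _]; exact perp_smul _ hvw)
      rw [Prod.fst_inv, inv_smul_smul] at h2
      show lift D _ w = _
      rw [h2]
      exact congrArg _ (hℓ _ _ (perp_smul _ hvw))
    have := label_unique hF hn C (fun v => a⁻¹ • ℓ (a.1 • v)) ℓ h1 hℓ (v0 := v0)
      (inv_smul_eq_iff.2 h0.symm)
    intro v
    exact (inv_smul_eq_iff.1 (congrFun this v)).symm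
  have hQK : ∀ g : S, g • D.e = D.e → ((g, D.A g) : S × G) ∈ Q := by
    intro g hg
    refine mem_of_point _ D.e ?_
    rw [hg, hℓ0, hbase]
    rw [mk_smul]
    rw [mul_one, QuotientGroup.eq, mul_one]
    exact inv_mem (show ((g, D.A g) : S × G) ∈ Kgrp D from ⟨hg, rfl⟩)
  have hQL : ∀ g : S, g • D.x0 = D.x0 → ((g, D.B g) : S × G) ∈ Q := by
    intro g hg
    refine mem_of_point _ D.x0 ?_
    have hx : ℓ D.x0 = lbl D D.x0 := by
      rw [← hℓ D.e D.x0 D.pe, hℓ0]
      exact lift_base D hF hn hI D.pe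
    rw [hg, hx, ← phi_x0 D hF hn hg]
    exact lbl_fixed D hF hn hI D.pe hg
  let Γ : Subgroup (S × G) := Subgroup.closure
    ({a | a.1 • D.e = D.e ∧ a.2 = D.A a.1} ∪ {a | a.1 • D.x0 = D.x0 ∧ a.2 = D.B a.1})
  have hΓQ : Γ ≤ Q := (Subgroup.closure_le _).2 (by
    rintro ⟨g, x⟩ (⟨h1, h2⟩ | ⟨h1, h2⟩)
    · obtain rfl : x = D.A g := h2
      exact hQK g h1
    · obtain rfl : x = D.B g := h2
      exact hQL g h1)
  have huniq : ∀ a ∈ Γ, a.1 = 1 → a.2 = 1 := by
    intro a ha h1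
    have h2 := hΓQ ha D.e
    rw [h1, one_smul, hℓ0, hbase] at h2
    have h3 := h2
    rw [mk_smul] at h3
    rw [mul_one, QuotientGroup.eq, mul_one] at h3
    have h4 : a ∈ Kgrp D := inv_mem_iff.1 h3
    rw [h4.2, h1, A_one]
  let π : Γ →* S := (MonoidHom.fst S G).comp Γ.subtype
  have hsurj : Function.Surjective π := by
    rw [← MonoidHom.range_eq_top, eq_top_iff, ← D.top, sup_le_iff]
    exact ⟨fun g hg => ⟨⟨(g, D.A g), Subgroup.subset_closure (Or.inl ⟨hg, rfl⟩)⟩, rfl⟩,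
      fun g hg => ⟨⟨(g, D.B g), Subgroup.subset_closure (Or.inr ⟨hg, rfl⟩)⟩, rfl⟩⟩
  have hinj : Function.Injective π := by
    refine (injective_iff_map_eq_one π).2 fun a ha => Subtype.ext (Prod.ext ha ?_)
    exact huniq a.1 a.2 ha
  let eqv : Γ ≃* S := MulEquiv.ofBijective π ⟨hinj, hsurj⟩
  have val : ∀ (g : S) (x : G) (h : ((g, x) : S × G) ∈ Γ),
      (((eqv.symm g : Γ) : S × G)).2 = x := by
    intro g x h
    have : eqv.symm g = ⟨(g, x), h⟩ := eqv.injective (by rw [MulEquiv.apply_symm_apply]; rfl)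
    rw [this]
  exact ⟨((MonoidHom.snd S G).comp Γ.subtype).comp eqv.symm.toMonoidHom,
    fun g hg => val g _ (Subgroup.subset_closure (Or.inl ⟨hg, rfl⟩)),
    fun g hg => val g _ (Subgroup.subset_closure (Or.inr ⟨hg, rfl⟩))⟩

omit hI
include hq hq4

/-- The two maps extend to the whole group. -/
theorem exists_hom : ∃ Φ : S →* G, (∀ g : S, g • D.e = D.e → Φ g = D.A g) ∧
    (∀ g : S, g • D.x0 = D.x0 → Φ g = D.B g) :=
  exists_hom_of D hF hn (fun hv h h' => pt_indep D hF hn hq hv h h') fun p =>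
    exists_label hF hn hq hq4 (covering D hF hn fun hv h h' => pt_indep D hF hn hq hv h h') p

end Cfsg.Agent.Phan.Base
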