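import Cfsg.Agent.Lib.Phan.Cov
import Mathlib

/-!
The orthogonality graph of unit vectors over the field with four elements, in dimension at least five.
-/

set_option autoImplicit false
set_option linter.unusedSectionVars false
set_option linter.unusedSimpArgs false

namespace Cfsg.Agent.Phan.OrthTwo

open Matrix
open Cfsg.Agent.Forms Cfsg.Agent.Classical Cfsg.Agent.Classical.Unitary
open Cfsg.Agent.SimpleFacts.SUMult Blocks CosetGeom
open Cfsg.Agent.Phan.Orth Cfsg.Agent.Phan.Cov

universe u v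

variable {F : Type u} [Field F] [Fintype F] {n : ℕ} {P : Type v}
variable (hF : Fintype.card F = 2 ^ 2) (hn : 5 ≤ n)

local notation "Vec" => (Fin n → F)
local notation "H" => Cfsg.hermForm n F 2

include hF

theorem two_zero : (2 : F) = 0 := by
  have h := Nat.cast_card_eq_zero F
  rw [hF] at h
  exact mul_self_eq_zero.1 (show (2 : F) * 2 = 0 by push_cast at h; linear_combination h)

theorem cube_cases (a : F) : a ^ (2 + 1) = 0 ∨ a ^ (2 + 1) = 1 := by
  rcases eq_or_ne a 0 with rfl | ha
  · left; simp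
  · right
    have h := FiniteField.pow_card_sub_one_eq_one a ha
    rwa [hF] at h

theorem perp_of_linked {x x' : Vec} (h : H x' x ^ (2 + 1) ≠ 1) : H x' x = 0 := by
  rcases cube_cases hF (H x' x) with h0 | h1
  · exact (pow_eq_zero_iff (by norm_num)).1 h0
  · exact absurd h1 h

/-- An isotropic vector outside the span of an orthonormal set is the sum of two orthonormal perpendiculars. -/
theorem exists_split {T : Set Vec} {r : Vec} (hr : H r r = 0) (hrT : ∀ t ∈ T, H r t = 0)
    (hrs : r ∉ Submodule.span F T) :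
    ∃ x2 x3 : Vec, H x2 x2 = 1 ∧ H x3 x3 = 1 ∧ H x2 x3 = 0 ∧ r = x2 + x3 ∧
      (∀ t ∈ T, H x2 t = 0) ∧ ∀ t ∈ T, H x3 t = 0 := by
  have h2 := two_zero hF
  obtain ⟨t, ht, htT, htr⟩ := exists_unit_hit hF hr hrT hrs (β := (1 : F)) one_ne_zero
  have hrt : H r t = 1 := by rw [← H_conj hF t r, htr, one_pow]
  refine ⟨t, r + t, ht, ?_, ?_, ?_, htT, fun a ha => ?_⟩
  · simp only [H_add_left, H_add_right hF, hr, ht, htr, hrt]
    linear_combination h2
  · rw [H_add_right hF, htr, ht]
    linear_combination h2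
  · funext i
    simp only [Pi.add_apply]
    linear_combination -(t i) * h2
  · rw [H_add_left, hrT a ha, htT a ha, add_zero]

include hn

/-- A unit vector orthogonal to an orthonormal pair and to an isotropic vector orthogonal to both. -/
theorem exists_perp_iso {e a s : Vec} (he : H e e = 1) (ha : H a a = 1) (hea : H e a = 0) (hs : H s s = 0)
    (hs0 : s ≠ 0) (hse : H s e = 0) (hsa : H s a = 0) :
    ∃ z : Vec, H z z = 1 ∧ H z e = 0 ∧ H z a = 0 ∧ H z s = 0 := by
  obtain ⟨t, t', ht, ht', htt, hst, hT, hT'⟩ := exists_split hF (T := ({e, a} : Set Vec)) hs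
    (by rintro x (rfl | rfl); exacts [hse, hsa]) (fun hsp => hs0 <| by
      obtain ⟨c, d, hcd⟩ := Submodule.mem_span_pair.1 hsp
      have h1 : H s e = c := by rw [← hcd, H_add_left, H_smul_left, H_smul_left, he, sym hF hea]; ring
      have h2 : H s a = d := by rw [← hcd, H_add_left, H_smul_left, H_smul_left, ha, hea]; ring
      rw [hse] at h1; rw [hsa] at h2
      rw [← hcd, ← h1, ← h2, zero_smul, zero_smul, add_zero])
  have hf : IsFrame 2 ![e, a, t, t'] := by
    have k1 := sym hF hea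
    have k2 : H t e = 0 := hT e (by simp)
    have k3 : H t a = 0 := hT a (by simp)
    have k4 : H t' e = 0 := hT' e (by simp)
    have k5 : H t' a = 0 := hT' a (by simp)
    intro i j
    fin_cases i <;> fin_cases j <;>
      simp [he, ha, ht, ht', htt, sym hF htt, hea, k1, k2, k3, k4, k5, sym hF k2, sym hF k3, sym hF k4, sym hF k5]
  obtain ⟨z, hz, hz'⟩ := exists_unit_perp hF ![e, a, t, t'] ![e, a, t, t'] hf id (fun _ => rfl) (by omega)
  refine ⟨z, hz, hz' 0, hz' 1, ?_⟩
  have z2 : H z t = 0 := hz' 2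
  have z3 : H z t' = 0 := hz' 3
  rw [hst, H_add_right hF, z2, z3, add_zero]

/-- A consistent labelling exists once all squares close. -/
theorem exists_label (D : Covering F 2 n P)
    (hsq : ∀ (p : P) (a b c : UVec F 2 n), Perp (D.proj p) a → Perp (D.proj p) b → Perp a c → Perp b c →
      D.lift (D.lift p a) c = D.lift (D.lift p b) c) (p : P) :
    ∃ ℓ : UVec F 2 n → P, ℓ (D.proj p) = p ∧ (∀ v, D.proj (ℓ v) = v) ∧
      ∀ v w, Perp v w → D.lift (ℓ v) w = ℓ w := by
  have hwit : ∀ v : UVec F 2 n, ∃ x : UVec F 2 n, Perp (D.proj p) x ∧ Perp x v := fun v => by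
    obtain ⟨z, hz, h1, h2⟩ := exists_perp_two hF (by omega) (D.proj p).2 v.1
    exact ⟨⟨z, hz⟩, sym hF h1, h2⟩
  choose x hx hxv using hwit
  refine ⟨fun v => D.lift (D.lift p (x v)) v, D.back _ _ (hx _), fun v => ?_, fun v w hvw => ?_⟩
  · exact D.proj_lift _ _ (by rw [D.proj_lift _ _ (hx v)]; exact hxv v)
  set e := D.proj p with he
  have hpy : D.proj (D.lift p (x w)) = x w := D.proj_lift _ _ (hx w)
  show D.lift (D.lift (D.lift p (x v)) v) w = D.lift (D.lift p (x w)) w
  by_cases hev : Perp e v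
  · rw [D.tri _ _ _ (hx v) hev (hxv v)]
    exact hsq p v (x w) w hev (hx w) hvw (hxv w)
  by_cases hew : Perp e w
  · rw [hsq p (x v) w v (hx v) hew (hxv v) (sym hF hvw)]
    have hpw : D.proj (D.lift p w) = w := D.proj_lift _ _ hew
    have hb := D.back (D.lift p w) v (by rw [hpw]; exact sym hF hvw)
    rw [hpw] at hb
    rw [hb, D.tri _ _ _ (hx w) hew (hxv w)]
  have n1 : H e.1 v.1 ^ (2 + 1) = 1 :=
    (cube_cases hF _).resolve_left fun h => hev ((pow_eq_zero_iff (by norm_num)).1 h)
  have n2 : H e.1 w.1 ^ (2 + 1) = 1 :=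
    (cube_cases hF _).resolve_left fun h => hew ((pow_eq_zero_iff (by norm_num)).1 h)
  obtain ⟨z, hz, hzv, hzw, hze⟩ := exists_perp_three hF (by omega) (y := e.1) v.2 w.2 hvw (by
    rw [e.2, n1, n2]
    intro h
    exact one_ne_zero (show (1 : F) = 0 by linear_combination -h))
  set Z : UVec F 2 n := ⟨z, hz⟩
  have heZ : Perp e Z := sym hF hze
  have hpZ : D.proj (D.lift p Z) = Z := D.proj_lift _ _ heZ
  rw [hsq p (x v) Z v (hx v) heZ (hxv v) hzv, D.tri _ _ _ (by rw [hpZ]; exact hzv) (by rw [hpZ]; exact hzw) hvw]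
  exact hsq p Z (x w) w heZ (hx w) hzw (hxv w)

end Cfsg.Agent.Phan.OrthTwo
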