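import Cfsg.Agent.Lib.Phan.Base
import Cfsg.Agent.Lib.Phan.OrthTwo
import Mathlib

/-!
The amalgam over the field with four elements: with commutation against three-dimensional pieces, two maps on
point stabilisers extend.
-/

set_option autoImplicit false
set_option linter.unusedSectionVars false
set_option linter.unusedSimpArgs false

namespace Cfsg.Agent.Phan.BaseTwo

open Matrix MulAction
open Cfsg.Agent.Forms Cfsg.Agent.Classical Cfsg.Agent.Classical.Unitary
open Cfsg.Agent.SimpleFacts.SUMult Blocks CosetGeom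
open Cfsg.Agent.Phan.Orth Cfsg.Agent.Phan.Cov Cfsg.Agent.Phan.Base

universe u v

variable {F : Type u} [Field F] [Fintype F] {n : ℕ} {G : Type v} [Group G]
variable (hF : Fintype.card F = 2 ^ 2) (hn : 5 ≤ n) (D : Data F 2 n G) (x2 : UVec F 2 n)

local notation "S" => Cfsg.SU n F 2
local notation "Ω" => UVec F 2 n

/-- Commutation against the stabiliser of three orthogonal vectors. -/
def Move3 : Prop :=
  Perp D.e x2 ∧ Perp D.x0 x2 ∧ Perp D.x1 x2 ∧
    ∀ y : Ω, y.1 ∈ Submodule.span F ({D.x0.1, D.x1.1, x2.1} : Set (Fin n → F)) →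
      ∃ h : S, h • D.e = D.e ∧ h • D.x0 = y ∧ ∀ g : S, g • D.x0 = D.x0 → g • D.x1 = D.x1 → g • x2 = x2 →
        h * g = g * h ∧ D.A h * D.B g = D.B g * D.A h

variable (hM : Move3 D x2)
include hF hn hM

theorem phi_wide {a b a2 a3 : Ω} (h1 : Perp D.e a) (h2 : Perp D.e a2) (h3 : Perp D.e a3) (h12 : Perp a a2)
    (h13 : Perp a a3) (h23 : Perp a2 a3) {s t r : F} (hb : b.1 = s • a.1 + t • a2.1 + r • a3.1) {g : S}
    (hg : g • a = a) (hg2 : g • a2 = a2) (hg3 : g • a3 = a3) : phi D a g = phi D b g := by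
  obtain ⟨hex2, h02, h12', hmove⟩ := hM
  have fD : IsFrame 2 ![D.e.1, D.x0.1, D.x1.1, x2.1] := by
    intro i j
    have p1 : Cfsg.hermForm n F 2 D.e.1 D.x0.1 = 0 := D.pe
    have p2 : Cfsg.hermForm n F 2 D.e.1 D.x1.1 = 0 := D.pe1
    have p3 : Cfsg.hermForm n F 2 D.x0.1 D.x1.1 = 0 := D.p01
    have p4 : Cfsg.hermForm n F 2 D.e.1 x2.1 = 0 := hex2
    have p5 : Cfsg.hermForm n F 2 D.x0.1 x2.1 = 0 := h02
    have p6 : Cfsg.hermForm n F 2 D.x1.1 x2.1 = 0 := h12'
    fin_cases i <;> fin_cases j <;>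
      simp [D.e.2, D.x0.2, D.x1.2, x2.2, p1, p2, p3, p4, p5, p6, sym hF p1, sym hF p2, sym hF p3, sym hF p4,
        sym hF p5, sym hF p6]
  have fA : IsFrame 2 ![D.e.1, a.1, a2.1, a3.1] := by
    intro i j
    have p1 : Cfsg.hermForm n F 2 D.e.1 a.1 = 0 := h1
    have p2 : Cfsg.hermForm n F 2 D.e.1 a2.1 = 0 := h2
    have p3 : Cfsg.hermForm n F 2 a.1 a2.1 = 0 := h12
    have p4 : Cfsg.hermForm n F 2 D.e.1 a3.1 = 0 := h3
    have p5 : Cfsg.hermForm n F 2 a.1 a3.1 = 0 := h13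
    have p6 : Cfsg.hermForm n F 2 a2.1 a3.1 = 0 := h23
    fin_cases i <;> fin_cases j <;>
      simp [D.e.2, a.2, a2.2, a3.2, p1, p2, p3, p4, p5, p6, sym hF p1, sym hF p2, sym hF p3, sym hF p4,
        sym hF p5, sym hF p6]
  obtain ⟨k, hk⟩ := exists_su_frame hF (by omega) fD fA
  have hke : k • D.e = D.e := Subtype.ext (hk 0)
  have hk0 : k • D.x0 = a := Subtype.ext (hk 1)
  have hk1 : k • D.x1 = a2 := Subtype.ext (hk 2)
  have hk2 : k • x2 = a3 := Subtype.ext (hk 3)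
  set y : Ω := k⁻¹ • b with hy
  have hyv : y.1 = s • D.x0.1 + t • D.x1.1 + r • x2.1 := by
    have e1 : mat k *ᵥ (s • D.x0.1 + t • D.x1.1 + r • x2.1) = b.1 := by
      rw [Matrix.mulVec_add, Matrix.mulVec_add, Matrix.mulVec_smul, Matrix.mulVec_smul, Matrix.mulVec_smul,
        ← smul_val, ← smul_val, ← smul_val, hk0, hk1, hk2, hb]
    rw [hy, smul_val, ← e1, inv_mulVec k rfl]
  have hmem : y.1 ∈ Submodule.span F ({D.x0.1, D.x1.1, x2.1} : Set (Fin n → F)) := by
    rw [hyv]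
    exact add_mem (add_mem (Submodule.smul_mem _ _ (Submodule.subset_span (by simp)))
      (Submodule.smul_mem _ _ (Submodule.subset_span (by simp))))
      (Submodule.smul_mem _ _ (Submodule.subset_span (by simp)))
  have hey : Perp D.e y := perp_span hF (by rintro z (rfl | rfl | rfl); exacts [D.pe, D.pe1, hex2]) hmem
  set g' := k⁻¹ * g * k with hg'def
  have f0 : g' • D.x0 = D.x0 := conj_fix' hg hk0
  have f1 : g' • D.x1 = D.x1 := conj_fix' hg2 hk1
  have f2 : g' • x2 = x2 := conj_fix' hg3 hk2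
  have hgy : g' • y = y := by
    refine Subtype.ext ?_
    rw [smul_val, hyv, Matrix.mulVec_add, Matrix.mulVec_add, Matrix.mulVec_smul, Matrix.mulVec_smul,
      Matrix.mulVec_smul, ← smul_val, ← smul_val, ← smul_val, f0, f1, f2]
  obtain ⟨h, he, hy', hc⟩ := hmove y hmem
  obtain ⟨hcomm, hc'⟩ := hc g' f0 f1 f2
  have hB : phi D y g' = D.B g' := by
    rw [phi_eq D hF (by omega) hey he hy' hgy, mul_assoc h⁻¹ g' h, ← hcomm, inv_mul_cancel_left, hc',
      mul_inv_cancel_right]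
  have e2 := phi_conj D hF (by omega) hey hke hgy
  rw [show k • y = b from smul_inv_smul k b, show k * g' * k⁻¹ = g by rw [hg'def]; group, hB] at e2
  rw [e2, phi_eq D hF (by omega) h1 hke hk0 hg]

/-- An element moving the base vector, on which the maps at two unlinked perpendiculars agree. -/
theorem exists_wide {v a b : Ω} (ha : Perp D.e a) (hb : Perp D.e b) (hav : Perp a v) (hbv : Perp b v)
    (hl : ¬ Linked 2 a.1 b.1)
    (hsp : b.1 - Cfsg.hermForm n F 2 b.1 a.1 • a.1 ∉ Submodule.span F ({D.e.1, v.1, a.1} : Set (Fin n → F))) :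
    ∃ g : S, g • a = a ∧ g • b = b ∧ g • D.e = v ∧ phi D a g = phi D b g := by
  obtain ⟨-, hrr, hra, -⟩ := unlinked_rest hF a.2 b.2 hl
  set α := Cfsg.hermForm n F 2 b.1 a.1 with hα
  set r := b.1 - α • a.1 with hr
  have hae : Cfsg.hermForm n F 2 a.1 D.e.1 = 0 := sym hF ha
  have hrT : ∀ t ∈ ({D.e.1, v.1, a.1} : Set (Fin n → F)), Cfsg.hermForm n F 2 r t = 0 := by
    rintro t (rfl | rfl | rfl)
    · rw [hr, H_sub_left, H_smul_left, sym hF hb, hae]; ring
    · rw [hr, H_sub_left, H_smul_left, show Cfsg.hermForm n F 2 b.1 v.1 = 0 from hbv,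
        show Cfsg.hermForm n F 2 a.1 v.1 = 0 from hav]; ring
    · exact hra
  obtain ⟨w2, w3, q2, q3, q23, hsum, hT2, hT3⟩ := OrthTwo.exists_split hF hrr hrT hsp
  set A2 : Ω := ⟨w2, q2⟩
  set A3 : Ω := ⟨w3, q3⟩
  have p2 : Cfsg.hermForm n F 2 a.1 w2 = 0 := sym hF (hT2 _ (by simp))
  have p3 : Cfsg.hermForm n F 2 a.1 w3 = 0 := sym hF (hT3 _ (by simp))
  have fr : ∀ z : Ω, Perp a z → Cfsg.hermForm n F 2 w2 z.1 = 0 → Cfsg.hermForm n F 2 w3 z.1 = 0 →
      IsFrame 2 ![a.1, w2, w3, z.1] := by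
    intro z c1 c2 c3 i j
    have c1' : Cfsg.hermForm n F 2 a.1 z.1 = 0 := c1
    fin_cases i <;> fin_cases j <;>
      simp [a.2, q2, q3, z.2, p2, p3, q23, c1', c2, c3, sym hF p2, sym hF p3, sym hF q23, sym hF c1', sym hF c2,
        sym hF c3]
  obtain ⟨g, hg⟩ := exists_su_frame hF (f := ![a.1, w2, w3, D.e.1]) (f' := ![a.1, w2, w3, v.1]) (by omega)
    (fr D.e (sym hF ha) (hT2 _ (by simp)) (hT3 _ (by simp))) (fr v hav (hT2 _ (by simp)) (hT3 _ (by simp)))
  have g0 : g • a = a := Subtype.ext (hg 0)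
  have g2 : g • A2 = A2 := Subtype.ext (hg 1)
  have g3 : g • A3 = A3 := Subtype.ext (hg 2)
  have hbe : b.1 = α • a.1 + (1 : F) • A2.1 + (1 : F) • A3.1 := by
    rw [one_smul, one_smul, add_assoc, show A2.1 + A3.1 = r from hsum.symm, hr]
    abel
  refine ⟨g, g0, ?_, Subtype.ext (hg 3), phi_wide hF hn D x2 hM (a2 := A2) (a3 := A3) ha (sym hF (hT2 _ (by simp)))
    (sym hF (hT3 _ (by simp))) p2 p3 q23 hbe g0 g2 g3⟩
  refine Subtype.ext ?_
  rw [smul_val, hbe, Matrix.mulVec_add, Matrix.mulVec_add, Matrix.mulVec_smul, Matrix.mulVec_smul,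
    Matrix.mulVec_smul, ← smul_val, ← smul_val, ← smul_val, g0, g2, g3]

theorem indep : Indep F 2 n G D := by
  intro v z z' m m' hv h h'
  by_cases hl : Linked 2 z.1 z'.1
  · exact pt_linked D hF (by omega) h h' hl
  obtain ⟨hr0, -, hrz, -⟩ := unlinked_rest hF z.2 z'.2 hl
  have hze : Cfsg.hermForm n F 2 z.1 D.e.1 = 0 := sym hF h.1
  have hz'e : Cfsg.hermForm n F 2 z'.1 D.e.1 = 0 := sym hF h'.1
  have hev : Cfsg.hermForm n F 2 D.e.1 v.1 = 0 := hv
  have hzv : Cfsg.hermForm n F 2 z.1 v.1 = 0 := h.2.1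
  have hz'v : Cfsg.hermForm n F 2 z'.1 v.1 = 0 := h'.2.1
  obtain ⟨g, g1, g2, g3, hphi⟩ := exists_wide hF hn D x2 hM h.1 h'.1 h.2.1 h'.2.1 hl (fun hs => hr0 (by
    obtain ⟨a, w, hw, hsum⟩ := Submodule.mem_span_insert.1 hs
    obtain ⟨b, c, hw'⟩ := Submodule.mem_span_pair.1 hw
    set α := Cfsg.hermForm n F 2 z'.1 z.1
    set r := z'.1 - α • z.1 with hr
    have e1 : Cfsg.hermForm n F 2 r D.e.1 = 0 := by rw [hr, H_sub_left, H_smul_left, hz'e, hze]; ring
    have e2 : Cfsg.hermForm n F 2 r v.1 = 0 := by rw [hr, H_sub_left, H_smul_left, hz'v, hzv]; ring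
    rw [← hw'] at hsum
    rw [hsum] at e1 e2 hrz
    simp only [H_add_left, H_smul_left, D.e.2, v.2, z.2, sym hF hev, hev, hze, hzv, sym hF hze, sym hF hzv,
      mul_one, mul_zero, add_zero, zero_add] at e1 e2 hrz
    rw [hsum, e1, e2, hrz, zero_smul, zero_smul, zero_smul, add_zero, add_zero]))
  rw [pt_same D hF (by omega) h ⟨h.1, h.2.1, g1, g3⟩, pt_same D hF (by omega) h' ⟨h'.1, h'.2.1, g2, g3⟩,
    Base.pt, Base.pt, hphi]

theorem sq_base {a b d : Ω} (ha : Perp D.e a) (hb : Perp D.e b) (had : Perp a d) (hbd : Perp b d) :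
    lift D (lbl D a) d = lift D (lbl D b) d := by
  have hn4 : 4 ≤ n := by omega
  have hI : Indep F 2 n G D := indep hF hn D x2 hM
  by_cases hl : Linked 2 a.1 b.1
  · exact sq_one D hF hn4 hI ha hb had hbd hl
  by_cases hed : Linked 2 D.e.1 d.1
  · have h := sq_opp hF (covering D hF hn4 hI) (p := ((1 : S × G) : (S × G) ⧸ Kgrp D)) (a := a) (b := b) (c := d)
    have hp : (covering D hF hn4 hI).proj ((1 : S × G) : (S × G) ⧸ Kgrp D) = D.e := by
      show proj D _ = _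
      rw [proj_mk]
      exact one_smul _ _
    rw [hp] at h
    have h' := h ha hb had hbd hed
    change lift D (lift D _ a) d = lift D (lift D _ b) d at h'
    rwa [lift_base D hF hn4 hI ha, lift_base D hF hn4 hI hb] at h'
  by_cases hsp : b.1 - Cfsg.hermForm n F 2 b.1 a.1 • a.1 ∈
      Submodule.span F ({D.e.1, d.1, a.1} : Set (Fin n → F))
  · -- a perpendicular to all four
    obtain ⟨hs0, hss, hse, -⟩ := unlinked_rest hF D.e.2 d.2 hed
    set l := Cfsg.hermForm n F 2 d.1 D.e.1 with hld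
    set s := d.1 - l • D.e.1 with hs
    have hsa : Cfsg.hermForm n F 2 s a.1 = 0 := by
      rw [hs, H_sub_left, H_smul_left, show Cfsg.hermForm n F 2 D.e.1 a.1 = 0 from ha, sym hF had]; ring
    obtain ⟨z, hz, hze, hza, hzs⟩ := OrthTwo.exists_perp_iso hF hn D.e.2 a.2 ha hss hs0 hse hsa
    have hzd : Cfsg.hermForm n F 2 z d.1 = 0 := by
      rw [show d.1 = s + l • D.e.1 by rw [hs]; abel, H_add_right hF, H_smul_right, hzs, hze]; ring
    have hzb : Cfsg.hermForm n F 2 z b.1 = 0 := by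
      rw [show b.1 = (b.1 - Cfsg.hermForm n F 2 b.1 a.1 • a.1) + Cfsg.hermForm n F 2 b.1 a.1 • a.1 by abel,
        H_add_right hF, H_smul_right, hza, mul_zero, add_zero]
      exact perp_span hF (by rintro t (rfl | rfl | rfl); exacts [hze, hzd, hza]) hsp
    set Z : Ω := ⟨z, hz⟩
    have hl1 : Linked 2 a.1 Z.1 := Or.inr (by
      rw [show Cfsg.hermForm n F 2 Z.1 a.1 = 0 from hza, zero_pow (by norm_num)]; exact zero_ne_one)
    have hl2 : Linked 2 Z.1 b.1 := Or.inr (by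
      rw [show Cfsg.hermForm n F 2 b.1 Z.1 = 0 from sym hF hzb, zero_pow (by norm_num)]; exact zero_ne_one)
    exact (sq_one D hF hn4 hI (b := Z) ha (sym hF hze) had hzd hl1).trans
      (sq_one D hF hn4 hI (a := Z) (sym hF hze) hb hzd hbd hl2)
  · obtain ⟨g, g1, g2, g3, hphi⟩ := exists_wide hF hn D x2 hM ha hb had hbd hl hsp
    rw [lift_lbl D hF hn4 hI ha g1 g3, lift_lbl D hF hn4 hI hb g2 g3, hphi]

/-- The two maps extend to the whole group. -/
theorem exists_hom : ∃ Φ : S →* G, (∀ g : S, g • D.e = D.e → Φ g = D.A g) ∧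
    (∀ g : S, g • D.x0 = D.x0 → Φ g = D.B g) := by
  have hn4 : 4 ≤ n := by omega
  have hI : Indep F 2 n G D := indep hF hn D x2 hM
  refine exists_hom_of D hF hn4 hI fun p => OrthTwo.exists_label hF hn (covering D hF hn4 hI) ?_ p
  intro p a b c ha hb hac hbc
  induction p using QuotientGroup.induction_on with
  | H w =>
    change Perp (proj D _) a at ha
    change Perp (proj D _) b at hb
    rw [proj_mk] at ha hb
    show lift D (lift D _ a) c = lift D (lift D _ b) c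
    rw [lift_trans D hF hn4 hI w ha hac, lift_trans D hF hn4 hI w hb hbc,
      sq_base hF hn D x2 hM (to_base D hF hn4 hI w ha) (to_base D hF hn4 hI w hb) (perp_smul _ hac)
        (perp_smul _ hbc)]

end Cfsg.Agent.Phan.BaseTwo
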