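import Cfsg.Agent.Lib.Phan.Orth
import Mathlib

/-!
Coverings of the orthogonality graph on unit vectors: if triangles and squares with a linked diagonal close,
every cycle closes, so consistent labellings exist.
-/

set_option autoImplicit false
set_option linter.unusedSectionVars false
set_option linter.unusedSimpArgs false

namespace Cfsg.Agent.Phan.Cov

open Matrix
open Cfsg.Agent.Forms Cfsg.Agent.Classical Cfsg.Agent.Classical.Unitary
open Cfsg.Agent.SimpleFacts.SUMult Blocks CosetGeom
open Cfsg.Agent.Phan.Orth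

universe u v

variable {F : Type u} [Field F] [Fintype F] {q n : ℕ}

/-- Orthogonality of unit vectors. -/
def Perp (x y : UVec F q n) : Prop := Cfsg.hermForm n F q x.1 y.1 = 0

/-- A covering in which triangles and linked squares close. -/
structure Covering (F : Type u) [Field F] [Fintype F] (q n : ℕ) (P : Type v) where
  /-- the projection -/
  proj : P → UVec F q n
  /-- lifting of edges -/
  lift : P → UVec F q n → P
  proj_lift : ∀ p x, Perp (proj p) x → proj (lift p x) = x
  back : ∀ p x, Perp (proj p) x → lift (lift p x) (proj p) = p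
  tri : ∀ p a b, Perp (proj p) a → Perp (proj p) b → Perp a b → lift (lift p a) b = lift p b
  sqLinked : ∀ p a b c, Perp (proj p) a → Perp (proj p) b → Perp a c → Perp b c →
    Linked q a.1 b.1 → lift (lift p a) c = lift (lift p b) c

variable (hF : Fintype.card F = q ^ 2) (hn : 4 ≤ n) (hq : 2 < q) (hq4 : 3 < q ∨ 5 ≤ n) {P : Type v} (D : Covering F q n P)
include hF

theorem Perp.symm {x y : UVec F q n} (h : Perp x y) : Perp y x := sym hF h

theorem sq_opp {p : P} {a b c : UVec F q n} (ha : Perp (D.proj p) a) (hb : Perp (D.proj p) b) (hac : Perp a c)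
    (hbc : Perp b c) (hl : Linked q (D.proj p).1 c.1) : D.lift (D.lift p a) c = D.lift (D.lift p b) c := by
  have hpa : D.proj (D.lift p a) = a := D.proj_lift _ _ ha
  have h := D.sqLinked (D.lift p a) (D.proj p) c b (by rw [hpa]; exact Perp.symm hF ha) (by rw [hpa]; exact hac) hb
    (Perp.symm hF hbc) hl
  rw [D.back _ _ ha] at h
  have hc : D.proj (D.lift (D.lift p a) c) = c := D.proj_lift _ _ (by rw [hpa]; exact hac)
  conv_rhs => rw [h]
  conv_lhs => rw [← D.back (D.lift (D.lift p a) c) b (by rw [hc]; exact Perp.symm hF hbc)]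
  rw [hc]

include hn hq

/-- The squares with both diagonals degenerate, for a coefficient of norm `-1`. -/
theorem split (hq3 : 3 < q) {p : P} {a v x' : UVec F q n} {r : Fin n → F} {c : F} (hc : c ^ (q + 1) = -1)
    (ha : Perp (D.proj p) a) (hr : Cfsg.hermForm n F q r r = 0) (hr0 : r ≠ 0)
    (hre : Cfsg.hermForm n F q r (D.proj p).1 = 0) (hra : Cfsg.hermForm n F q r a.1 = 0) {l : F}
    (hv : v.1 = l • (D.proj p).1 + r) (hx' : x'.1 = a.1 + c • r) :
    D.lift (D.lift p a) v = D.lift (D.lift p x') v := by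
  obtain ⟨β, hβ0, hβ1, hβ2⟩ := exists_norm_mid hF hq3
  have hea : Cfsg.hermForm n F q (D.proj p).1 a.1 = 0 := ha
  have hae : Cfsg.hermForm n F q a.1 (D.proj p).1 = 0 := sym hF hea
  obtain ⟨w, hw, hwT, hwr⟩ := exists_unit_hit hF (T := ({(D.proj p).1, a.1} : Set (Fin n → F))) hr
    (by rintro t (rfl | rfl); exacts [hre, hra])
    (fun hs => hr0 <| by
      obtain ⟨s, t, hst⟩ := Submodule.mem_span_pair.1 hs
      have e1 : Cfsg.hermForm n F q r (D.proj p).1 = s := by
        rw [← hst, H_add_left, H_smul_left, H_smul_left, (D.proj p).2, hae]; ring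
      have e2 : Cfsg.hermForm n F q r a.1 = t := by
        rw [← hst, H_add_left, H_smul_left, H_smul_left, a.2, hea]; ring
      rw [hre] at e1; rw [hra] at e2
      rw [← hst, ← e1, ← e2, zero_smul, zero_smul, add_zero]) hβ0
  have hwe : Cfsg.hermForm n F q w (D.proj p).1 = 0 := hwT _ (by simp)
  have hwa : Cfsg.hermForm n F q w a.1 = 0 := hwT _ (by simp)
  have hwv : Cfsg.hermForm n F q w v.1 = β := by
    rw [hv, H_add_right hF, H_smul_right, hwe, hwr]; ring
  have hwx : Cfsg.hermForm n F q w x'.1 = c ^ q * β := by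
    rw [hx', H_add_right hF, H_smul_right, hwa, hwr]; ring
  have hcn : (c ^ q * β) ^ (q + 1) = -(β ^ (q + 1)) := by
    rw [mul_pow, ← pow_mul, mul_comm q, pow_mul, hc]
    have : ((-1 : F)) ^ q = -1 := by
      rw [← HermStd.qHom_apply hF, map_neg, map_one]
    rw [this]; ring
  have hex' : Perp (D.proj p) x' := by
    show Cfsg.hermForm n F q _ _ = 0
    rw [hx', H_add_right hF, H_smul_right, hea, sym hF hre]; ring
  have hav : Perp a v := by
    show Cfsg.hermForm n F q _ _ = 0
    rw [hv, H_add_right hF, H_smul_right, hae, sym hF hra]; ring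
  have hvx : Cfsg.hermForm n F q v.1 x'.1 = 0 := by
    rw [hv, hx']
    simp only [H_add_left, H_add_right hF, H_smul_left, H_smul_right, hea, hre, sym hF hre, hra, hr]
    ring
  obtain ⟨z, hz, hzv, hzx, hzw⟩ := exists_perp_three hF hn (y := w) v.2 x'.2 hvx (by
    rw [hw, hwv, hwx, hcn]; ring_nf; exact one_ne_zero)
  set W : UVec F q n := ⟨w, hw⟩
  set Z : UVec F q n := ⟨z, hz⟩
  have hpW : Perp (D.proj p) W := sym hF hwe
  have hPW : D.proj (D.lift p W) = W := D.proj_lift _ _ hpW
  have hPx : D.proj (D.lift p x') = x' := D.proj_lift _ _ hex'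
  calc D.lift (D.lift p a) v = D.lift (D.lift (D.lift p W) a) v := by
        rw [D.tri _ _ _ hpW ha hwa]
    _ = D.lift (D.lift (D.lift p W) Z) v := by
        refine sq_opp hF D (by rw [hPW]; exact hwa) (by rw [hPW]; exact sym hF hzw) hav hzv ?_
        rw [hPW]
        refine Or.inr ?_
        rw [← H_conj hF W.1 v.1, hwv, ← pow_mul, mul_comm q, pow_mul, norm_fix hF]
        exact hβ1
    _ = D.lift (D.lift (D.lift p x') Z) v := by
        congr 1
        refine D.sqLinked _ _ _ _ hpW hex' (sym hF hzw) (sym hF hzx) (Or.inr ?_)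
        rw [← H_conj hF W.1 x'.1, hwx, ← pow_mul, mul_comm q, pow_mul, norm_fix hF, hcn]
        exact fun h => hβ2 (by linear_combination -h)
    _ = D.lift (D.lift p x') v :=
        D.tri _ _ _ (by rw [hPx]; exact sym hF hzx) (by rw [hPx]; exact sym hF hvx) hzv

omit hn hq
/-- The additive span of an element of norm `-1` times the norm one group is everything. -/
theorem span_norm (q' : ℕ) (hq' : q' = q) :
    AddSubgroup.closure {c : F | c ^ (q' + 1) = -1} = ⊤ := by
  subst hq'
  classical
  obtain ⟨c0, hc0⟩ := UnitaryCount.exists_norm_eq hF (μ := (-1 : F)) (neg_ne_zero.2 one_ne_zero)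
    (by rw [← HermStd.qHom_apply hF, map_neg, map_one])
  have hc00 : c0 ≠ 0 := fun h => by
    rw [h, zero_pow (by omega)] at hc0
    exact one_ne_zero (neg_eq_zero.1 hc0.symm)
  set μs : Submonoid F :=
    { carrier := {t | t ^ (q' + 1) = 1}
      one_mem' := one_pow _
      mul_mem' := fun {a b} ha hb => by
        show (a * b) ^ (q' + 1) = 1
        rw [mul_pow, show a ^ (q' + 1) = 1 from ha, show b ^ (q' + 1) = 1 from hb, one_mul] } with hμ
  set R := Subring.closure (μs : Set F) with hR
  have hRtop : R = ⊤ := by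
    have hfield : IsField R := by
      have : Finite R := inferInstance
      exact Finite.isField_of_domain R
    let _ := hfield.toField
    have h1 := Module.card_eq_pow_finrank (K := R) (V := F)
    have hlt : q' < Nat.card R := by
      have hμc : Nat.card (powMonoidHom (q' + 1) : Fˣ →* Fˣ).ker = q' + 1 := by
        rw [IsCyclic.card_powMonoidHom_ker, natCard_units_F hF, Nat.gcd_mul_left_left]
      let ι : (powMonoidHom (q' + 1) : Fˣ →* Fˣ).ker → R := fun u =>
        ⟨((u : Fˣ) : F), Subring.subset_closure (by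
          show ((u : Fˣ) : F) ^ (q' + 1) = 1
          simpa using congrArg Units.val u.2)⟩
      have hι : Function.Injective ι := fun u u' h => Subtype.ext (Units.ext (congrArg Subtype.val h))
      have := Nat.card_le_card_of_injective ι hι
      omega
    rw [eq_top_iff]
    intro x _
    have hbij : Fintype.card F ≤ Fintype.card R := by
      rw [h1]
      conv_rhs => rw [← pow_one (Fintype.card R)]
      refine Nat.pow_le_pow_right Fintype.card_pos ?_
      by_contra hk
      push Not at hk
      have h2 : q' ^ 2 < Fintype.card R ^ 2 :=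
        Nat.pow_lt_pow_left (by rwa [← Nat.card_eq_fintype_card]) two_ne_zero
      have h3 : Fintype.card R ^ 2 ≤ Fintype.card R ^ Module.finrank R F :=
        Nat.pow_le_pow_right Fintype.card_pos hk
      omega
    obtain ⟨y, hy⟩ := ((Fintype.bijective_iff_injective_and_card (Subtype.val : R → F)).2
      ⟨Subtype.val_injective, le_antisymm (Fintype.card_le_of_injective _ Subtype.val_injective) hbij⟩).2 x
    exact hy ▸ y.2
  rw [eq_top_iff]
  intro x _
  have hx : c0⁻¹ * x ∈ R := hRtop ▸ Subring.mem_top _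
  rw [hR, Subring.mem_closure_iff, Submonoid.closure_eq] at hx
  have hmap := AddSubgroup.mem_map_of_mem (AddMonoidHom.mulLeft c0) hx
  rw [AddMonoidHom.map_closure, AddMonoidHom.coe_mulLeft] at hmap
  simp only [← mul_assoc, mul_inv_cancel₀ hc00, one_mul] at hmap
  refine AddSubgroup.closure_mono ?_ hmap
  rintro _ ⟨t, ht, rfl⟩
  show (c0 * t) ^ (q' + 1) = -1
  rw [mul_pow, hc0, show t ^ (q' + 1) = 1 from ht, mul_one]

include hn hq

/-- The squares with both diagonals degenerate. -/
theorem degen (hq3 : 3 < q) {p : P} {v : UVec F q n} {r : Fin n → F} (hr : Cfsg.hermForm n F q r r = 0) (hr0 : r ≠ 0)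
    (hre : Cfsg.hermForm n F q r (D.proj p).1 = 0) {l : F} (hv : v.1 = l • (D.proj p).1 + r) (c : F) :
    ∀ a x' : UVec F q n, Perp (D.proj p) a → Cfsg.hermForm n F q r a.1 = 0 → x'.1 = a.1 + c • r →
      D.lift (D.lift p a) v = D.lift (D.lift p x') v := by
  have key : ∀ c ∈ AddSubgroup.closure {c : F | c ^ (q + 1) = -1},
      ∀ a x' : UVec F q n, Perp (D.proj p) a → Cfsg.hermForm n F q r a.1 = 0 → x'.1 = a.1 + c • r →
      D.lift (D.lift p a) v = D.lift (D.lift p x') v := by
    intro c hc
    have step : ∀ (a : UVec F q n), Perp (D.proj p) a → Cfsg.hermForm n F q r a.1 = 0 → ∀ t : F,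
        ∃ b : UVec F q n, b.1 = a.1 + t • r ∧ Perp (D.proj p) b ∧ Cfsg.hermForm n F q r b.1 = 0 := by
      intro a ha hra t
      refine ⟨⟨a.1 + t • r, ?_⟩, rfl, ?_, ?_⟩
      · simp only [H_add_left, H_add_right hF, H_smul_left, H_smul_right, hr, hra, sym hF hra, a.2]; ring
      · show Cfsg.hermForm n F q _ _ = 0
        rw [H_add_right hF, H_smul_right, sym hF hre, show Cfsg.hermForm n F q (D.proj p).1 a.1 = 0 from ha]
        ring
      · show Cfsg.hermForm n F q _ _ = 0
        rw [H_add_right hF, H_smul_right, hr, hra]; ring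
    induction hc using AddSubgroup.closure_induction with
    | mem c hc => exact fun a x' ha hra hx' => split hF hn hq D hq3 hc ha hr hr0 hre hra hv hx'
    | zero =>
      intro a x' _ _ hx'
      rw [show x' = a from Subtype.ext (by rw [hx', zero_smul, add_zero])]
    | add c d _ _ hc hd =>
      intro a x' ha hra hx'
      obtain ⟨b, hb, hpb, hrb⟩ := step a ha hra c
      rw [hc a b ha hra hb]
      exact hd b x' hpb hrb (by rw [hx', hb, add_smul, add_assoc])
    | neg c _ hc =>
      intro a x' ha hra hx'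
      obtain ⟨b, hb, hpb, hrb⟩ := step a ha hra (-c)
      rw [show x' = b from Subtype.ext (hx'.trans hb.symm)]
      exact (hc b a hpb hrb (by rw [hb, neg_smul]; abel)).symm
  exact key c (by rw [span_norm hF q rfl]; trivial)

include hq4

/-- All squares close. -/
theorem sq_all {p : P} {a b c : UVec F q n} (ha : Perp (D.proj p) a) (hb : Perp (D.proj p) b) (hac : Perp a c)
    (hbc : Perp b c) : D.lift (D.lift p a) c = D.lift (D.lift p b) c := by
  set e := D.proj p with he
  by_cases hab : Linked q a.1 b.1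
  · exact D.sqLinked _ _ _ _ ha hb hac hbc hab
  by_cases hec : Linked q e.1 c.1
  · exact sq_opp hF D ha hb hac hbc hec
  have hae : Cfsg.hermForm n F q a.1 e.1 = 0 := sym hF ha
  have hbe : Cfsg.hermForm n F q b.1 e.1 = 0 := sym hF hb
  have hac' : Cfsg.hermForm n F q a.1 c.1 = 0 := hac
  have hbc' : Cfsg.hermForm n F q b.1 c.1 = 0 := hbc
  by_cases hsp : b.1 - Cfsg.hermForm n F q b.1 a.1 • a.1 ∈
      Submodule.span F ({e.1, c.1, a.1} : Set (Fin n → F))
  · obtain ⟨hs0, hss, hsa, hα⟩ := unlinked_rest hF a.2 b.2 hab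
    obtain ⟨hr0, hrr, hre, -⟩ := unlinked_rest hF e.2 c.2 hec
    set α := Cfsg.hermForm n F q b.1 a.1 with hαdef
    set s := b.1 - α • a.1 with hsdef
    set l := Cfsg.hermForm n F q c.1 e.1 with hl
    set r := c.1 - l • e.1 with hrdef
    obtain ⟨x1, w, hw, hsum⟩ := Submodule.mem_span_insert.1 hsp
    obtain ⟨x2, x3, hw'⟩ := Submodule.mem_span_pair.1 hw
    have hse : Cfsg.hermForm n F q s e.1 = 0 := by rw [hsdef, H_sub_left, H_smul_left, hbe, hae]; ring
    have hra : Cfsg.hermForm n F q r a.1 = 0 := by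
      rw [hrdef, H_sub_left, H_smul_left, sym hF hac', sym hF hae]; ring
    have hce : c.1 = l • e.1 + r := by rw [hrdef]; abel
    have hsr : s = (x1 + x2 * l) • e.1 + x2 • r + x3 • a.1 := by
      rw [hsum, ← hw', hce]; module
    have h1 : x1 + x2 * l = 0 := by
      have := hse
      rwa [hsr, H_add_left, H_add_left, H_smul_left, H_smul_left, H_smul_left, e.2, hre, hae, mul_one,
        mul_zero, mul_zero, add_zero, add_zero] at this
    have h3 : x3 = 0 := by
      have := hsa
      rwa [hsr, h1, H_add_left, H_add_left, H_smul_left, H_smul_left, H_smul_left, hra, a.2, zero_mul,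
        mul_zero, mul_one, zero_add, zero_add] at this
    rw [h1, h3, zero_smul, zero_smul, zero_add, add_zero] at hsr
    set a' : UVec F q n := ⟨α • a.1, by rw [UnitaryCount.hermForm_smul_smul, a.2, hα, one_mul]⟩
    have hea' : Perp e a' := by
      show Cfsg.hermForm n F q _ _ = 0
      rw [H_smul_right, show Cfsg.hermForm n F q e.1 a.1 = 0 from ha, mul_zero]
    have ha'c : Perp a' c := by
      show Cfsg.hermForm n F q _ _ = 0
      rw [H_smul_left, hac', mul_zero]
    rcases hq4 with hq3 | hn5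
    swap
    · obtain ⟨z, hz, hze, hzc, hza, hzr⟩ := room hF hn5 (Or.inl (by omega)) e.2 a.2 hae
        (b.1 - Cfsg.hermForm n F q b.1 a.1 • a.1) (Or.inr hsp)
      refine (D.sqLinked p a ⟨z, hz⟩ c ha (sym hF hze) hac hzc ?_).trans
        (D.sqLinked p ⟨z, hz⟩ b c (sym hF hze) hb hzc hbc ?_)
      · exact Or.inr (by rw [show Cfsg.hermForm n F q z a.1 = 0 from hza, zero_pow (by omega)]; exact zero_ne_one)
      · refine Or.inr ?_
        have e1 : Cfsg.hermForm n F q z b.1 = 0 := by
          rw [show b.1 = s + α • a.1 by rw [hsdef]; abel, H_add_right hF, H_smul_right, hza, mul_zero, add_zero]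
          exact hzr
        rw [show Cfsg.hermForm n F q b.1 z = 0 from sym hF e1, zero_pow (by omega)]
        exact zero_ne_one
    rw [D.sqLinked _ _ _ _ ha hea' hac ha'c (Or.inl ⟨α, rfl⟩)]
    exact degen hF hn hq D hq3 hrr hr0 hre hce x2 a' b hea' (by rw [H_smul_right, hra, mul_zero])
      (by rw [← hsr]; show b.1 = α • a.1 + s; rw [hsdef]; abel)
  · obtain ⟨z, hz, hze, hzc, h1, h2⟩ := exists_between hF (by omega) a.2 b.2 hae hac' hbe hbc' hab hsp
    exact (D.sqLinked p a ⟨z, hz⟩ c ha (sym hF hze) hac hzc h1).trans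
      (D.sqLinked p ⟨z, hz⟩ b c (sym hF hze) hb hzc hbc h2)

/-- Pentagons close. -/
theorem pent {p : P} {x v w y : UVec F q n} (hx : Perp (D.proj p) x) (hxv : Perp x v) (hvw : Perp v w)
    (hy : Perp (D.proj p) y) (hyw : Perp y w) :
    D.lift (D.lift (D.lift p x) v) w = D.lift (D.lift p y) w := by
  set e := D.proj p with he
  have hpx : D.proj (D.lift p x) = x := D.proj_lift _ _ hx
  have hpy : D.proj (D.lift p y) = y := D.proj_lift _ _ hy
  have hpv : D.proj (D.lift (D.lift p x) v) = v := D.proj_lift _ _ (by rw [hpx]; exact hxv)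
  by_cases hev : Cfsg.hermForm n F q e.1 v.1 = 0
  · rw [D.tri _ _ _ hx hev hxv]
    exact sq_all hF hn hq hq4 D hev hy hvw hyw
  by_cases hyv : Cfsg.hermForm n F q y.1 v.1 = 0
  · rw [sq_all hF hn hq hq4 D hx hy hxv hyv]
    exact D.tri _ _ _ (by rw [hpy]; exact hyv) (by rw [hpy]; exact hyw) hvw
  obtain ⟨x', hx'1, hx'e, hx'v, hd⟩ := exists_pent_perp hF hn (by omega) e.2 v.2 x.2 y.2 (sym hF hx) hxv
    (sym hF hy) hyv hev
  obtain ⟨z, hz, hzv, hzx, hzy⟩ := exists_perp_three hF hn v.2 hx'1 (sym hF hx'v) hd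
  set X : UVec F q n := ⟨x', hx'1⟩
  have hXv : Perp X v := hx'v
  set Z : UVec F q n := ⟨z, hz⟩
  have heX : Perp e X := sym hF hx'e
  have hpX : D.proj (D.lift p X) = X := D.proj_lift _ _ heX
  have hpZ : D.proj (D.lift (D.lift p y) Z) = Z := D.proj_lift _ _ (by rw [hpy]; exact sym hF hzy)
  have e1 : D.lift p X = D.lift (D.lift (D.lift p y) Z) X := by
    have := sq_all hF hn hq hq4 D (p := D.lift p y) (a := e) (b := Z) (c := X) (by rw [hpy]; exact sym hF hy)
      (by rw [hpy]; exact sym hF hzy) heX hzx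
    rwa [D.back _ _ hy] at this
  have e2 : D.lift (D.lift p x) v = D.lift (D.lift (D.lift p y) w) v := by
    rw [sq_all hF hn hq hq4 D hx heX hxv hx'v, e1,
      D.tri _ X v (by rw [hpZ]; exact hzx) (by rw [hpZ]; exact hzv) hXv]
    exact sq_all hF hn hq hq4 D (by rw [hpy]; exact sym hF hzy) (by rw [hpy]; exact hyw) hzv (sym hF hvw)
  rw [e2]
  have hpw : D.proj (D.lift (D.lift p y) w) = w := D.proj_lift _ _ (by rw [hpy]; exact hyw)
  conv_rhs => rw [← D.back (D.lift (D.lift p y) w) v (by rw [hpw]; exact sym hF hvw)]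
  rw [hpw]

/-- A consistent labelling through any point. -/
theorem exists_label (p : P) : ∃ ℓ : UVec F q n → P, ℓ (D.proj p) = p ∧ (∀ v, D.proj (ℓ v) = v) ∧
    ∀ v w, Perp v w → D.lift (ℓ v) w = ℓ w := by
  classical
  have hwit : ∀ v : UVec F q n, ∃ x : UVec F q n, Perp (D.proj p) x ∧ Perp x v := fun v => by
    obtain ⟨z, hz, h1, h2⟩ := exists_perp_two hF hn (D.proj p).2 v.1
    exact ⟨⟨z, hz⟩, sym hF h1, h2⟩
  choose x hx hxv using hwit
  refine ⟨fun v => D.lift (D.lift p (x v)) v, D.back _ _ (hx _), fun v => ?_, fun v w hvw => ?_⟩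
  · exact D.proj_lift _ _ (by rw [D.proj_lift _ _ (hx v)]; exact hxv v)
  · exact pent hF hn hq hq4 D (hx v) (hxv v) hvw (hx w) (hxv w)

omit hq hq4
/-- Consistent labellings agreeing at a point are equal. -/
theorem label_unique (ℓ ℓ' : UVec F q n → P) (h : ∀ v w, Perp v w → D.lift (ℓ v) w = ℓ w)
    (h' : ∀ v w, Perp v w → D.lift (ℓ' v) w = ℓ' w) {v0 : UVec F q n} (he : ℓ v0 = ℓ' v0) : ℓ = ℓ' := by
  funext v
  obtain ⟨z, hz, h1, h2⟩ := exists_perp_two hF hn v0.2 v.1
  have e0 : Perp v0 (⟨z, hz⟩ : UVec F q n) := sym hF h1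
  have e1 : Perp (⟨z, hz⟩ : UVec F q n) v := h2
  rw [← h _ _ e1, ← h _ _ e0, he, h' _ _ e0, h' _ _ e1]

end Cfsg.Agent.Phan.Cov
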