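import Cfsg.Agent.Lib.Phan.Shift
import Cfsg.Agent.Lib.Phan.TwoAut
import Cfsg.Agent.Lib.Phan.Align
import Mathlib

/-!
For `q = 3`, the image of `SU₃` in `SU₄` fixes a unit vector.
-/

set_option autoImplicit false
set_option linter.unusedSectionVars false
set_option linter.unusedSimpArgs false

namespace Cfsg.Agent.Phan.FourFixed

open Matrix MulAction
open Cfsg.Agent.Forms Cfsg.Agent.Classical Cfsg.Agent.Classical.Unitary
open Cfsg.Agent.SimpleFacts.SUMult Blocks CosetGeom
open Cfsg.Agent.Phan.Orth Cfsg.Agent.Phan.Cov Cfsg.Agent.Phan.Base Cfsg.Agent.Phan.Shift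

universe u v

variable {F : Type u} [Field F] [Fintype F] (hF : Fintype.card F = 3 ^ 2)

local notation "H" => Cfsg.hermForm 4 F 3
local notation "M4" => Matrix (Fin 4) (Fin 4) F

include hF

theorem three_zero : (3 : F) = 0 := by
  have h := Nat.cast_card_eq_zero F
  rw [hF] at h
  exact mul_self_eq_zero.1 (show (3 : F) * 3 = 0 by push_cast at h; linear_combination h)

theorem two_ne : (2 : F) ≠ 0 := fun h => one_ne_zero (show (1 : F) = 0 by linear_combination three_zero hF - h)

theorem char_three : CharP F 3 :=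
  (CharP.charP_iff_prime_eq_zero Nat.prime_three).2 (by exact_mod_cast three_zero hF)

/-- A homomorphism from `SU₂` into a commutative set of elements of exponent four is trivial. -/
theorem hom_trivial {K : Type v} [Group K] (χ : Cfsg.SU 2 F 3 →* K) (hc : ∀ a b, χ a * χ b = χ b * χ a)
    (h4 : ∀ a, χ a ^ 4 = 1) (a : Cfsg.SU 2 F 3) : χ a = 1 := by
  have : Fact (Nat.Prime 3) := ⟨Nat.prime_three⟩
  have : Fact (Nat.Prime 2) := ⟨Nat.prime_two⟩
  have := char_three hF
  obtain ⟨m, hm, hmem⟩ := Point.coAb_of_ne_char hF 3 (r := 2) (by norm_num) (n := 2) (by norm_num) (by norm_num) a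
  have hcomm : commutator (Cfsg.SU 2 F 3) ≤ χ.ker := by
    rw [commutator_def, Subgroup.commutator_le]
    intro x _ y _
    rw [MonoidHom.mem_ker, map_commutatorElement, commutatorElement_eq_one_iff_mul_comm]
    exact hc x y
  have h1 : χ a ^ m = 1 := by rw [← map_pow]; exact hcomm hmem
  have hcop : Nat.gcd m 4 = 1 := (Nat.Coprime.pow_right 2 ((Nat.prime_two.coprime_iff_not_dvd).2 hm).symm :)
  have := pow_gcd_eq_one.2 ⟨h1, h4 a⟩
  rwa [hcop, pow_one] at this

theorem card_stab (u : UVec F 3 4) :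
    Nat.card (stabilizer (Cfsg.SU 4 F 3) u) = Nat.card (Cfsg.SU 3 F 3) := by
  obtain ⟨k, hk⟩ := exists_su_frame hF (n := 4) (f := ![(sv hF (0 : Fin 4)).1]) (f' := ![u.1]) (by omega)
    (one_frame (sv hF (0 : Fin 4)).2) (one_frame u.2)
  have hku : k • sv hF (0 : Fin 4) = u := Subtype.ext (hk 0)
  rw [← hku, Nat.card_congr (stabilizerEquivStabilizer rfl).symm.toEquiv, stab_first hF (M := 3),
    ← Nat.card_congr (MonoidHom.ofInjective (shift_injective _ hF)).toEquiv]

/-- A fixed unit vector of an involution other than `-1`. -/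
theorem exists_fixed_unit {n : ℕ} {M : Cfsg.SU n F 3} (hM : M * M = 1) (hneg : mat M ≠ -1) :
    ∃ v : UVec F 3 n, M • v = v := by
  have h2 := two_ne hF
  have hMM : ∀ x, mat M *ᵥ (mat M *ᵥ x) = x := fun x => by rw [← mul_mulVec, hM, mat_one, one_mulVec]
  obtain ⟨a, ha, ha0⟩ : ∃ a, mat M *ᵥ a = a ∧ a ≠ 0 := by
    by_contra hc
    push Not at hc
    refine hneg (mat_ext fun x => ?_)
    rw [Matrix.neg_mulVec, one_mulVec]
    exact eq_neg_of_add_eq_zero_left (hc (mat M *ᵥ x + x) (by rw [Matrix.mulVec_add, hMM, add_comm]))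
  obtain ⟨w, hw, hw0⟩ : ∃ w, mat M *ᵥ w = w ∧ Cfsg.hermForm n F 3 w w ≠ 0 := by
    by_cases haa : Cfsg.hermForm n F 3 a a = 0
    swap
    · exact ⟨a, ha, haa⟩
    by_contra hc
    push Not at hc
    obtain ⟨f, -, hf⟩ := exists_partner hF ha0 haa
    set b := mat M *ᵥ f + f with hb
    have hbfix : mat M *ᵥ b = b := by rw [hb, Matrix.mulVec_add, hMM, add_comm]
    have hab : Cfsg.hermForm n F 3 a b = 2 := by
      rw [hb, H_add_right hF, hf]
      nth_rewrite 1 [← ha]
      rw [SU_H, hf]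
      norm_num
    have hba : Cfsg.hermForm n F 3 b a = 2 := by
      rw [← H_conj hF, hab, ← HermStd.qHom_apply hF, map_ofNat]
    obtain ⟨c, hc1⟩ := exists_trace_eq hF (c := (1 : F)) (one_pow 3)
    have h1 := hc (c • a + b) (by rw [Matrix.mulVec_add, Matrix.mulVec_smul, ha, hbfix])
    simp only [H_add_left, H_add_right hF, H_smul_left, H_smul_right, haa, hab, hba, hc b hbfix] at h1
    exact h2 (by linear_combination h1 - 2 * hc1)
  obtain ⟨c, -, hcu⟩ := exists_normalise hF hw0
  exact ⟨⟨c • w, hcu⟩, Subtype.ext (by rw [smul_val, Matrix.mulVec_smul, hw])⟩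

theorem trace_shift {k : ℕ} (g : Cfsg.SU k F 3) :
    (mat (shift 1 k (k + 1) (by omega) g)).trace = 1 + (mat g).trace := by
  rw [Matrix.trace, Fin.sum_univ_succ, Matrix.trace]
  congr 1
  · rw [Matrix.diag_apply, Align.col_entry, shift_apply, dif_neg (by simp), Pi.single_eq_same]
  · refine Finset.sum_congr rfl fun i _ => ?_
    rw [Matrix.diag_apply, Matrix.diag_apply, Align.col_entry, shift_apply, dif_pos (by simp; omega),
      Align.col_entry g i i]
    have e1 : (fun l : Fin k => (Pi.single i.succ 1 : Fin (k + 1) → F) ⟨1 + l, by omega⟩) = Pi.single i 1 :=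
      funext fun l => by
        simp only [Pi.single_apply, Fin.ext_iff, Fin.val_succ]
        split_ifs <;> first | rfl | omega
    rw [e1]
    congr 1

theorem trace_conj {n : ℕ} (k M : Cfsg.SU n F 3) : (mat (k⁻¹ * M * k)).trace = (mat M).trace := by
  rw [mul_assoc, mat_mul, Matrix.trace_mul_comm, ← mat_mul, mul_assoc, mul_inv_cancel, mul_one]

/-- An involution fixing a unit vector is conjugate to one in the smaller group. -/
theorem reduce {k : ℕ} (hk : 1 ≤ k) {M : Cfsg.SU (k + 1) F 3} (hM : M * M = 1) (hM1 : M ≠ 1)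
    {v : UVec F 3 (k + 1)} (hv : M • v = v) :
    ∃ g : Cfsg.SU k F 3, g * g = 1 ∧ g ≠ 1 ∧ (mat M).trace = 1 + (mat g).trace := by
  obtain ⟨j, hj⟩ := exists_su_frame hF (n := k + 1) (f := ![(sv hF (0 : Fin (k + 1))).1]) (f' := ![v.1]) (by omega)
    (one_frame (sv hF (0 : Fin (k + 1))).2) (one_frame v.2)
  have hjv : j • sv hF (0 : Fin (k + 1)) = v := Subtype.ext (hj 0)
  have hmem : j⁻¹ * M * j ∈ stabilizer _ (sv hF (0 : Fin (k + 1))) := conj_fix' hv hjv
  rw [stab_first hF] at hmem
  obtain ⟨g, hg⟩ := hmem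
  refine ⟨g, shift_injective _ hF (by
      rw [map_mul, map_one, hg, show j⁻¹ * M * j * (j⁻¹ * M * j) = j⁻¹ * (M * M) * j by group, hM]
      group),
    fun h => hM1 (by
      rw [h, map_one] at hg
      rw [show M = j * (j⁻¹ * M * j) * j⁻¹ by group, ← hg]
      group), ?_⟩
  rw [← trace_conj hF j M, ← hg, trace_shift hF]

/-- An involution of `SU₄` other than `-1` has trace zero. -/
theorem trace_invol {M : Cfsg.SU 4 F 3} (hM : M * M = 1) (hM1 : M ≠ 1) (hneg : mat M ≠ -1) :
    (mat M).trace = 0 := by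
  obtain ⟨v, hv⟩ := exists_fixed_unit hF hM hneg
  obtain ⟨g, hg, hg1, ht⟩ := reduce hF (k := 3) (by norm_num) hM hM1 hv
  have hgneg : mat g ≠ -1 := by
    intro he
    have hd : (mat g).det = 1 := g.1.2
    rw [he, Matrix.det_neg, Matrix.det_one, mul_one, Fintype.card_fin] at hd
    exact two_ne hF (by linear_combination -hd)
  obtain ⟨w, hw⟩ := exists_fixed_unit hF hg hgneg
  obtain ⟨h, hh, hh1, ht'⟩ := reduce hF (k := 2) (by norm_num) hg hg1 hw
  have hneg2 : mat h = -1 := by
    obtain ⟨h11, h10, -, hn⟩ := TwoAut.shape hF h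
    have hadj : (mat h).adjugate = mat h := congrArg mat (inv_eq_of_mul_eq_one_right hh : h⁻¹ = h)
    rw [Matrix.adjugate_fin_two] at hadj
    have e00 := congrFun (congrFun hadj 0) 0
    have e01 := congrFun (congrFun hadj 0) 1
    simp at e00 e01
    have h01 : mat h 0 1 = 0 :=
      (mul_eq_zero.1 (show 2 * mat h 0 1 = 0 by linear_combination -e01)).resolve_left (two_ne hF)
    rw [h01, zero_mul, add_zero, ← h11, e00] at hn
    rw [h01, zero_pow (by norm_num), neg_zero] at h10
    have h00 : mat h 0 0 = -1 := by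
      rcases mul_self_eq_one_iff.1 hn with h' | h'
      · refine absurd ?_ hh1
        refine SU_ext fun x => funext fun i => ?_
        rw [mat_one, one_mulVec]
        fin_cases i <;> simp [Matrix.mulVec, dotProduct, Fin.sum_univ_two, h01, h10, e00, h']
      · exact h'
    ext i j
    fin_cases i <;> fin_cases j <;> simp [h01, h10, e00, h00]
  rw [ht, ht', hneg2]
  simp [Matrix.trace_fin_two]
  norm_num

/-- Two commuting self-adjoint involutions of trace zero with product of trace zero fix exactly one line,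
which is non-isotropic. -/
theorem joint_line {A B : M4} (hA : A * A = 1) (hB : B * B = 1) (hAB : A * B = B * A) (hA1 : A ≠ 1)
    (tA : A.trace = 0) (tB : B.trace = 0) (tC : (A * B).trace = 0)
    (sA : ∀ x y, H (A *ᵥ x) y = H x (A *ᵥ y)) (sB : ∀ x y, H (B *ᵥ x) y = H x (B *ᵥ y)) :
    ∃ f : UVec F 3 4, A *ᵥ f.1 = f.1 ∧ B *ᵥ f.1 = f.1 ∧
      ∀ x, A *ᵥ x = x → B *ᵥ x = x → ∃ c : F, x = c • f.1 := by
  have h3 := three_zero hF
  set P : M4 := (1 + A) * (1 + B) with hP
  have hcAB : B * (1 + A) = (1 + A) * B := by rw [mul_add, add_mul, one_mul, mul_one, hAB]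
  have hsqA : (1 + A) * (1 + A) = (2 : F) • (1 + A) := by
    rw [mul_add, add_mul, add_mul, one_mul, one_mul, mul_one, hA]
    module
  have hsqB : (1 + B) * (1 + B) = (2 : F) • (1 + B) := by
    rw [mul_add, add_mul, add_mul, one_mul, one_mul, mul_one, hB]
    module
  have hswap : (1 + B) * (1 + A) = (1 + A) * (1 + B) := by
    rw [add_mul, one_mul, hcAB, mul_add (1 + A) 1 B, mul_one]
  have hPP : P * P = P := by
    calc P * P = (1 + A) * ((1 + B) * (1 + A)) * (1 + B) := by rw [hP]; simp only [mul_assoc]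
      _ = ((1 + A) * (1 + A)) * ((1 + B) * (1 + B)) := by rw [hswap]; simp only [mul_assoc]
      _ = (4 : F) • P := by rw [hsqA, hsqB, smul_mul_smul_comm, hP]; norm_num
      _ = P := by rw [show (4 : F) = 1 by linear_combination h3, one_smul]
  have hAP : A * P = P := by
    rw [hP, ← mul_assoc, mul_add A 1 A, mul_one, hA, add_comm A 1]
  have hBP : B * P = P := by
    rw [hP, ← mul_assoc, hcAB, mul_assoc, mul_add B 1 B, mul_one, hB, add_comm B 1]
  have htr : P.trace = 1 := by
    rw [hP, add_mul, one_mul, mul_add, mul_one, Matrix.trace_add, Matrix.trace_add, Matrix.trace_add, Matrix.trace_one,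
      tA, tB, tC, Fintype.card_fin]
    push_cast
    linear_combination h3
  have hPfix : ∀ x, A *ᵥ x = x → B *ᵥ x = x → P *ᵥ x = x := by
    intro x ha hb
    rw [hP, ← Matrix.mulVec_mulVec, Matrix.add_mulVec, Matrix.add_mulVec, one_mulVec, one_mulVec, hb,
      Matrix.mulVec_add, ha]
    calc x + x + (x + x) = (4 : F) • x := by module
      _ = x := by rw [show (4 : F) = 1 by linear_combination h3, one_smul]
  set f := Matrix.toLin' P with hf
  have hproj : LinearMap.IsProj (LinearMap.range f) f := by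
    refine ⟨fun x => LinearMap.mem_range_self f x, ?_⟩
    rintro _ ⟨y, rfl⟩
    rw [hf, Matrix.toLin'_apply, Matrix.toLin'_apply, Matrix.mulVec_mulVec, hPP]
  have hrank : Module.finrank F (LinearMap.range f) = 1 := by
    have ht := hproj.trace
    rw [hf, Matrix.trace_toLin'_eq, htr, ← hf] at ht
    have hle : Module.finrank F (LinearMap.range f) ≤ 4 := by
      refine (Submodule.finrank_le _).trans ?_
      simp
    have hne : Module.finrank F (LinearMap.range f) ≠ 4 := by
      intro h4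
      have htop : LinearMap.range f = ⊤ := Submodule.eq_top_of_finrank_eq (by rw [h4]; simp)
      have hP1 : P = 1 := mat_ext fun x => by
        obtain ⟨y, hy⟩ : x ∈ LinearMap.range f := htop ▸ Submodule.mem_top
        rw [hf, Matrix.toLin'_apply] at hy
        rw [one_mulVec, ← hy, Matrix.mulVec_mulVec, hPP]
      rw [hP1, mul_one] at hAP
      exact hA1 hAP
    have := char_three hF
    have hmod : Module.finrank F (LinearMap.range f) % 3 = 1 := by
      have h1 : ((Module.finrank F (LinearMap.range f) : ℕ) : F) = ((1 : ℕ) : F) := by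
        rw [Nat.cast_one]; exact ht.symm
      exact (CharP.natCast_eq_natCast F 3).1 h1
    omega
  obtain ⟨⟨a, ha⟩, ha0, hspan⟩ := finrank_eq_one_iff'.1 hrank
  have hline : ∀ x, ∃ c : F, P *ᵥ x = c • a := fun x => by
    obtain ⟨c, hc⟩ := hspan ⟨P *ᵥ x, ⟨x, by rw [hf, Matrix.toLin'_apply]⟩⟩
    exact ⟨c, (congrArg Subtype.val hc).symm⟩
  have haP : P *ᵥ a = a := by
    obtain ⟨y, hy⟩ := ha
    rw [hf, Matrix.toLin'_apply] at hy
    rw [← hy, Matrix.mulVec_mulVec, hPP]
  have haA : A *ᵥ a = a := by rw [← haP, Matrix.mulVec_mulVec, hAP]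
  have haB : B *ᵥ a = a := by rw [← haP, Matrix.mulVec_mulVec, hBP]
  have sP : ∀ x y, H (P *ᵥ x) y = H x (P *ᵥ y) := by
    intro x y
    have e : P *ᵥ y = (1 + B) *ᵥ ((1 + A) *ᵥ y) := by rw [hP, ← hswap, Matrix.mulVec_mulVec]
    rw [e, hP, ← Matrix.mulVec_mulVec]
    have s1 : ∀ u w, H ((1 + A) *ᵥ u) w = H u ((1 + A) *ᵥ w) := fun u w => by
      rw [Matrix.add_mulVec, Matrix.add_mulVec, one_mulVec, one_mulVec, H_add_left, H_add_right hF, sA]
    have s2 : ∀ u w, H ((1 + B) *ᵥ u) w = H u ((1 + B) *ᵥ w) := fun u w => by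
      rw [Matrix.add_mulVec, Matrix.add_mulVec, one_mulVec, one_mulVec, H_add_left, H_add_right hF, sB]
    rw [s1, s2]
  have haa : H a a ≠ 0 := by
    intro h0
    refine ha0 (Subtype.ext (eq_zero_of_H hF (u := a) fun y => ?_))
    obtain ⟨c, hc⟩ := hline y
    rw [← haP, sP, hc, H_smul_right, h0, mul_zero]
  obtain ⟨c, hc0, hc⟩ := exists_normalise hF haa
  refine ⟨⟨c • a, hc⟩, by rw [Matrix.mulVec_smul, haA], by rw [Matrix.mulVec_smul, haB], fun x hxA hxB => ?_⟩
  obtain ⟨e, he⟩ := hline x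
  rw [hPfix x hxA hxB] at he
  exact ⟨e * c⁻¹, by rw [smul_smul, inv_mul_cancel_right₀ hc0, he]⟩

end Cfsg.Agent.Phan.FourFixed
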