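import Cfsg.Agent.Lib.Phan.FourFixed
import Mathlib

/-!
For `q = 3`, the image of an injective homomorphism from `SU₃` to `SU₄` is a point stabiliser.
-/

set_option autoImplicit false
set_option linter.unusedSectionVars false
set_option linter.unusedSimpArgs false

namespace Cfsg.Agent.Phan.FourPoint

open Matrix MulAction
open Cfsg.Agent.Forms Cfsg.Agent.Classical Cfsg.Agent.Classical.Unitary
open Cfsg.Agent.SimpleFacts.SUMult Blocks CosetGeom
open Cfsg.Agent.Phan.Orth Cfsg.Agent.Phan.Cov Cfsg.Agent.Phan.Base Cfsg.Agent.Phan.Shift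
open Cfsg.Agent.Phan.FourFixed

universe u

variable {F : Type u} [Field F] [Fintype F] (hF : Fintype.card F = 3 ^ 2)

local notation "H" => Cfsg.hermForm 4 F 3
local notation "L3" => shift (F := F) (q := 3) 0 2 3 (by omega)
local notation "R3" => shift (F := F) (q := 3) 1 2 3 (by omega)

include hF

/-- The elements used, with their relations. -/
theorem gadgets : ∃ (n d w x y : Cfsg.SU 2 F 3) (m : Cfsg.SU 3 F 3),
    (∀ z, n * z = z * n) ∧ n ≠ 1 ∧ n * n = 1 ∧ d * d = n ∧ w * w = n ∧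
    x * d = w * x ∧ y * d = d * w * y ∧
    L3 n * R3 n = R3 n * L3 n ∧ L3 d * R3 n = R3 n * L3 d ∧ L3 w * R3 n = L3 n * R3 n * L3 w ∧
    (∀ z, L3 z * (L3 d * R3 n) = L3 d * R3 n * L3 z) ∧
    (∀ z, m * L3 z = R3 z * m) ∧ m * R3 n = L3 n * R3 n * m := by
  have h3 := three_zero hF
  obtain ⟨t, ht, ht2⟩ := TwoAut.exists_tor hF (by norm_num)
  have hts : t * t = -1 := by
    have : (t * t - 1) * (t * t + 1) = 0 := by linear_combination ht
    rcases mul_eq_zero.1 this with h | h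
    · exact absurd (sub_eq_zero.1 h) ht2
    · exact eq_neg_of_add_eq_zero_left h
  have hs : t ^ 4 = 1 := ht
  obtain ⟨a, ha⟩ := UnitaryCount.exists_norm_eq hF (μ := (-1 : F)) (neg_ne_zero.2 one_ne_zero)
    (by rw [← HermStd.qHom_apply hF, map_neg, map_one])
  have hu : a ^ 4 = -1 := ha
  obtain ⟨n, n0, n1⟩ := TwoAut.exists_mk hF (q := 3) (x := -1) (y := 0) (by norm_num)
  obtain ⟨d, d0, d1⟩ := TwoAut.exists_mk hF (q := 3) (x := t) (y := 0) (by linear_combination hs)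
  obtain ⟨w, w0, w1⟩ := TwoAut.exists_mk hF (q := 3) (x := 0) (y := 1) (by norm_num)
  obtain ⟨x, x0, x1⟩ := TwoAut.exists_mk hF (q := 3) (x := a) (y := -((t * a) ^ 3))
    (by linear_combination (1 + t ^ 12 * (a ^ 8 - a ^ 4 + 1)) * hu - (t ^ 8 + t ^ 4 + 1) * hs - h3)
  obtain ⟨y, y0, y1⟩ := TwoAut.exists_mk hF (q := 3) (x := a) (y := -(a ^ 3))
    (by linear_combination (1 + (a ^ 8 - a ^ 4 + 1)) * hu - h3)
  obtain ⟨n11, n10, -, -⟩ := TwoAut.shape hF n
  obtain ⟨d11, d10, -, -⟩ := TwoAut.shape hF d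
  obtain ⟨w11, w10, -, -⟩ := TwoAut.shape hF w
  obtain ⟨x11, x10, -, -⟩ := TwoAut.shape hF x
  obtain ⟨y11, y10, -, -⟩ := TwoAut.shape hF y
  rw [n0] at n11; rw [n1] at n10; rw [d0] at d11; rw [d1] at d10
  rw [w0] at w11; rw [w1] at w10; rw [x0] at x11; rw [x1] at x10; rw [y0] at y11; rw [y1] at y10
  norm_num at n11 n10 d10 w11 w10
  have ent : ∀ u v : Cfsg.SU 2 F 3, ∀ i j, mat (u * v) i j = mat u i 0 * mat v 0 j + mat u i 1 * mat v 1 j :=
    fun u v i j => by rw [show mat (u * v) = mat u * mat v from rfl, Matrix.mul_apply, Fin.sum_univ_two]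
  obtain ⟨m, hm⟩ : ∃ m : Cfsg.SU 3 F 3, mat m = !![0, 0, 1; 1, 0, 0; 0, 1, 0] := by
    refine ⟨suMk !![0, 0, 1; 1, 0, 0; 0, 1, 0] ?_ ?_, rfl⟩
    · simp [Matrix.det_fin_three]
    · intro u v
      simp [Cfsg.hermForm, Fin.sum_univ_three, Matrix.mulVec, dotProduct]
      ring
  have e3 : ∀ u v u' v' : Cfsg.SU 3 F 3, (∀ i j, (mat u * mat v) i j = (mat u' * mat v') i j) →
      u * v = u' * v' := fun u v u' v' h => Align.su_ext_entries fun i j => h i j
  refine ⟨n, d, w, x, y, m, fun z => TwoAut.ext_two hF ?_ ?_, ?_, TwoAut.ext_two hF ?_ ?_,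
    TwoAut.ext_two hF ?_ ?_, TwoAut.ext_two hF ?_ ?_, TwoAut.ext_two hF ?_ ?_, TwoAut.ext_two hF ?_ ?_,
    e3 _ _ _ _ fun i j => ?_, e3 _ _ _ _ fun i j => ?_, e3 _ _ _ _ fun i j => ?_,
    fun z => e3 _ _ _ _ fun i j => ?_, fun z => e3 _ _ _ _ fun i j => ?_, e3 _ _ _ _ fun i j => ?_⟩
  · rw [ent, ent, n0, n1, n10]; ring
  · rw [ent, ent, n0, n1, n11]; ring
  · intro h
    rw [h, mat_one, Matrix.one_apply_eq] at n0
    exact two_ne hF (by linear_combination n0)
  · rw [ent, n0, n1, mat_one, Matrix.one_apply_eq]; ring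
  · rw [ent, n0, n1, mat_one, Matrix.one_apply_ne (by decide)]; ring
  · rw [ent, d0, d1, n0]; linear_combination hts
  · rw [ent, d0, d1, n1]; ring
  · rw [ent, w0, w1, w10, n0]; ring
  · rw [ent, w0, w1, w11, n1]; ring
  · rw [ent, ent, x0, x1, d0, d10, w0, w1, x10]
    have hneg : (-((t * a) ^ 3)) ^ 3 = -((t * a) ^ 9) := by ring
    rw [hneg]
    have hta : (t * a) ^ 4 = -1 := by rw [mul_pow, hs, hu, one_mul]
    linear_combination (-(t * a) * ((t * a) ^ 4 - 1)) * hta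
  · rw [ent, ent, x1, x11, d1, d11, w0, w1]
    linear_combination (-(a ^ 3) * t ^ 2) * hs + (-(a ^ 3)) * hts
  · rw [ent, ent, ent, ent, y0, y1, d0, d1, d10, w0, w1, w10, y10]
    linear_combination (-(t * a) * (a ^ 4 - 1)) * hu
  · rw [ent, ent, ent, ent, y1, y11, d0, d1, d11, w0, w1, w11]
    linear_combination (-(a ^ 3) * t) * hts
  all_goals
    simp only [mat_mul, Align.left_entries, Align.right_entries, hm]
    fin_cases i <;> fin_cases j <;>
      simp [Matrix.mul_apply, Fin.sum_univ_three, n0, n1, n10, n11, d0, d1, d10, d11, w0, w1, w10, w11]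
  all_goals first
    | linear_combination
    | linear_combination (-(t * mat z 0 1)) * hts
    | linear_combination (t * mat z 1 0) * hts

omit hF in
theorem adj {A : Cfsg.SU 4 F 3} (hA : A * A = 1) (x y : Fin 4 → F) : H (mat A *ᵥ x) y = H x (mat A *ᵥ y) := by
  conv_lhs => rw [← SU_H A, ← mul_mulVec, hA, mat_one, one_mulVec]

/-- The point fixed by the image of `SU₃`. -/
theorem exists_point (ρ : Cfsg.SU 3 F 3 →* Cfsg.SU 4 F 3) (hρ : Function.Injective ρ) :
    ∃ u : UVec F 3 4, ρ.range = stabilizer (Cfsg.SU 4 F 3) u := by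
  have h3 := three_zero hF
  have h2 := two_ne hF
  obtain ⟨n, d, w, x, y, m, hnc, hn1, hnn, hdd, hww, hxd, hyd, hab, hdb, hwb, hcc, hml, hmb⟩ := gadgets hF
  set a := L3 n with ha
  set b := R3 n with hb
  have haa : a * a = 1 := by rw [ha, ← map_mul, hnn, map_one]
  have hbb : b * b = 1 := by rw [hb, ← map_mul, hnn, map_one]
  have hac : ∀ z, L3 z * a = a * L3 z := fun z => by rw [ha, ← map_mul, ← map_mul, hnc]
  have hwc : L3 w * (a * b) = b * L3 w := by
    rw [← mul_assoc, hac, mul_assoc, hwb, ← mul_assoc, ← mul_assoc, haa, one_mul]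
  have ha1 : a ≠ 1 := fun h => hn1 (shift_injective _ hF (h.trans (map_one L3).symm))
  have hb1 : b ≠ 1 := fun h => hn1 (shift_injective _ hF (h.trans (map_one R3).symm))
  have hc1 : a * b ≠ 1 := fun h => hb1 (by
    rw [h, mul_one] at hwc
    exact mul_right_cancel (hwc.symm.trans (one_mul _).symm))
  -- none of the three is sent to a scalar
  have noncentral : ∀ g : Cfsg.SU 3 F 3, g = a ∨ g = b ∨ g = a * b → mat (ρ g) ≠ -1 := by
    intro g hg hneg
    have hc : ∀ z, g * z = z * g := fun z => hρ (by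
      rw [map_mul, map_mul]
      refine SU_ext fun v => ?_
      rw [mul_mulVec, mul_mulVec, hneg, Matrix.neg_mulVec, one_mulVec, Matrix.neg_mulVec, one_mulVec,
        Matrix.mulVec_neg])
    rcases hg with rfl | rfl | rfl
    · have e1 : a = b := by
        have h4 := hml n
        rw [← ha, ← hb, ← hc m] at h4
        exact mul_right_cancel h4
      exact hc1 (by rw [← e1, haa])
    · have e1 : b * L3 w = a * b * L3 w := by rw [← hwb, hc]
      exact ha1 (by
        have e2 := mul_right_cancel e1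
        exact mul_right_cancel ((one_mul b).trans e2).symm)
    · have e1 : a * b * L3 w = b * L3 w := by rw [hc, hwc]
      exact ha1 (mul_right_cancel ((mul_right_cancel e1).trans (one_mul b).symm))
  set A := mat (ρ a) with hA
  set B := mat (ρ b) with hB
  have hsqA : ρ a * ρ a = 1 := by rw [← map_mul, haa, map_one]
  have hsqB : ρ b * ρ b = 1 := by rw [← map_mul, hbb, map_one]
  have hsqC : ρ (a * b) * ρ (a * b) = 1 := by
    rw [← map_mul, show a * b * (a * b) = a * (b * a) * b by group, ← hab, show a * (a * b) * b = (a * a) * (b * b) by group,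
      haa, hbb, one_mul, map_one]
  have hne : ∀ {g}, g ≠ 1 → ρ g ≠ 1 := fun hg h => hg (hρ (h.trans (map_one ρ).symm))
  have tA : A.trace = 0 := trace_invol hF hsqA (hne ha1) (noncentral a (Or.inl rfl))
  have tB : B.trace = 0 := trace_invol hF hsqB (hne hb1) (noncentral b (Or.inr (Or.inl rfl)))
  have tC : (A * B).trace = 0 := by
    rw [hA, hB, ← mat_mul, ← map_mul]
    exact trace_invol hF hsqC (hne hc1) (noncentral _ (Or.inr (Or.inr rfl)))
  have mA : A * A = 1 := by rw [hA, ← mat_mul, hsqA, mat_one]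
  have mB : B * B = 1 := by rw [hB, ← mat_mul, hsqB, mat_one]
  have mAB : A * B = B * A := by rw [hA, hB, ← mat_mul, ← mat_mul, ← map_mul, ← map_mul, hab]
  have hA1 : A ≠ 1 := fun h => hne ha1 (SU_ext fun v => by rw [← hA, h, mat_one])
  have sA : ∀ u v, H (A *ᵥ u) v = H u (A *ᵥ v) := fun u v => adj hsqA u v
  have sB : ∀ u v, H (B *ᵥ u) v = H u (B *ᵥ v) := fun u v => adj hsqB u v
  obtain ⟨f, fA, fB, fl⟩ := joint_line hF mA mB mAB hA1 tA tB tC sA sB
  obtain ⟨g, gA, gB, gl⟩ := joint_line hF (A := A) (B := -B) mA (by rw [neg_mul_neg, mB]) (by rw [mul_neg, neg_mul, mAB])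
    hA1 tA (by rw [Matrix.trace_neg, tB, neg_zero]) (by rw [mul_neg, Matrix.trace_neg, tC, neg_zero]) sA
    (fun u v => by
      have hneg : ∀ z : Fin 4 → F, -z = (-1 : F) • z := fun z => (neg_one_smul F z).symm
      rw [Matrix.neg_mulVec, Matrix.neg_mulVec, hneg, hneg, H_smul_left, H_smul_right, sB,
        ← HermStd.qHom_apply hF, map_neg, map_one])
  have gB' : B *ᵥ g.1 = -g.1 := by
    rw [Matrix.neg_mulVec] at gB
    exact neg_eq_iff_eq_neg.1 gB
  have ne0 : ∀ u : UVec F 3 4, u.1 ≠ 0 := fun u h => by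
    have := u.2
    rw [h, H_zero_left] at this
    exact zero_ne_one this
  have cancel : ∀ (u : UVec F 3 4) {s t : F}, s • u.1 = t • u.1 → s = t := fun u s t h =>
    smul_left_injective F (ne0 u) h
  -- the fixed space of the first involution
  have decomp : ∀ v, A *ᵥ v = v → ∃ c c' : F, v = c • f.1 + c' • g.1 := by
    intro v hv
    have hAB' : A *ᵥ (B *ᵥ v) = B *ᵥ v := by rw [Matrix.mulVec_mulVec, mAB, ← Matrix.mulVec_mulVec, hv]
    have hBB : B *ᵥ (B *ᵥ v) = v := by rw [Matrix.mulVec_mulVec, mB, one_mulVec]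
    obtain ⟨c, hc⟩ := fl (v + B *ᵥ v) (by rw [Matrix.mulVec_add, hv, hAB']) (by rw [Matrix.mulVec_add, hBB, add_comm])
    obtain ⟨c', hc'⟩ := gl (v - B *ᵥ v) (by rw [Matrix.mulVec_sub, hv, hAB'])
      (by rw [Matrix.neg_mulVec, Matrix.mulVec_sub, hBB, neg_sub])
    refine ⟨-c, -c', ?_⟩
    have e : (2 : F) • v = c • f.1 + c' • g.1 := by rw [← hc, ← hc']; module
    have e2 : (2 : F) = -1 := by linear_combination h3
    rw [e2, neg_one_smul, neg_eq_iff_eq_neg] at e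
    rw [e]
    module
  -- diagonal action on the two lines
  have lines : ∀ z, ρ z * ρ a = ρ a * ρ z → (∀ v, A *ᵥ v = v → B *ᵥ (mat (ρ z) *ᵥ v) = mat (ρ z) *ᵥ (B *ᵥ v)) →
      ∃ l k : F, mat (ρ z) *ᵥ f.1 = l • f.1 ∧ mat (ρ z) *ᵥ g.1 = k • g.1 := by
    intro z hza hzb
    have hA' : ∀ v, A *ᵥ v = v → A *ᵥ (mat (ρ z) *ᵥ v) = mat (ρ z) *ᵥ v := fun v hv => by
      rw [hA, ← mul_mulVec, ← hza, mul_mulVec, ← hA, hv]
    obtain ⟨l, hl⟩ := fl _ (hA' _ fA) (by rw [hzb _ fA, fB])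
    obtain ⟨k, hk⟩ := gl _ (hA' _ gA) (by rw [Matrix.neg_mulVec, hzb _ gA, gB', Matrix.mulVec_neg, neg_neg])
    exact ⟨l, k, hl, hk⟩
  obtain ⟨ld, kd, hdf, hdg⟩ := lines (L3 d) (by rw [← map_mul ρ, ← map_mul ρ, hac]) (fun v hv => by
    rw [hB, ← mul_mulVec, ← map_mul, ← hdb, map_mul, mul_mulVec])
  obtain ⟨lw, kw, hwf, hwg⟩ := lines (L3 w) (by rw [← map_mul ρ, ← map_mul ρ, hac]) (fun v hv => by
    rw [hB, ← mul_mulVec, ← map_mul, ← hwc, map_mul, map_mul, mul_mulVec, mul_mulVec, ← hA, ← hB]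
    rw [show A *ᵥ (B *ᵥ v) = B *ᵥ v by rw [Matrix.mulVec_mulVec, mAB, ← Matrix.mulVec_mulVec, hv]])
  have hsq : ∀ (z : Cfsg.SU 2 F 3) (u : UVec F 3 4) (s : F), z * z = n → mat (ρ (L3 z)) *ᵥ u.1 = s • u.1 →
      A *ᵥ u.1 = u.1 → s * s = 1 := by
    intro z u s hz hzu hu
    refine cancel u ?_
    rw [one_smul]
    conv_rhs => rw [← hu, hA, ha, ← hz, map_mul, map_mul, mul_mulVec, hzu, Matrix.mulVec_smul, hzu, smul_smul]
  -- transfer of eigenvalues
  have transfer : ∀ (z p p' : Cfsg.SU 2 F 3) (l k l' k' : F), z * p = p' * z →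
      mat (ρ (L3 p)) *ᵥ f.1 = l • f.1 → mat (ρ (L3 p)) *ᵥ g.1 = k • g.1 →
      mat (ρ (L3 p')) *ᵥ f.1 = l' • f.1 → mat (ρ (L3 p')) *ᵥ g.1 = k' • g.1 → l ≠ k → l' ≠ k' := by
    intro z p p' l k l' k' hz pf pg p'f p'g hlk heq
    have scal : ∀ v, A *ᵥ v = v → mat (ρ (L3 p')) *ᵥ v = l' • v := by
      intro v hv
      obtain ⟨c, c', rfl⟩ := decomp v hv
      rw [Matrix.mulVec_add, Matrix.mulVec_smul, Matrix.mulVec_smul, p'f, p'g, ← heq]
      module
    have key : ∀ (u : UVec F 3 4) (s : F), A *ᵥ u.1 = u.1 → mat (ρ (L3 p)) *ᵥ u.1 = s • u.1 → s = l' := by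
      intro u s hu hpu
      have hne' : mat (ρ (L3 z)) *ᵥ u.1 ≠ 0 := mat_mulVec_ne_zero _ (ne0 u)
      have hAz : A *ᵥ (mat (ρ (L3 z)) *ᵥ u.1) = mat (ρ (L3 z)) *ᵥ u.1 := by
        rw [hA, ← mul_mulVec, ← map_mul, ← hac, map_mul, mul_mulVec, ← hA, hu]
      have h5 := scal _ hAz
      rw [← mul_mulVec, ← map_mul, ← map_mul, ← hz, map_mul, map_mul, mul_mulVec, hpu, Matrix.mulVec_smul] at h5
      exact smul_left_injective F hne' h5
    exact hlk ((key f l fA pf).trans (key g k gA pg).symm)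
  have hld : ld * ld = 1 := hsq d f ld hdd hdf fA
  have hkd : kd * kd = 1 := hsq d g kd hdd hdg gA
  have hlk : ld = kd := by
    by_contra hne'
    have hdwf : mat (ρ (L3 (d * w))) *ᵥ f.1 = (ld * lw) • f.1 := by
      rw [map_mul, map_mul, mul_mulVec, hwf, Matrix.mulVec_smul, hdf, smul_smul, mul_comm]
    have hdwg : mat (ρ (L3 (d * w))) *ᵥ g.1 = (kd * kw) • g.1 := by
      rw [map_mul, map_mul, mul_mulVec, hwg, Matrix.mulVec_smul, hdg, smul_smul, mul_comm]
    have h4 := transfer x d w ld kd lw kw hxd hdf hdg hwf hwg hne'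
    have h5 := transfer y d (d * w) ld kd (ld * lw) (kd * kw) hyd hdf hdg hdwf hdwg hne'
    have neg : ∀ {s k : F}, s * s = 1 → k * k = 1 → s ≠ k → s = -k := fun {s k} hs hk hsk =>
      (mul_self_eq_mul_self_iff.1 (hs.trans hk.symm)).resolve_left hsk
    apply h5
    rw [neg hld hkd hne', neg (hsq w f lw hww hwf fA) (hsq w g kw hww hwg gA) h4, neg_mul_neg]
  subst hlk
  -- the element separating the two lines
  set c := L3 d * b with hc
  have hcf : mat (ρ c) *ᵥ f.1 = ld • f.1 := by rw [hc, map_mul, mul_mulVec, ← hB, fB, hdf]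
  have hcg : mat (ρ c) *ᵥ g.1 = (-ld) • g.1 := by
    rw [hc, map_mul, mul_mulVec, ← hB, gB', Matrix.mulVec_neg, hdg, neg_smul]
  have hld0 : ld ≠ 0 := fun h => by rw [h, mul_zero] at hld; exact zero_ne_one hld
  have hline : ∀ z, ∃ s : F, mat (ρ (L3 z)) *ᵥ f.1 = s • f.1 := by
    intro z
    obtain ⟨s, s', hs⟩ := decomp (mat (ρ (L3 z)) *ᵥ f.1) (by
      rw [hA, ← mul_mulVec, ← map_mul, ← hac, map_mul, mul_mulVec, ← hA, fA])
    refine ⟨s, ?_⟩
    have h5 : mat (ρ c) *ᵥ (mat (ρ (L3 z)) *ᵥ f.1) = ld • (mat (ρ (L3 z)) *ᵥ f.1) := by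
      rw [← mul_mulVec, ← map_mul, ← hcc, map_mul ρ, mul_mulVec, hcf, Matrix.mulVec_smul]
    rw [hs, Matrix.mulVec_add, Matrix.mulVec_smul, Matrix.mulVec_smul, hcf, hcg] at h5
    have h6 : (2 * ld * s') • g.1 = (0 : F) • g.1 := by
      rw [zero_smul]
      linear_combination (norm := module) -h5
    have h7 : s' = 0 := (mul_eq_zero.1 (cancel g h6)).resolve_left (mul_ne_zero h2 hld0)
    rw [hs, h7, zero_smul, add_zero]
  choose s hs using hline
  let χ : Cfsg.SU 2 F 3 →* F :=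
    { toFun := s
      map_one' := cancel f (by rw [← hs, map_one, map_one, mat_one, one_mulVec, one_smul])
      map_mul' := fun p r => cancel f (by
        rw [← hs, map_mul, map_mul, mul_mulVec, hs, Matrix.mulVec_smul, hs, smul_smul, mul_comm]) }
  have hfL : ∀ z, mat (ρ (L3 z)) *ᵥ f.1 = f.1 := by
    intro z
    have h5 : χ.toHomUnits z = 1 := FourFixed.hom_trivial hF χ.toHomUnits (fun p r => mul_comm _ _)
      (fun p => Units.ext (by
        have h6 := SU_H (ρ (L3 p)) f.1 f.1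
        rw [hs, UnitaryCount.hermForm_smul_smul, f.2, mul_one] at h6
        exact h6)) z
    rw [hs, show s z = 1 from congrArg Units.val h5, one_smul]
  obtain ⟨e, he⟩ : ∃ e : F, mat (ρ m) *ᵥ f.1 = e • f.1 := by
    have e1 : B *ᵥ (mat (ρ m) *ᵥ f.1) = mat (ρ m) *ᵥ f.1 := by
      rw [hB, ← mul_mulVec, ← map_mul, hb, ← hml, map_mul, mul_mulVec, ← ha, ← hA, fA]
    have e2 : A *ᵥ (B *ᵥ (mat (ρ m) *ᵥ f.1)) = mat (ρ m) *ᵥ f.1 := by
      rw [hA, hB, ← mul_mulVec, ← map_mul, ← mul_mulVec, ← map_mul, ← hmb, map_mul, mul_mulVec, ← hB, fB]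
    rw [e1] at e2
    exact fl _ e2 e1
  have hfR : ∀ z, mat (ρ (R3 z)) *ᵥ f.1 = f.1 := by
    intro z
    have he0 : e ≠ 0 := fun h => by
      rw [h, zero_smul] at he
      exact mat_mulVec_ne_zero _ (ne0 f) he
    have h5 : mat (ρ (R3 z)) *ᵥ (mat (ρ m) *ᵥ f.1) = mat (ρ m) *ᵥ f.1 := by
      rw [← mul_mulVec, ← map_mul, ← hml, map_mul, mul_mulVec, hfL]
    rw [he, Matrix.mulVec_smul] at h5
    exact smul_right_injective _ he0 h5
  refine ⟨f, Subgroup.eq_of_le_of_card_ge ?_ ?_⟩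
  · have hT : (stabilizer (Cfsg.SU 4 F 3) f).comap ρ = ⊤ := windows_top hF (by norm_num) (by norm_num) _ fun j hj => by
      rintro _ ⟨z, rfl⟩
      rcases (show j = 0 ∨ j = 1 by omega) with rfl | rfl
      · exact Subtype.ext (hfL z)
      · exact Subtype.ext (hfR z)
    rintro _ ⟨z, rfl⟩
    exact (hT ▸ Subgroup.mem_top z : z ∈ (stabilizer (Cfsg.SU 4 F 3) f).comap ρ)
  · rw [FourFixed.card_stab hF, Nat.card_congr (MonoidHom.ofInjective hρ).toEquiv]

end Cfsg.Agent.Phan.FourPoint
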