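import Cfsg.Agent.Lib.Phan.FourPoint
import Cfsg.Agent.Lib.AutPSU.Main
import Cfsg.Agent.Lib.Classical.UnitarySimple
import Cfsg.Agent.SimpleFacts.SUMult.Main
import Mathlib

/-!
For `q = 3`, two standard pairs in a quotient of `SU₄` are the windows of a homomorphism from `SU₄`.
-/

set_option autoImplicit false
set_option linter.unusedSectionVars false
set_option linter.unusedSimpArgs false

namespace Cfsg.Agent.Phan.FourTriple

open Matrix MulAction
open scoped commutatorElement
open Cfsg.Agent.Forms Cfsg.Agent.Classical Cfsg.Agent.Classical.Unitary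
open Cfsg.Agent.SimpleFacts.SUMult Blocks CosetGeom
open Cfsg.Agent.Phan.Orth Cfsg.Agent.Phan.Cov Cfsg.Agent.Phan.Base Cfsg.Agent.Phan.Shift

universe u v

variable {F : Type u} [Field F] [Fintype F] {G : Type v} [Group G] (hF : Fintype.card F = 3 ^ 2)

local notation "S3" => Cfsg.SU 3 F 3
local notation "S4" => Cfsg.SU 4 F 3
local notation "L3" => shift (F := F) (q := 3) 0 2 3 (by omega)
local notation "R3" => shift (F := F) (q := 3) 1 2 3 (by omega)

include hF

theorem normal_cases {n : ℕ} (hn : 3 ≤ n) (N : Subgroup (Cfsg.SU n F 3)) [N.Normal] :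
    N ≤ Subgroup.center _ ∨ N = ⊤ := by
  have := isSimpleGroup_PSU hF (n := n) hn (by omega)
  set Z := Subgroup.center (Cfsg.SU n F 3) with hZ
  have hnm : (N.map (QuotientGroup.mk' Z)).Normal :=
    Subgroup.Normal.map inferInstance _ (QuotientGroup.mk'_surjective _)
  rcases hnm.eq_bot_or_eq_top with h | h
  · left
    intro x hx
    have : QuotientGroup.mk' Z x ∈ (⊥ : Subgroup (Cfsg.SU n F 3 ⧸ Z)) := h ▸ ⟨x, hx, rfl⟩
    exact (QuotientGroup.eq_one_iff x).1 this
  · right
    rw [eq_top_iff, ← commutator_SU_eq_top hF hn (by omega), commutator_def, Subgroup.commutator_le]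
    intro a _ b _
    obtain ⟨a', ha', ea⟩ : QuotientGroup.mk' Z a ∈ N.map (QuotientGroup.mk' Z) := h ▸ Subgroup.mem_top _
    have hz : a'⁻¹ * a ∈ Z := QuotientGroup.eq.1 ea
    have e1 : ⁅a, b⁆ = ⁅a', b⁆ := by
      conv_lhs => rw [show a = a' * (a'⁻¹ * a) from (mul_inv_cancel_left a' a).symm]
      set z := a'⁻¹ * a
      rw [commutatorElement_def, commutatorElement_def, _root_.mul_inv_rev]
      have hzc := Subgroup.mem_center_iff.1 hz b
      calc a' * z * b * (z⁻¹ * a'⁻¹) * b⁻¹ = a' * (z * b * z⁻¹) * a'⁻¹ * b⁻¹ := by group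
        _ = a' * b * a'⁻¹ * b⁻¹ := by rw [← hzc, mul_inv_cancel_right]
    rw [e1, commutatorElement_def, mul_assoc, mul_assoc, ← mul_assoc b]
    exact mul_mem ha' (Subgroup.Normal.conj_mem inferInstance _ (inv_mem ha') b)

theorem center_three {z : S3} (hz : z ∈ Subgroup.center S3) : z = 1 := by
  obtain ⟨a, ha⟩ := (mem_center_iff hF (by norm_num) z).1 hz
  have hd : (mat z).det = 1 := z.1.2
  rw [ha, Matrix.det_smul, Matrix.det_one, mul_one, Fintype.card_fin] at hd
  have hN := SU_H z (Pi.single (0 : Fin 3) 1 : Fin 3 → F) (Pi.single (0 : Fin 3) 1)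
  rw [ha, Matrix.smul_mulVec, one_mulVec, UnitaryCount.hermForm_smul_smul, H_single_single hF, if_pos rfl,
    mul_one, pow_succ, hd, one_mul] at hN
  refine SU_ext fun x => ?_
  rw [mat_one, ha, hN, one_smul]

theorem center_four {z : S4} (hz : z ∈ Subgroup.center S4) : z ^ 4 = 1 := by
  obtain ⟨a, ha⟩ := (mem_center_iff hF (by norm_num) z).1 hz
  have hd : (mat z).det = 1 := z.1.2
  rw [ha, Matrix.det_smul, Matrix.det_one, mul_one, Fintype.card_fin] at hd
  refine SU_ext fun x => ?_
  have e : mat (z ^ 4) = (a ^ 4) • (1 : Matrix (Fin 4) (Fin 4) F) := by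
    rw [show z ^ 4 = z * z * z * z by rw [pow_succ, pow_succ, pow_succ, pow_one], mat_mul, mat_mul, mat_mul, ha, smul_mul_smul_comm, smul_mul_smul_comm,
      smul_mul_smul_comm, mul_one, mul_one, mul_one]
    congr 1
    ring
  rw [e, hd, one_smul, mat_one]

/-- An injective map into a quotient by a central subgroup lifts. -/
theorem exists_lift (g : S4 →* G) (hg : g.ker ≤ Subgroup.center S4) (ψ : S3 →* G) (hψ : Function.Injective ψ)
    (hle : ψ.range ≤ g.range) : ∃ τ : S3 →* S4, (∀ x, g (τ x) = ψ x) ∧ Function.Injective τ := by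
  have : Fact (Nat.Prime 3) := ⟨Nat.prime_three⟩
  have : Fact (Nat.Prime 2) := ⟨Nat.prime_two⟩
  have := FourFixed.char_three hF
  set E := ψ.range.comap g with hE
  let σ : E →* S3 := (MonoidHom.ofInjective hψ).symm.toMonoidHom.comp
    ((g.comp E.subtype).codRestrict ψ.range fun y => y.2)
  have hσ : ∀ y : E, ψ (σ y) = g y.1 := fun y => MonoidHom.apply_ofInjective_symm hψ _
  have hsurj : Function.Surjective σ := fun x => by
    obtain ⟨y, hy⟩ := hle ⟨x, rfl⟩
    exact ⟨⟨y, show g y ∈ ψ.range by rw [hy]; exact ⟨x, rfl⟩⟩, hψ (by rw [hσ, hy])⟩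
  have hker : ∀ y : E, y ∈ σ.ker → y.1 ∈ Subgroup.center S4 := fun y hy =>
    hg (MonoidHom.mem_ker.2 (by rw [← hσ, MonoidHom.mem_ker.1 hy, map_one]))
  have hcen : σ.ker ≤ Subgroup.center E := fun y hy =>
    Subgroup.mem_center_iff.2 fun z => Subtype.ext (Subgroup.mem_center_iff.1 (hker y hy) z.1)
  have hp : IsPGroup 2 σ.ker := fun y =>
    ⟨2, Subtype.ext (Subtype.ext (by simpa using center_four hF (hker y.1 y.2)))⟩
  have ht := Main.triv_big hF 3 le_rfl 3 le_rfl 2 Nat.prime_two (by rintro ⟨h, -⟩; omega) E σ hsurj hcen hp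
  let σ' : commutator E →* S3 := σ.comp (commutator E).subtype
  have hinj : Function.Injective σ' := (injective_iff_map_eq_one σ').2 fun y hy => Subtype.ext (ht y.1 hy y.2)
  have hs' : Function.Surjective σ' := by
    intro x
    have hx : x ∈ (commutator E).map σ := by
      rw [commutator_def, Subgroup.map_commutator, ← MonoidHom.range_eq_map, MonoidHom.range_eq_top.2 hsurj,
        ← commutator_def, commutator_SU_eq_top hF le_rfl (by norm_num)]
      trivial
    obtain ⟨y, hy, rfl⟩ := hx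
    exact ⟨⟨y, hy⟩, rfl⟩
  let eqv : commutator E ≃* S3 := MulEquiv.ofBijective σ' ⟨hinj, hs'⟩
  refine ⟨E.subtype.comp ((commutator E).subtype.comp eqv.symm.toMonoidHom), fun x => ?_, ?_⟩
  · have h1 : σ' (eqv.symm x) = x := eqv.apply_symm_apply x
    conv_rhs => rw [← h1]
    exact (hσ _).symm
  · exact E.subtype_injective.comp ((commutator E).subtype_injective.comp eqv.symm.injective)

omit hF in
theorem shift_left {k : ℕ} {g : Cfsg.SU k F 3} (h : 0 + k ≤ k + 1) (a : Fin k → F) (b : Fin 1 → F) :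
    mat (shift 0 k (k + 1) h g) *ᵥ Fin.append a b = Fin.append (mat g *ᵥ a) b := by
  funext j
  rw [shift_apply]
  induction j using Fin.addCases with
  | left i =>
    rw [dif_pos (by simp), Fin.append_left]
    have e1 : (fun l : Fin k => Fin.append a b ⟨0 + (l : ℕ), by omega⟩) = a := funext fun l => by
      rw [show (⟨0 + (l : ℕ), by omega⟩ : Fin (k + 1)) = Fin.castAdd 1 l from Fin.ext (by simp), Fin.append_left]
    rw [e1]
    congr 1
  | right i =>
    rw [dif_neg (by simp), Fin.append_right, Fin.append_right]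

omit hF in
theorem field_shift {i k N : ℕ} (h : i + k ≤ N) (σ : F ≃+* F) (s : Cfsg.SU k F 3) :
    AutPSU.Basic.fieldEl σ (shift i k N h s) = shift i k N h (AutPSU.Basic.fieldEl σ s) := by
  refine SU_ext fun x => ?_
  obtain ⟨y, rfl⟩ : ∃ y : Fin N → F, (fun j => σ (y j)) = x :=
    ⟨fun j => σ.symm (x j), funext fun j => σ.apply_symm_apply _⟩
  rw [AutPSU.Basic.mat_fieldEl, AutPSU.Basic.map_mulVec_field]
  funext j
  rw [shift_apply, shift_apply, AutPSU.Basic.mat_fieldEl]
  by_cases hj : i ≤ (j : ℕ) ∧ (j : ℕ) < i + k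
  · rw [dif_pos hj, dif_pos hj]
    exact (congrFun (AutPSU.Basic.map_mulVec_field σ (mat s) fun l : Fin k => y ⟨i + l, by omega⟩) _).symm
  · rw [dif_neg hj, dif_neg hj]

/-- Automorphisms of `SU₃` are semilinear. -/
theorem aut_three (α : MulAut S3) :
    ∃ (g : Cfsg.GU 3 F 3) (σ : F ≃+* F), α = AutPSU.Basic.conjSU g * AutPSU.Basic.fieldSU σ := by
  have : Fact (Nat.Prime 3) := ⟨Nat.prime_three⟩
  have := FourFixed.char_three hF
  obtain ⟨g, σ, h⟩ := AutPSU.Main.exists_decomp hF 3 le_rfl (by norm_num) (AutPSU.Basic.descend α)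
  refine ⟨g, σ, MulEquiv.ext fun s => ?_⟩
  rw [AutPSU.Basic.gAut, AutPSU.Basic.fAut, MonoidHom.comp_apply, MonoidHom.comp_apply, ← map_mul] at h
  have h1 := DFunLike.congr_fun h (QuotientGroup.mk s)
  have h2 : (QuotientGroup.mk (α s) : Cfsg.PSU 3 F 3) =
      QuotientGroup.mk ((AutPSU.Basic.conjSU g * AutPSU.Basic.fieldSU σ : MulAut S3) s) := h1
  rw [QuotientGroup.eq] at h2
  exact inv_mul_eq_one.1 (center_three hF h2)

/-- Automorphisms extend to `SU₄`. -/
theorem extend_aut (α : MulAut S3) :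
    ∃ Θ : MulAut S4, ∀ x, Θ (shift 0 3 4 (by omega) x) = shift 0 3 4 (by omega) (α x) := by
  obtain ⟨g, σ, rfl⟩ := aut_three hF α
  set G' : Cfsg.GU (3 + 1) F 3 := guBlk hF g 1 with hG'
  refine ⟨AutPSU.Basic.conjSU G' * AutPSU.Basic.fieldSU σ, fun x => ?_⟩
  show AutPSU.Basic.conjEl G' (AutPSU.Basic.fieldEl σ (shift 0 3 4 (by omega) x)) =
    shift 0 3 4 (by omega) (AutPSU.Basic.conjEl g (AutPSU.Basic.fieldEl σ x))
  rw [field_shift]
  refine SU_ext fun v => ?_
  obtain ⟨a, b, rfl⟩ : ∃ (a : Fin 3 → F) (b : Fin 1 → F), Fin.append a b = v := ⟨_, _, Blocks.eta v⟩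
  have hG : ∀ (a : Fin 3 → F) (b : Fin 1 → F), gmat G' *ᵥ Fin.append a b = Fin.append (gmat g *ᵥ a) b := by
    intro a b
    rw [hG', gmat_guBlk, blkM_mulVec, gmat_one, one_mulVec]
  have hG2 : gmat G'⁻¹ *ᵥ Fin.append a b = Fin.append (gmat g⁻¹ *ᵥ a) b := ginv_mulVec G' (by
    rw [hG, Matrix.mulVec_mulVec, AutPSU.Basic.gmat_mul_inv, one_mulVec])
  rw [AutPSU.Basic.mat_conjEl, ← Matrix.mulVec_mulVec, ← Matrix.mulVec_mulVec, hG2,
    shift_left (k := 3) (by omega), hG, shift_left (k := 3) (by omega), AutPSU.Basic.mat_conjEl,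
    ← Matrix.mulVec_mulVec, ← Matrix.mulVec_mulVec]

/-- An injective map from `SU₃` is the window up to an automorphism. -/
theorem exists_model (τ : S3 →* S4) (hτ : Function.Injective τ) :
    ∃ Θ : MulAut S4, ∀ x, τ x = Θ (shift 0 3 4 (by omega) x) := by
  obtain ⟨u, hu⟩ := FourPoint.exists_point hF τ hτ
  obtain ⟨k, hk⟩ := exists_su_frame hF (n := 4) (f := ![(sv hF (Fin.last 3)).1]) (f' := ![u.1]) (by omega)
    (one_frame (sv hF (Fin.last 3)).2) (one_frame u.2)
  have hku : k • sv hF (Fin.last 3) = u := Subtype.ext (hk 0)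
  set W := shift (F := F) (q := 3) 0 3 4 (by omega) with hW
  have hWi : Function.Injective W := shift_injective _ hF
  set β : S3 →* S4 := (MulAut.conj k⁻¹).toMonoidHom.comp τ with hβ
  have hβi : Function.Injective β := (MulAut.conj k⁻¹).injective.comp hτ
  have hr : β.range = W.range := by
    rw [hβ, MonoidHom.range_comp, hu, ← hku, stabilizer_smul_eq_stabilizer_map_conj, Subgroup.map_map,
      show (MulAut.conj k⁻¹).toMonoidHom.comp (MulAut.conj k).toMonoidHom = MonoidHom.id _ from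
        MonoidHom.ext fun y => by simp [MulAut.conj_apply, mul_assoc],
      Subgroup.map_id, stab_last hF (M := 3)]
  let α : MulAut S3 :=
    ((MonoidHom.ofInjective hβi).trans (MulEquiv.subgroupCongr hr)).trans (MonoidHom.ofInjective hWi).symm
  have hα : ∀ x, W (α x) = β x := fun x => MonoidHom.apply_ofInjective_symm hWi _
  obtain ⟨Θ, hΘ⟩ := extend_aut hF α
  refine ⟨MulAut.conj k * Θ, fun x => ?_⟩
  show τ x = MulAut.conj k (Θ (W x))
  rw [hW, hΘ, ← hW, hα, hβ]
  simp [MulAut.conj_apply, mul_assoc]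

omit hF in
theorem sv_entry {N : ℕ} (g : Cfsg.SU N F 3) (j : Fin N) (h : ∀ i, mat g i j = if i = j then 1 else 0) :
    mat g *ᵥ (Pi.single j 1 : Fin N → F) = Pi.single j 1 := by
  funext i
  rw [← Align.col_entry, h, Pi.single_apply]

set_option maxHeartbeats 1000000 in
/-- The second map, once the first is the window. -/
theorem second (ρ : S3 →* S4) (hρ : Function.Injective ρ)
    (hL : ∀ x, ρ (L3 x) = shift 1 2 4 (by omega) x)
    (hc : ∀ x y, shift 0 2 4 (by omega) x * ρ (R3 y) = ρ (R3 y) * shift 0 2 4 (by omega) x) :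
    ∃ Ξ : S4 →* S4, (∀ x, Ξ (shift 0 3 4 (by omega) x) = shift 0 3 4 (by omega) x) ∧
      ∀ x, ∃ y, ρ (R3 x) = shift 2 2 4 (by omega) y ∧ ρ (R3 x) = Ξ (shift 2 2 4 (by omega) x) := by
  have h3 := FourFixed.three_zero hF
  have h2 := FourFixed.two_ne hF
  obtain ⟨t, ht, ht2⟩ := TwoAut.exists_tor hF (q := 3) (by norm_num)
  have hts : t * t = -1 := by
    have : (t * t - 1) * (t * t + 1) = 0 := by linear_combination ht
    rcases mul_eq_zero.1 this with h | h
    · exact absurd (sub_eq_zero.1 h) ht2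
    · exact eq_neg_of_add_eq_zero_left h
  have ht1 : t ≠ 1 := fun h => ht2 (by rw [h, mul_one])
  have ht0 : t ≠ 0 := fun h => by rw [h, mul_zero] at hts; exact one_ne_zero (neg_eq_zero.1 hts.symm)
  obtain ⟨d, d0, d1⟩ := TwoAut.exists_mk hF (q := 3) (x := t) (y := 0) (by linear_combination ht)
  obtain ⟨w, w0, w1⟩ := TwoAut.exists_mk hF (q := 3) (x := 0) (y := 1) (by norm_num)
  obtain ⟨n, n0, n1⟩ := TwoAut.exists_mk hF (q := 3) (x := -1) (y := 0) (by norm_num)
  obtain ⟨d11, d10, -, -⟩ := TwoAut.shape hF d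
  obtain ⟨w11, w10, -, -⟩ := TwoAut.shape hF w
  obtain ⟨n11, n10, -, -⟩ := TwoAut.shape hF n
  rw [d0] at d11; rw [d1] at d10; rw [w0] at w11; rw [w1] at w10; rw [n0] at n11; rw [n1] at n10
  norm_num at d10 w11 w10 n11 n10
  have hd11 : t ^ 3 = -t := by linear_combination t * hts
  rw [hd11] at d11
  have four : ∀ z : Cfsg.SU 2 F 3, ∀ i j, mat (shift 0 2 4 (by omega) z) i j =
      (!![mat z 0 0, mat z 0 1, 0, 0; mat z 1 0, mat z 1 1, 0, 0; 0, 0, 1, 0; 0, 0, 0, 1]) i j := by
    intro z i j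
    rw [Align.col_entry, shift_apply]
    fin_cases i <;> fin_cases j <;> simp [Matrix.mulVec, dotProduct, Fin.sum_univ_two, Pi.single_apply]
  -- the second block is scalar on the first plane
  have shapeR : ∀ y, ∀ i, i = (0 : Fin 4) ∨ i = 1 → ∀ j, j ≠ i →
      mat (ρ (R3 y)) j i = 0 ∧ mat (ρ (R3 y)) 0 0 = mat (ρ (R3 y)) 1 1 := by
    intro y i hi j hji
    set Y := mat (ρ (R3 y)) with hY
    have eD : ∀ a b, (mat (shift 0 2 4 (by omega) d) * Y) a b = (Y * mat (shift 0 2 4 (by omega) d)) a b :=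
      fun a b => congrFun (congrFun (congrArg mat (hc d y)) a) b
    have eW : ∀ a b, (mat (shift 0 2 4 (by omega) w) * Y) a b = (Y * mat (shift 0 2 4 (by omega) w)) a b :=
      fun a b => congrFun (congrFun (congrArg mat (hc w y)) a) b
    simp only [Matrix.mul_apply, Fin.sum_univ_four, four] at eD eW
    have k10 := eD 1 0
    have k20 := eD 2 0
    have k30 := eD 3 0
    have k01 := eD 0 1
    have k21 := eD 2 1
    have k31 := eD 3 1
    have kw := eW 0 1
    simp [d0, d1, d10, d11, w0, w1, w10, w11] at k10 k20 k30 k01 k21 k31 kw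
    have a2t : (2 : F) * t ≠ 0 := mul_ne_zero h2 ht0
    have b1 : (1 : F) - t ≠ 0 := sub_ne_zero.2 (Ne.symm ht1)
    have b2 : (1 : F) + t ≠ 0 := fun h => ht2 (by linear_combination (t - 1) * h)
    have z10 : Y 1 0 = 0 := (mul_eq_zero.1 (show 2 * t * Y 1 0 = 0 by linear_combination -k10)).resolve_left a2t
    have z20 : Y 2 0 = 0 := (mul_eq_zero.1 (show (1 - t) * Y 2 0 = 0 by linear_combination k20)).resolve_left b1
    have z30 : Y 3 0 = 0 := (mul_eq_zero.1 (show (1 - t) * Y 3 0 = 0 by linear_combination k30)).resolve_left b1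
    have z01 : Y 0 1 = 0 := (mul_eq_zero.1 (show 2 * t * Y 0 1 = 0 by linear_combination k01)).resolve_left a2t
    have z21 : Y 2 1 = 0 := (mul_eq_zero.1 (show (1 + t) * Y 2 1 = 0 by linear_combination k21)).resolve_left b2
    have z31 : Y 3 1 = 0 := (mul_eq_zero.1 (show (1 + t) * Y 3 1 = 0 by linear_combination k31)).resolve_left b2
    refine ⟨?_, by linear_combination -kw⟩
    rcases hi with rfl | rfl <;> fin_cases j <;> first | exact absurd rfl hji | assumption
  let χ : Cfsg.SU 2 F 3 →* F :=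
    { toFun := fun y => mat (ρ (R3 y)) 0 0
      map_one' := by rw [map_one, map_one, mat_one, Matrix.one_apply_eq]
      map_mul' := fun a b => by
        show mat (ρ (R3 (a * b))) 0 0 = mat (ρ (R3 a)) 0 0 * mat (ρ (R3 b)) 0 0
        rw [map_mul, map_mul, mat_mul, Matrix.mul_apply, Fin.sum_univ_four,
          (shapeR b 0 (Or.inl rfl) 1 (by decide)).1, (shapeR b 0 (Or.inl rfl) 2 (by decide)).1,
          (shapeR b 0 (Or.inl rfl) 3 (by decide)).1]
        ring }
  have hχ : ∀ y, mat (ρ (R3 y)) 0 0 = 1 := by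
    intro y
    have h5 : χ.toHomUnits y = 1 := FourFixed.hom_trivial hF χ.toHomUnits (fun p r => mul_comm _ _)
      (fun p => Units.ext (by
        have hcol : mat (ρ (R3 p)) *ᵥ (Pi.single 0 1 : Fin 4 → F) = mat (ρ (R3 p)) 0 0 • Pi.single 0 1 := by
          funext i
          rw [← Align.col_entry]
          by_cases hi : i = 0
          · subst hi; simp
          · rw [(shapeR p 0 (Or.inl rfl) i hi).1]; simp [hi]
        have h6 := SU_H (ρ (R3 p)) (Pi.single 0 1 : Fin 4 → F) (Pi.single 0 1)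
        rw [hcol, UnitaryCount.hermForm_smul_smul, H_single_single hF, if_pos rfl, mul_one] at h6
        exact h6)) y
    exact congrArg Units.val h5
  have hfix : ∀ y, ρ (R3 y) ∈ (shift (F := F) (q := 3) 2 2 4 (by omega)).range := by
    intro y
    rw [mem_range hF]
    intro j hj
    refine sv_entry _ j fun i => ?_
    rcases (show j = 0 ∨ j = 1 by
      rcases (show (j : ℕ) = 0 ∨ (j : ℕ) = 1 by omega) with h | h
      · exact Or.inl (Fin.ext h)
      · exact Or.inr (Fin.ext h)) with rfl | rfl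
    · split_ifs with hi
      · rw [hi, hχ]
      · exact (shapeR y 0 (Or.inl rfl) i hi).1
    · split_ifs with hi
      · rw [hi, ← (shapeR y 0 (Or.inl rfl) 1 (by decide)).2, hχ]
      · exact (shapeR y 1 (Or.inr rfl) i hi).1
  have hR : (ρ.comp R3).range = (shift (F := F) (q := 3) 2 2 4 (by omega)).range := by
    refine Subgroup.eq_of_le_of_card_ge (by rintro _ ⟨y, rfl⟩; exact hfix y) ?_
    rw [← Nat.card_congr (MonoidHom.ofInjective (shift_injective _ hF)).toEquiv,
      ← Nat.card_congr (MonoidHom.ofInjective (hρ.comp (shift_injective (i := 1) (k := 2) (N := 3) le_rfl hF) :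
        Function.Injective (ρ.comp R3))).toEquiv]
  -- hence the image is the lower window
  set W := shift (F := F) (q := 3) 1 3 4 (by omega) with hW
  have hWi : Function.Injective W := shift_injective _ hF
  have hr : ρ.range = W.range := by
    refine (Subgroup.eq_of_le_of_card_ge ?_ ?_).symm
    · refine window_le hF (by norm_num) _ 3 1 (by omega) (by norm_num) fun j hj h1 h2' => ?_
      rcases (show j = 1 ∨ j = 2 by omega) with rfl | rfl
      · rintro _ ⟨x, rfl⟩
        exact ⟨_, hL x⟩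
      · rw [← hR, MonoidHom.range_comp]
        exact Subgroup.map_le_range _ _
    · rw [← Nat.card_congr (MonoidHom.ofInjective hρ).toEquiv, ← Nat.card_congr (MonoidHom.ofInjective hWi).toEquiv]
  let α : MulAut S3 :=
    ((MonoidHom.ofInjective hρ).trans (MulEquiv.subgroupCongr hr)).trans (MonoidHom.ofInjective hWi).symm
  have hα : ∀ x, W (α x) = ρ x := fun x => MonoidHom.apply_ofInjective_symm hWi _
  have hαL : ∀ x, α (L3 x) = L3 x := fun x => hWi (by rw [hα, hL, hW, shift_comp])
  have hαR : ∀ x, ∃ y, α (R3 x) = R3 y := fun x => by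
    obtain ⟨y, hy⟩ := hfix x
    exact ⟨y, hWi (by rw [hα, ← hy, hW, shift_comp])⟩
  obtain ⟨g, σ, hgσ⟩ := aut_three hF α
  have happ : ∀ s, gmat g * (mat s).map σ = mat (α s) * gmat g := fun s => by
    rw [hgσ]
    show _ = gmat g * (mat s).map σ * gmat g⁻¹ * gmat g
    rw [mul_assoc, AutPSU.Basic.gmat_inv_mul', mul_one]
  obtain ⟨y, hy⟩ := hαR n
  have hy2 : mat y = mat n := by
    have hnn : n * n = 1 := TwoAut.ext_two hF
      (by rw [mat_mul, Matrix.mul_apply, Fin.sum_univ_two, n0, n1, mat_one, Matrix.one_apply_eq]; ring)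
      (by rw [mat_mul, Matrix.mul_apply, Fin.sum_univ_two, n0, n1, mat_one, Matrix.one_apply_ne (by decide)]; ring)
    have hyy : y * y = 1 := shift_injective (i := 1) (k := 2) (N := 3) le_rfl hF
      (by rw [map_mul, map_one, ← hy, ← map_mul α, ← map_mul, hnn, map_one, map_one])
    have hy1 : y ≠ 1 := fun h => by
      rw [h, map_one, MulEquiv.map_eq_one_iff] at hy
      have := shift_injective (i := 1) (k := 2) (N := 3) le_rfl hF (hy.trans (map_one R3).symm)
      rw [this, mat_one, Matrix.one_apply_eq] at n0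
      exact h2 (by linear_combination n0)
    obtain ⟨y11, y10, -, yn⟩ := TwoAut.shape hF y
    have hadj : (mat y).adjugate = mat y := congrArg mat (inv_eq_of_mul_eq_one_right hyy : y⁻¹ = y)
    rw [Matrix.adjugate_fin_two] at hadj
    have e00 := congrFun (congrFun hadj 0) 0
    have e01 := congrFun (congrFun hadj 0) 1
    simp at e00 e01
    have y01 : mat y 0 1 = 0 :=
      (mul_eq_zero.1 (show 2 * mat y 0 1 = 0 by linear_combination -e01)).resolve_left h2
    rw [y01, zero_mul, add_zero, ← y11, e00] at yn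
    have y00 : mat y 0 0 = -1 := by
      rcases mul_self_eq_one_iff.1 yn with h | h
      · exfalso
        refine hy1 (TwoAut.ext_two hF ?_ ?_)
        · rw [h, mat_one, Matrix.one_apply_eq]
        · rw [y01, mat_one, Matrix.one_apply_ne (by decide)]
      · exact h
    rw [show y = n from TwoAut.ext_two hF (y00.trans n0.symm) (y01.trans n1.symm)]
  have eA := happ (L3 n)
  have eB := happ (R3 n)
  have eD := happ (L3 d)
  have eW := happ (L3 w)
  rw [hαL, Align.left_entries] at eA eD eW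
  rw [hy, Align.right_entries, Align.right_entries, hy2] at eB
  have p02 := congrFun (congrFun eA 0) 2
  have p12 := congrFun (congrFun eA 1) 2
  have p20 := congrFun (congrFun eA 2) 0
  have p21 := congrFun (congrFun eA 2) 1
  have p01 := congrFun (congrFun eB 0) 1
  have p10 := congrFun (congrFun eB 1) 0
  have pd := congrFun (congrFun eD 0) 0
  have pw := congrFun (congrFun eW 0) 1
  simp [Matrix.mul_apply, Fin.sum_univ_three, n0, n1, n10, n11] at p02 p12 p20 p21 p01 p10
  simp [Matrix.mul_apply, Fin.sum_univ_three, d0, d1, d10, d11, w0, w1, w10, w11] at pd pw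
  have g02 : gmat g 0 2 = 0 := (mul_eq_zero.1 (show 2 * gmat g 0 2 = 0 by linear_combination p02)).resolve_left h2
  have g12 : gmat g 1 2 = 0 := (mul_eq_zero.1 (show 2 * gmat g 1 2 = 0 by linear_combination p12)).resolve_left h2
  have g20 : gmat g 2 0 = 0 := (mul_eq_zero.1 (show 2 * gmat g 2 0 = 0 by linear_combination -p20)).resolve_left h2
  have g21 : gmat g 2 1 = 0 := (mul_eq_zero.1 (show 2 * gmat g 2 1 = 0 by linear_combination -p21)).resolve_left h2
  have g01 : gmat g 0 1 = 0 := (mul_eq_zero.1 (show 2 * gmat g 0 1 = 0 by linear_combination -p01)).resolve_left h2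
  have g10 : gmat g 1 0 = 0 := (mul_eq_zero.1 (show 2 * gmat g 1 0 = 0 by linear_combination p10)).resolve_left h2
  have hnorm : ∀ i, gmat g i i ^ (3 + 1) = 1 := fun i => by
    have h6 := GU_H g (Pi.single i 1 : Fin 3 → F) (Pi.single i 1)
    have hcol : gmat g *ᵥ (Pi.single i 1 : Fin 3 → F) = gmat g i i • Pi.single i 1 := by
      funext j
      rw [Matrix.mulVec_single_one, Matrix.col_apply]
      fin_cases i <;> fin_cases j <;> simp [g02, g12, g20, g21, g01, g10]
    rw [hcol, UnitaryCount.hermForm_smul_smul, H_single_single hF, if_pos rfl, mul_one] at h6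
    exact h6
  have gn0 : ∀ i, gmat g i i ≠ 0 := fun i => Align.ne_of_norm hF (hnorm i)
  have hσt : σ t = t := mul_left_cancel₀ (gn0 0) (by
    linear_combination pd)
  have hσ : σ = RingEquiv.refl F := RingEquiv.ext fun z => by
    show σ z = z
    have hsq : ∀ z : F, σ z * σ z = z * z := by
      intro z
      by_cases hz : z = 0
      · simp [hz]
      have h8 : z ^ (3 ^ 2 - 1) = 1 := by rw [← hF]; exact FiniteField.pow_card_sub_one_eq_one z hz
      have h9 : ((z * z - 1) * (z * z + 1)) * ((z * z - t) * (z * z + t)) = 0 := by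
        linear_combination h8 - (z ^ 4 - 1) * hts
      rcases mul_eq_zero.1 h9 with h | h <;> rcases mul_eq_zero.1 h with h | h
      · rw [← map_mul, show z * z = 1 by linear_combination h, map_one]
      · rw [← map_mul, show z * z = -1 by linear_combination h, map_neg, map_one]
      · rw [← map_mul, show z * z = t by linear_combination h, hσt]
      · rw [← map_mul, show z * z = -t by linear_combination h, map_neg, hσt]
    rcases mul_self_eq_mul_self_iff.1 (hsq z) with h | h
    · exact h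
    · rcases mul_self_eq_mul_self_iff.1 (hsq (z + 1)) with h' | h' <;> rw [map_add, map_one, h] at h'
      · have hz0 : z = 0 := (mul_eq_zero.1 (show 2 * z = 0 by linear_combination -h')).resolve_left h2
        rw [hz0, map_zero]
      · exact absurd (show (2 : F) = 0 by linear_combination h') h2
  subst hσ
  have gab : gmat g 0 0 = gmat g 1 1 := pw
  have hd : ∀ i, (![gmat g 0 0, gmat g 0 0, gmat g 0 0, gmat g 2 2] : Fin 4 → F) i ^ (3 + 1) = 1 := fun i => by
    fin_cases i <;> exact hnorm _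
  refine ⟨Align.theta hF (RingEquiv.refl F) _ hd, fun x => ?_, fun x => ?_⟩
  · refine Align.su_ext_entries fun i j => ?_
    rw [Align.theta_entry, Align.col_entry, shift_apply]
    have h0 := gn0 0
    have h22 := gn0 2
    fin_cases i <;> fin_cases j <;>
      simp [Matrix.mulVec, dotProduct, Fin.sum_univ_three, Pi.single_apply] <;> field_simp
  · obtain ⟨y', hy'⟩ := hαR x
    refine ⟨y', by rw [← hα, hy', hW, shift_comp], ?_⟩
    rw [← hα, hy', hW, shift_comp]
    refine Align.su_ext_entries fun i j => ?_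
    have e := happ (R3 x)
    rw [hy', Align.right_entries, Align.right_entries] at e
    have e00 := congrFun (congrFun e 1) 1
    have e01 := congrFun (congrFun e 1) 2
    have e10 := congrFun (congrFun e 2) 1
    have e11 := congrFun (congrFun e 2) 2
    simp [Matrix.mul_apply, Fin.sum_univ_three, g02, g12, g20, g21, g01, g10] at e00 e01 e10 e11
    have h11 := gn0 1
    have h22 := gn0 2
    have f00 : mat x 0 0 = mat y' 0 0 := mul_left_cancel₀ h11 (e00.trans (mul_comm _ _))
    have f11 : mat x 1 1 = mat y' 1 1 := mul_left_cancel₀ h22 (e11.trans (mul_comm _ _))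
    rw [Align.theta_entry, Align.col_entry, shift_apply, Align.col_entry (shift 2 2 4 _ x), shift_apply]
    fin_cases i <;> fin_cases j <;>
      simp [Matrix.mulVec, dotProduct, Fin.sum_univ_two, Pi.single_apply, gab] <;> field_simp <;>
      first
        | linear_combination f00
        | linear_combination f11
        | linear_combination -f00
        | linear_combination -f11
        | linear_combination e01
        | linear_combination e10
        | linear_combination -e01
        | linear_combination -e10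

/-- The triple. -/
theorem exists_four {ψ ψ' : S3 →* G} {u0 u1 u2 : Cfsg.SU 2 F 3 →* G} (h0 : ∀ a, ψ (L3 a) = u0 a)
    (h1 : ∀ a, ψ (R3 a) = u1 a) (h1' : ∀ a, ψ' (L3 a) = u1 a) (h2 : ∀ a, ψ' (R3 a) = u2 a)
    (hi : Function.Injective u0) (hi' : Function.Injective u1)
    (hcomm : ∀ a b, u0 a * u2 b = u2 b * u0 a) {g : S4 →* G} (hg : g.range = ψ.range ⊔ ψ'.range) :
    ∃ φ : S4 →* G, (∀ a, φ (shift 0 2 4 (by omega) a) = u0 a) ∧ (∀ a, φ (shift 1 2 4 (by omega) a) = u1 a) ∧
      ∀ a, φ (shift 2 2 4 (by omega) a) = u2 a := by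
  obtain ⟨z, hz⟩ : ∃ z : Cfsg.SU 2 F 3, z ≠ 1 := by
    obtain ⟨z, z0, -⟩ := TwoAut.exists_mk hF (q := 3) (x := -1) (y := 0) (by norm_num)
    refine ⟨z, fun h => FourFixed.two_ne hF ?_⟩
    rw [h, mat_one, Matrix.one_apply_eq] at z0
    linear_combination z0
  have inj3 : ∀ (χ : S3 →* G) (v : Cfsg.SU 2 F 3 →* G), Function.Injective v → (∀ a, χ (L3 a) = v a) →
      Function.Injective χ := by
    intro χ v hv hχ
    rcases normal_cases hF le_rfl χ.ker with h | h
    · exact (injective_iff_map_eq_one χ).2 fun x hx => center_three hF (h hx)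
    · exfalso
      refine hz (hv ?_)
      rw [← hχ, map_one]
      exact (h ▸ Subgroup.mem_top _ : L3 z ∈ χ.ker)
  have hψ := inj3 ψ u0 hi h0
  have hψ' := inj3 ψ' u1 hi' h1'
  have hgc : g.ker ≤ Subgroup.center S4 := by
    rcases normal_cases hF (show 3 ≤ 4 by norm_num) g.ker with h | h
    · exact h
    · exfalso
      obtain ⟨s, hs⟩ : u0 z ∈ g.range := hg ▸ Subgroup.mem_sup_left ⟨_, h0 z⟩
      refine hz (hi ?_)
      rw [map_one, ← hs]
      exact (h ▸ Subgroup.mem_top s : s ∈ g.ker)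
  obtain ⟨τ, hτ, hτi⟩ := exists_lift hF g hgc ψ hψ (hg ▸ le_sup_left)
  obtain ⟨τ', hτ', hτi'⟩ := exists_lift hF g hgc ψ' hψ' (hg ▸ le_sup_right)
  have hcen : ∀ {s}, g s = 1 → s ∈ Subgroup.center S4 := fun h => hgc h
  have hagree : ∀ a, τ' (L3 a) = τ (R3 a) := by
    have hd : ∀ a, (τ (R3 a))⁻¹ * τ' (L3 a) ∈ Subgroup.center S4 := fun a =>
      hcen (by rw [map_mul, map_inv, hτ, hτ', h1, h1', inv_mul_cancel])
    let δ : Cfsg.SU 2 F 3 →* S4 := MonoidHom.mk' (fun a => (τ (R3 a))⁻¹ * τ' (L3 a)) fun a b => by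
      have hc := Subgroup.mem_center_iff.1 (hd a) (τ (R3 b))⁻¹
      simp only [map_mul, _root_.mul_inv_rev]
      calc (τ (R3 b))⁻¹ * (τ (R3 a))⁻¹ * (τ' (L3 a) * τ' (L3 b))
          = ((τ (R3 b))⁻¹ * ((τ (R3 a))⁻¹ * τ' (L3 a))) * τ' (L3 b) := by group
        _ = _ := by rw [hc]; group
    intro a
    exact (inv_mul_eq_one.1 (FourFixed.hom_trivial hF δ (fun x y => (Subgroup.mem_center_iff.1 (hd y) _))
      (fun x => center_four hF (hd x)) a)).symm
  have hcomm' : ∀ a b, τ (L3 a) * τ' (R3 b) = τ' (R3 b) * τ (L3 a) := by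
    intro a b
    set e := τ' (R3 b) with he
    have hd : ∀ a, τ (L3 a) * e * (τ (L3 a))⁻¹ * e⁻¹ ∈ Subgroup.center S4 := fun a =>
      hcen (by rw [map_mul, map_mul, map_mul, map_inv, map_inv, he, hτ, hτ', h0, h2, hcomm, mul_inv_cancel_right,
        mul_inv_cancel])
    let δ : Cfsg.SU 2 F 3 →* S4 := MonoidHom.mk' (fun a => τ (L3 a) * e * (τ (L3 a))⁻¹ * e⁻¹) fun x y => by
      have hc := Subgroup.mem_center_iff.1 (hd y) (τ (L3 x))
      simp only [map_mul, _root_.mul_inv_rev]
      calc τ (L3 x) * τ (L3 y) * e * ((τ (L3 y))⁻¹ * (τ (L3 x))⁻¹) * e⁻¹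
          = (τ (L3 x) * (τ (L3 y) * e * (τ (L3 y))⁻¹ * e⁻¹)) * e * (τ (L3 x))⁻¹ * e⁻¹ := by group
        _ = (τ (L3 y) * e * (τ (L3 y))⁻¹ * e⁻¹) * (τ (L3 x) * e * (τ (L3 x))⁻¹ * e⁻¹) := by rw [hc]; group
        _ = _ := ((Subgroup.mem_center_iff.1 (hd y) _).symm : _)
    have h5 : τ (L3 a) * e * (τ (L3 a))⁻¹ * e⁻¹ = 1 :=
      FourFixed.hom_trivial hF δ (fun x y => Subgroup.mem_center_iff.1 (hd y) _) (fun x => center_four hF (hd x)) a
    rwa [mul_inv_eq_one, mul_inv_eq_iff_eq_mul] at h5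
  obtain ⟨Θ, hΘ⟩ := exists_model hF τ hτi
  set ρ : S3 →* S4 := Θ.symm.toMonoidHom.comp τ' with hρ
  have hρi : Function.Injective ρ := Θ.symm.injective.comp hτi'
  have hρL : ∀ a, ρ (L3 a) = shift 1 2 4 (by omega) a := fun a => by
    show Θ.symm (τ' (L3 a)) = _
    rw [hagree, hΘ, MulEquiv.symm_apply_apply, shift_comp]
  have hρc : ∀ a b, shift 0 2 4 (by omega) a * ρ (R3 b) = ρ (R3 b) * shift 0 2 4 (by omega) a := fun a b => by
    have h5 := congrArg Θ.symm (hcomm' a b)
    rw [map_mul, map_mul, hΘ, MulEquiv.symm_apply_apply, shift_comp] at h5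
    exact h5
  obtain ⟨Ξ, hΞ, hΞ'⟩ := second hF ρ hρi hρL hρc
  refine ⟨g.comp (Θ.toMonoidHom.comp Ξ), fun a => ?_, fun a => ?_, fun a => ?_⟩
  · show g (Θ (Ξ _)) = _
    rw [show shift 0 2 4 _ a = shift 0 3 4 (by omega) (L3 a) by rw [shift_comp], hΞ, ← hΘ, hτ, h0]
  · show g (Θ (Ξ _)) = _
    rw [show shift 1 2 4 _ a = shift 0 3 4 (by omega) (R3 a) by rw [shift_comp], hΞ, ← hΘ, hτ, h1]
  · show g (Θ (Ξ _)) = _
    obtain ⟨y, -, hy⟩ := hΞ' a
    rw [← hy]
    show g (Θ (Θ.symm (τ' (R3 a)))) = _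
    rw [MulEquiv.apply_symm_apply, hτ', h2]

end Cfsg.Agent.Phan.FourTriple
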