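import Cfsg.Agent.Lib.Phan.Shift
import Mathlib

/-!
An aligned chain of windows in a group gives a homomorphism from the special unitary group.
-/

set_option autoImplicit false
set_option linter.unusedSectionVars false
set_option linter.unusedSimpArgs false

namespace Cfsg.Agent.Phan.Glue

open Matrix MulAction
open Cfsg.Agent.Forms Cfsg.Agent.Classical Cfsg.Agent.Classical.Unitary
open Cfsg.Agent.SimpleFacts.SUMult Blocks CosetGeom
open Cfsg.Agent.Phan.Orth Cfsg.Agent.Phan.Cov Cfsg.Agent.Phan.Base Cfsg.Agent.Phan.Shift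

universe u v

variable {F : Type u} [Field F] [Fintype F] {q : ℕ} {G : Type v} [Group G]
variable (hF : Fintype.card F = q ^ 2) (hq : 2 < q)

include hF

/-- A map on a window, totalised. -/
theorem exists_total {i k N : ℕ} (h : i + k ≤ N) (φ : Cfsg.SU k F q →* G) :
    ∃ A : Cfsg.SU N F q → G, ∀ a, A (shift i k N h a) = φ a :=
  ⟨fun g => φ (Function.invFun (shift i k N h) g), fun a => by
    show φ _ = φ a
    rw [Function.leftInverse_invFun (shift_injective h hF) a]⟩

include hq

theorem hom_ext {N : ℕ} (hN : 2 ≤ N) {φ φ' : Cfsg.SU N F q →* G}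
    (h : ∀ j (hj : j + 2 ≤ N) a, φ (shift j 2 N hj a) = φ' (shift j 2 N hj a)) : φ = φ' :=
  MonoidHom.eq_of_eqOn_top fun g _ => by
    have := windows_top hF hq hN (φ.eqLocus φ') (fun j hj => by rintro _ ⟨a, rfl⟩; exact h j hj a)
    exact (this ▸ Subgroup.mem_top g : g ∈ φ.eqLocus φ')

theorem glue_step (m : ℕ) (hm : 2 ≤ m) (hm4 : 3 < q ∨ 3 ≤ m) (u : ℕ → Cfsg.SU 2 F q →* G)
    (hcomm : ∀ i j, i + 2 ≤ j → j < m + 1 → ∀ a b, u i a * u j b = u j b * u i a)
    (Φa Φb : Cfsg.SU (m + 1) F q →* G)
    (ha : ∀ i (h : i + 2 ≤ m + 1) a, Φa (shift i 2 (m + 1) h a) = u (i + 1) a)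
    (hb : ∀ i (h : i + 2 ≤ m + 1) a, Φb (shift i 2 (m + 1) h a) = u i a) :
    ∃ Φ : Cfsg.SU (m + 1 + 1) F q →* G, ∀ i (h : i + 2 ≤ m + 1 + 1) a,
      Φ (shift i 2 (m + 1 + 1) h a) = u i a := by
  set N := m + 1 + 1 with hN
  obtain ⟨A, hA⟩ := exists_total hF (i := 1) (k := m + 1) (N := N) (by omega) Φa
  obtain ⟨B, hB⟩ := exists_total hF (i := 0) (k := m + 1) (N := N) (by omega) Φb
  set e : UVec F q N := sv hF (0 : Fin (m + 1 + 1)) with he
  set x0 : UVec F q N := sv hF (Fin.last (m + 1)) with hx0
  set x1 : UVec F q N := sv hF (⟨m, by omega⟩ : Fin (m + 1 + 1)) with hx1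
  have sA : ∀ g : Cfsg.SU N F q, g • e = e → ∃ a, shift 1 (m + 1) N (by omega) a = g := fun g hg => by
    have : g ∈ stabilizer (Cfsg.SU (m + 1 + 1) F q) e := hg
    rw [he, stab_first hF] at this
    exact this
  have sB : ∀ g : Cfsg.SU N F q, g • x0 = x0 → ∃ a, shift 0 (m + 1) N (by omega) a = g := fun g hg => by
    have : g ∈ stabilizer (Cfsg.SU (m + 1 + 1) F q) x0 := hg
    rw [hx0, stab_last hF] at this
    exact this
  have agree_mid : Φa.comp (shift 0 m (m + 1) (by omega)) = Φb.comp (shift 1 m (m + 1) (by omega)) := by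
    refine hom_ext hF hq hm fun j hj a => ?_
    rw [MonoidHom.comp_apply, MonoidHom.comp_apply, shift_comp, shift_comp, ha, hb]
    congr 2
    omega
  let D : Data F q N G :=
    { e := e, x0 := x0, x1 := x1
      pe := perp_sv hF (by simp [Fin.ext_iff])
      pe1 := perp_sv hF (by simp [Fin.ext_iff]; omega)
      p01 := perp_sv hF (by simp [Fin.ext_iff])
      A := A, B := B
      A_mul := fun g h hg hh => by
        obtain ⟨a, rfl⟩ := sA g hg
        obtain ⟨b, rfl⟩ := sA h hh
        rw [← map_mul, hA, hA, hA, map_mul]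
      B_mul := fun g h hg hh => by
        obtain ⟨a, rfl⟩ := sB g hg
        obtain ⟨b, rfl⟩ := sB h hh
        rw [← map_mul, hB, hB, hB, map_mul]
      agree := fun g hg hg' => by
        have hg2 : g ∈ (shift (F := F) (q := q) 1 m N (by omega)).range := by
          rw [mem_range hF]
          intro j hj
          rcases (show (j : ℕ) = 0 ∨ (j : ℕ) = m + 1 by omega) with h0 | h1
          · rw [show j = (0 : Fin (m + 1 + 1)) from Fin.ext h0]
            exact (smul_sv_iff hF g _).1 hg
          · rw [show j = Fin.last (m + 1) from Fin.ext h1]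
            exact (smul_sv_iff hF g _).1 hg'
        obtain ⟨a, rfl⟩ := hg2
        have h1 : shift 1 m N (by omega) a = shift 1 (m + 1) N (by omega) (shift 0 m (m + 1) (by omega) a) := by
          rw [shift_comp]
        have h2 : shift 1 m N (by omega) a = shift 0 (m + 1) N (by omega) (shift 1 m (m + 1) (by omega) a) := by
          rw [shift_comp]
        rw [congrArg A h1, congrArg B h2, hA, hB]
        exact DFunLike.congr_fun agree_mid a
      gen := by
        refine le_trans (le_of_eq (stab_last hF)) ?_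
        refine window_le hF hq _ (m + 1) 0 (by omega) (by omega) fun j hj _ hj' => ?_
        rintro _ ⟨a, rfl⟩
        rcases Nat.eq_zero_or_pos j with rfl | hj0
        · refine Subgroup.mem_sup_right ⟨(smul_sv_iff hF _ _).2 (shift_outside _ a ?_),
            (smul_sv_iff hF _ _).2 (shift_outside _ a ?_)⟩
          · simp
            omega
          · simp
            omega
        · refine Subgroup.mem_sup_left ⟨(smul_sv_iff hF _ _).2 (shift_outside _ a ?_),
            (smul_sv_iff hF _ _).2 (shift_outside _ a ?_)⟩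
          · simp
            omega
          · simp
            omega
      top := stab_sup hF (by omega) hq (perp_sv hF (by simp [Fin.ext_iff]))
      move := fun y hy => by
        obtain ⟨c, d, hcd⟩ := Submodule.mem_span_pair.1 hy
        set y' : Fin 2 → F := ![d, c] with hy'
        have hy1 : Cfsg.hermForm 2 F q y' y' = 1 := by
          have h1 := y.2
          rw [← hcd, hx0, hx1] at h1
          simp only [sv, H_add_left, H_add_right hF, H_smul_left, H_smul_right, H_single_single hF] at h1
          simp [Fin.ext_iff] at h1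
          have h2 : y' = d • (Pi.single 0 1 : Fin 2 → F) + c • (Pi.single 1 1 : Fin 2 → F) := by
            funext l
            fin_cases l <;> simp [hy']
          rw [h2]
          simp only [H_add_left, H_add_right hF, H_smul_left, H_smul_right, H_single_single hF]
          simp
          linear_combination h1
        obtain ⟨g2, hg2⟩ := exists_su_frame hF (f := ![(Pi.single 1 1 : Fin 2 → F)]) (f' := ![y'])
          (by omega) (one_frame (by rw [H_single_single hF, if_pos rfl])) (one_frame hy1)
        have hg2' : mat g2 *ᵥ (Pi.single 1 1 : Fin 2 → F) = y' := hg2 0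
        have hh1 : shift m 2 N (by omega) g2 =
            shift 1 (m + 1) N (by omega) (shift (m - 1) 2 (m + 1) (by omega) g2) := by
          rw [shift_comp, shift_congr (show 1 + (m - 1) = m by omega)]
        refine ⟨shift m 2 N (by omega) g2, ?_, ?_, fun g hg0 hg1 => ?_⟩
        · refine (smul_sv_iff hF _ _).2 (shift_outside _ g2 ?_)
          simp
          omega
        · refine Subtype.ext (funext fun j => ?_)
          rw [smul_val, shift_apply, ← hcd]
          by_cases hj : m ≤ (j : ℕ) ∧ (j : ℕ) < m + 2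
          · rw [dif_pos hj]
            have e1 : (fun l : Fin 2 => x0.1 ⟨m + l, by omega⟩) = (Pi.single 1 1 : Fin 2 → F) := by
              funext l
              fin_cases l <;> simp [hx0, sv, Pi.single_apply, Fin.ext_iff]
            rw [e1, hg2']
            rcases (show (j : ℕ) = m ∨ (j : ℕ) = m + 1 by omega) with h0 | h1
            · rw [show (⟨(j : ℕ) - m, by omega⟩ : Fin 2) = 0 from Fin.ext (by simp; omega)]
              simp [hy', hx0, hx1, sv, Pi.single_apply, Fin.ext_iff, h0]
            · rw [show (⟨(j : ℕ) - m, by omega⟩ : Fin 2) = 1 from Fin.ext (by simp; omega)]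
              simp [hy', hx0, hx1, sv, Pi.single_apply, Fin.ext_iff, h1]
          · rw [dif_neg hj]
            have h0 : (j : ℕ) ≠ m := by omega
            have h1 : (j : ℕ) ≠ m + 1 := by omega
            simp [hx0, hx1, sv, Pi.single_apply, Fin.ext_iff, h0, h1]
        · have hg2r : g ∈ (shift (F := F) (q := q) 0 m N (by omega)).range := by
            rw [mem_range hF]
            intro j hj
            rcases (show (j : ℕ) = m ∨ (j : ℕ) = m + 1 by omega) with h0 | h1
            · rw [show j = (⟨m, by omega⟩ : Fin (m + 1 + 1)) from Fin.ext h0]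
              exact (smul_sv_iff hF g _).1 hg1
            · rw [show j = Fin.last (m + 1) from Fin.ext h1]
              exact (smul_sv_iff hF g _).1 hg0
          obtain ⟨a, rfl⟩ := hg2r
          refine ⟨(shift_commute _ _ (by omega) a g2).symm, ?_⟩
          have hh2 : shift 0 m N (by omega) a = shift 0 (m + 1) N (by omega) (shift 0 m (m + 1) (by omega) a) := by
            rw [shift_comp]
          rw [congrArg A hh1, congrArg B hh2, hA, hB, ha]
          let T : Subgroup (Cfsg.SU m F q) :=
            (Subgroup.centralizer {u (m - 1 + 1) g2}).comap (Φb.comp (shift 0 m (m + 1) (by omega)))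
          have hT : T = ⊤ := windows_top hF hq hm T fun j hj => by
            rintro _ ⟨b, rfl⟩
            show Φb (shift 0 m (m + 1) _ (shift j 2 m hj b)) ∈ Subgroup.centralizer _
            rw [shift_comp, hb, Subgroup.mem_centralizer_singleton_iff]
            exact hcomm _ _ (by omega) (by omega) _ _
          have hmem : a ∈ T := hT ▸ Subgroup.mem_top a
          exact (Subgroup.mem_centralizer_singleton_iff.1 hmem).symm }
  obtain ⟨Φ, hΦA, hΦB⟩ := exists_hom D hF (by omega) hq (hm4.imp id fun h => by omega)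
  refine ⟨Φ, fun i h a => ?_⟩
  rcases Nat.eq_zero_or_pos i with rfl | hi
  · have e1 : shift 0 2 N h a = shift 0 (m + 1) N (by omega) (shift 0 2 (m + 1) (by omega) a) := by
      rw [shift_comp]
    rw [hΦB _ ((smul_sv_iff hF _ _).2 (shift_outside _ a (by simp; omega)))]
    show B _ = _
    rw [congrArg B e1, hB, hb]
  · have e1 : shift i 2 N h a = shift 1 (m + 1) N (by omega) (shift (i - 1) 2 (m + 1) (by omega) a) := by
      rw [shift_comp, shift_congr (show 1 + (i - 1) = i by omega)]
    rw [hΦA _ ((smul_sv_iff hF _ _).2 (shift_outside _ a (by simp; omega)))]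
    show A _ = _
    rw [congrArg A e1, hA, ha]
    congr 2
    omega

theorem glue (hq3 : 3 < q) : ∀ n, 2 ≤ n → ∀ u : ℕ → Cfsg.SU 2 F q →* G,
    (∀ i, i + 1 < n → ∃ ψ : Cfsg.SU 3 F q →* G, (∀ a, ψ (shift 0 2 3 (by omega) a) = u i a) ∧
      ∀ a, ψ (shift 1 2 3 (by omega) a) = u (i + 1) a) →
    (∀ i j, i + 2 ≤ j → j < n → ∀ a b, u i a * u j b = u j b * u i a) →
    ∃ Φ : Cfsg.SU (n + 1) F q →* G, ∀ i (h : i + 2 ≤ n + 1) a, Φ (shift i 2 (n + 1) h a) = u i a
  | 0, hn, _, _, _ => absurd hn (by omega)
  | m + 1, hn, u, hpair, hcomm => by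
    by_cases hm : m = 1
    · subst hm
      obtain ⟨ψ, h0, h1⟩ := hpair 0 (by omega)
      refine ⟨ψ, fun i h a => ?_⟩
      rcases (show i = 0 ∨ i = 1 by omega) with rfl | rfl
      · exact h0 a
      · exact h1 a
    obtain ⟨Φa, ha⟩ := glue hq3 m (by omega) (fun i => u (i + 1)) (fun i hi => hpair (i + 1) (by omega))
      (fun i j hij hj => hcomm (i + 1) (j + 1) (by omega) (by omega))
    obtain ⟨Φb, hb⟩ := glue hq3 m (by omega) u (fun i hi => hpair i (by omega))
      (fun i j hij hj => hcomm i j hij (by omega))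
    exact glue_step hF hq m (by omega) (Or.inl hq3) u hcomm Φa Φb ha hb

/-- The same, from maps on windows of four coordinates. -/
theorem glue_four : ∀ n, 3 ≤ n → ∀ u : ℕ → Cfsg.SU 2 F q →* G,
    (∀ i, i + 2 < n → ∃ φ : Cfsg.SU 4 F q →* G, ∀ k (hk : k + 2 ≤ 4) a, φ (shift k 2 4 hk a) = u (i + k) a) →
    (∀ i j, i + 2 ≤ j → j < n → ∀ a b, u i a * u j b = u j b * u i a) →
    ∃ Φ : Cfsg.SU (n + 1) F q →* G, ∀ i (h : i + 2 ≤ n + 1) a, Φ (shift i 2 (n + 1) h a) = u i a
  | 0, hn, _, _, _ => absurd hn (by omega)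
  | m + 1, hn, u, htri, hcomm => by
    by_cases hm : m = 2
    · subst hm
      obtain ⟨φ, hφ⟩ := htri 0 (by omega)
      exact ⟨φ, fun i h a => by simpa using hφ i h a⟩
    obtain ⟨Φa, ha⟩ := glue_four m (by omega) (fun i => u (i + 1)) (fun i hi => by
      obtain ⟨φ, hφ⟩ := htri (i + 1) (by omega)
      exact ⟨φ, fun k hk a => by rw [hφ k hk a]; congr 2; omega⟩)
      (fun i j hij hj => hcomm (i + 1) (j + 1) (by omega) (by omega))
    obtain ⟨Φb, hb⟩ := glue_four m (by omega) u (fun i hi => htri i (by omega))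
      (fun i j hij hj => hcomm i j hij (by omega))
    exact glue_step hF hq m (by omega) (Or.inr (by omega)) u hcomm Φa Φb ha hb

end Cfsg.Agent.Phan.Glue
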