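import Cfsg.Agent.Lib.Phan.Shift
import Cfsg.Agent.Lib.Phan.Glue
import Cfsg.Agent.Lib.Phan.BaseTwo
import Mathlib

/-!
Over the field with four elements: maps on windows of three coordinates glue to the special unitary group.
-/

set_option autoImplicit false
set_option linter.unusedSectionVars false
set_option linter.unusedSimpArgs false
set_option maxHeartbeats 800000

namespace Cfsg.Agent.Phan.GlueTwo

open Matrix MulAction
open Cfsg.Agent.Forms Cfsg.Agent.Classical Cfsg.Agent.Classical.Unitary
open Cfsg.Agent.SimpleFacts.SUMult Blocks CosetGeom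
open Cfsg.Agent.Phan.Orth Cfsg.Agent.Phan.Cov Cfsg.Agent.Phan.Base Cfsg.Agent.Phan.Shift Cfsg.Agent.Phan.Glue

universe u v

variable {F : Type u} [Field F] [Fintype F] {G : Type v} [Group G]

/-- Two point stabilisers generate, in dimension at least four. -/
theorem stab_sup {q : ℕ} (hF : Fintype.card F = q ^ 2) {N : ℕ} (hN : 4 ≤ N) {e x0 : UVec F q N}
    (he0 : Perp e x0) : stabilizer (Cfsg.SU N F q) e ⊔ stabilizer (Cfsg.SU N F q) x0 = ⊤ := by
  set K := stabilizer (Cfsg.SU N F q) e ⊔ stabilizer (Cfsg.SU N F q) x0 with hK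
  have hst : ∀ {z : UVec F q N}, Perp e z → stabilizer (Cfsg.SU N F q) z ≤ K := by
    intro z hz g hg
    obtain ⟨k, hk, hkx⟩ := exists_move hF (by omega) he0 hz
    have h1 : k ∈ K := Subgroup.mem_sup_left hk
    have h2 : k⁻¹ * g * k ∈ K := Subgroup.mem_sup_right (conj_fix' hg hkx)
    have := mul_mem (mul_mem h1 h2) (inv_mem h1)
    rwa [show k * (k⁻¹ * g * k) * k⁻¹ = g by group] at this
  rw [eq_top_iff]
  intro g _
  obtain ⟨z, hz, hze, hzg⟩ := exists_perp_two hF hN e.2 (g • e).1
  set Z : UVec F q N := ⟨z, hz⟩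
  obtain ⟨k, hk, hke⟩ := exists_move hF (z := Z) (x := e) (y := g • e) (by omega) hze hzg
  have h1 : k ∈ K := hst (sym hF hze) hk
  have h2 : k⁻¹ * g ∈ K := Subgroup.mem_sup_left (show (k⁻¹ * g) • e = e by
    rw [mul_smul, ← hke, inv_smul_smul])
  simpa using mul_mem h1 h2

variable (hF : Fintype.card F = 2 ^ 2)
include hF

/-- A subgroup containing the three-dimensional windows inside a window contains the window. -/
theorem window_le {N : ℕ} (T : Subgroup (Cfsg.SU N F 2)) :
    ∀ k i (h : i + k ≤ N), 3 ≤ k →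
      (∀ j (hj : j + 3 ≤ N), i ≤ j → j + 3 ≤ i + k → (shift j 3 N hj).range ≤ T) →
      (shift i k N h).range ≤ T
  | 0, _, _, hk, _ => absurd hk (by omega)
  | k + 1, i, h, hk, hT => by
    by_cases hk3 : k + 1 = 3
    · obtain rfl : k = 2 := by omega
      exact hT i h le_rfl le_rfl
    have htop : (shift (F := F) (q := 2) 1 k (k + 1) (by omega)).range ⊔
        (shift (F := F) (q := 2) 0 k (k + 1) (by omega)).range = ⊤ := by
      rw [← stab_first hF, ← stab_last hF]
      exact stab_sup hF (by omega) (perp_sv hF (by simp [Fin.ext_iff]; omega))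
    rw [MonoidHom.range_eq_map, ← htop, Subgroup.map_sup, sup_le_iff]
    constructor
    · rintro _ ⟨_, ⟨a, rfl⟩, rfl⟩
      rw [shift_comp]
      exact window_le T k (i + 1) (by omega) (by omega) (fun j hj h1 h2 => hT j hj (by omega) (by omega))
        ⟨a, rfl⟩
    · rintro _ ⟨_, ⟨a, rfl⟩, rfl⟩
      rw [shift_comp, shift_congr (Nat.add_zero i)]
      exact window_le T k i (by omega) (by omega) (fun j hj h1 h2 => hT j hj (by omega) (by omega)) ⟨a, rfl⟩

theorem hom_ext {N : ℕ} (hN : 3 ≤ N) {φ φ' : Cfsg.SU N F 2 →* G}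
    (h : ∀ j (hj : j + 3 ≤ N) a, φ (shift j 3 N hj a) = φ' (shift j 3 N hj a)) : φ = φ' :=
  MonoidHom.eq_of_eqOn_top fun g _ =>
    window_le hF (φ.eqLocus φ') N 0 (by omega) hN (fun j hj _ _ => by rintro _ ⟨a, rfl⟩; exact h j hj a)
      ⟨g, shift_self _ g⟩

local notation "L3" => shift (F := F) (q := 2) 0 2 3 (by omega)
local notation "R3" => shift (F := F) (q := 2) 1 2 3 (by omega)

theorem glue_step (m : ℕ) (hm : 3 ≤ m) (ψ : ℕ → Cfsg.SU 3 F 2 →* G)
    (hL : ∀ i k, i + 2 ≤ k → k + 3 ≤ m + 1 + 1 → ∀ a b, ψ i (L3 a) * ψ k b = ψ k b * ψ i (L3 a))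
    (hR : ∀ i k, i + 2 ≤ k → k + 3 ≤ m + 1 + 1 → ∀ a b, ψ i a * ψ k (R3 b) = ψ k (R3 b) * ψ i a)
    (h33 : ∀ i k, i + 3 ≤ k → k + 3 ≤ m + 1 + 1 → ∀ a b, ψ i a * ψ k b = ψ k b * ψ i a)
    (Φa Φb : Cfsg.SU (m + 1) F 2 →* G)
    (ha : ∀ i (h : i + 3 ≤ m + 1) a, Φa (shift i 3 (m + 1) h a) = ψ (i + 1) a)
    (hb : ∀ i (h : i + 3 ≤ m + 1) a, Φb (shift i 3 (m + 1) h a) = ψ i a) :
    ∃ Φ : Cfsg.SU (m + 1 + 1) F 2 →* G, ∀ i (h : i + 3 ≤ m + 1 + 1) a,
      Φ (shift i 3 (m + 1 + 1) h a) = ψ i a := by
  set N := m + 1 + 1 with hN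
  obtain ⟨A, hA⟩ := exists_total hF (i := 1) (k := m + 1) (N := N) (by omega) Φa
  obtain ⟨B, hB⟩ := exists_total hF (i := 0) (k := m + 1) (N := N) (by omega) Φb
  set e : UVec F 2 N := sv hF (0 : Fin (m + 1 + 1)) with he
  set x0 : UVec F 2 N := sv hF (Fin.last (m + 1)) with hx0
  set x1 : UVec F 2 N := sv hF (⟨m, by omega⟩ : Fin (m + 1 + 1)) with hx1
  set x2 : UVec F 2 N := sv hF (⟨m - 1, by omega⟩ : Fin (m + 1 + 1)) with hx2
  have sA : ∀ g : Cfsg.SU N F 2, g • e = e → ∃ a, shift 1 (m + 1) N (by omega) a = g := fun g hg => by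
    have : g ∈ stabilizer (Cfsg.SU (m + 1 + 1) F 2) e := hg
    rw [he, stab_first hF] at this
    exact this
  have sB : ∀ g : Cfsg.SU N F 2, g • x0 = x0 → ∃ a, shift 0 (m + 1) N (by omega) a = g := fun g hg => by
    have : g ∈ stabilizer (Cfsg.SU (m + 1 + 1) F 2) x0 := hg
    rw [hx0, stab_last hF] at this
    exact this
  -- the last window
  have hlast : ∀ c, A (shift (m - 1) 3 N (by omega) c) = ψ (m - 1) c := fun c => by
    have e1 : shift (m - 1) 3 N (by omega) c =
        shift 1 (m + 1) N (by omega) (shift (m - 2) 3 (m + 1) (by omega) c) := by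
      rw [shift_comp, shift_congr (show 1 + (m - 2) = m - 1 by omega)]
    rw [congrArg A e1, hA, ha, show m - 2 + 1 = m - 1 by omega]
  have agree_mid : Φa.comp (shift 0 m (m + 1) (by omega)) = Φb.comp (shift 1 m (m + 1) (by omega)) := by
    refine hom_ext hF hm fun j hj a => ?_
    rw [MonoidHom.comp_apply, MonoidHom.comp_apply, shift_comp, shift_comp, ha, hb]
    congr 2
    omega
  let D : Data F 2 N G :=
    { e := e, x0 := x0, x1 := x1
      pe := perp_sv hF (by simp [Fin.ext_iff])
      pe1 := perp_sv hF (by simp [Fin.ext_iff]; omega)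
      p01 := perp_sv hF (by simp [Fin.ext_iff])
      A := A, B := B
      A_mul := fun g h hg hh => by
        obtain ⟨a, rfl⟩ := sA g hg
        obtain ⟨b, rfl⟩ := sA h hh
        rw [← map_mul, hA, hA, hA, map_mul]
      B_mul := fun g h hg hh => by
        obtain ⟨a, rfl⟩ := sB g hg
        obtain ⟨b, rfl⟩ := sB h hh
        rw [← map_mul, hB, hB, hB, map_mul]
      agree := fun g hg hg' => by
        have hg2 : g ∈ (shift (F := F) (q := 2) 1 m N (by omega)).range := by
          rw [mem_range hF]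
          intro j hj
          rcases (show (j : ℕ) = 0 ∨ (j : ℕ) = m + 1 by omega) with h0 | h1
          · rw [show j = (0 : Fin (m + 1 + 1)) from Fin.ext h0]
            exact (smul_sv_iff hF g _).1 hg
          · rw [show j = Fin.last (m + 1) from Fin.ext h1]
            exact (smul_sv_iff hF g _).1 hg'
        obtain ⟨a, rfl⟩ := hg2
        have h1 : shift 1 m N (by omega) a = shift 1 (m + 1) N (by omega) (shift 0 m (m + 1) (by omega) a) := by
          rw [shift_comp]
        have h2 : shift 1 m N (by omega) a = shift 0 (m + 1) N (by omega) (shift 1 m (m + 1) (by omega) a) := by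
          rw [shift_comp]
        rw [congrArg A h1, congrArg B h2, hA, hB]
        exact DFunLike.congr_fun agree_mid a
      gen := by
        refine le_trans (le_of_eq (stab_last hF)) ?_
        have htop : (shift (F := F) (q := 2) 1 m (m + 1) (by omega)).range ⊔
            (shift (F := F) (q := 2) 0 m (m + 1) (by omega)).range = ⊤ := by
          rw [← stab_first hF, ← stab_last hF]
          exact stab_sup hF (by omega) (perp_sv hF (by simp [Fin.ext_iff]; omega))
        rw [MonoidHom.range_eq_map, ← htop, Subgroup.map_sup]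
        refine sup_le_sup ?_ ?_
        · rintro _ ⟨_, ⟨a, rfl⟩, rfl⟩
          refine ⟨(smul_sv_iff hF _ _).2 ?_, (smul_sv_iff hF _ _).2 ?_⟩ <;> rw [shift_comp] <;>
            refine shift_outside _ a ?_ <;> simp <;> omega
        · rintro _ ⟨_, ⟨a, rfl⟩, rfl⟩
          refine ⟨(smul_sv_iff hF _ _).2 ?_, (smul_sv_iff hF _ _).2 ?_⟩ <;> rw [shift_comp] <;>
            refine shift_outside _ a ?_ <;> simp <;> omega
      top := stab_sup hF (by omega) (perp_sv hF (by simp [Fin.ext_iff]))
      move := fun y hy => by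
        obtain ⟨c, d, hcd⟩ := Submodule.mem_span_pair.1 hy
        set y' : Fin 2 → F := ![d, c] with hy'
        have hy1 : Cfsg.hermForm 2 F 2 y' y' = 1 := by
          have h1 := y.2
          rw [← hcd, hx0, hx1] at h1
          simp only [sv, H_add_left, H_add_right hF, H_smul_left, H_smul_right, H_single_single hF] at h1
          simp [Fin.ext_iff] at h1
          have h2 : y' = d • (Pi.single 0 1 : Fin 2 → F) + c • (Pi.single 1 1 : Fin 2 → F) := by
            funext l
            fin_cases l <;> simp [hy']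
          rw [h2]
          simp only [H_add_left, H_add_right hF, H_smul_left, H_smul_right, H_single_single hF]
          simp
          linear_combination h1
        obtain ⟨g2, hg2⟩ := exists_su_frame hF (f := ![(Pi.single 1 1 : Fin 2 → F)]) (f' := ![y'])
          (by omega) (one_frame (by rw [H_single_single hF, if_pos rfl])) (one_frame hy1)
        have hg2' : mat g2 *ᵥ (Pi.single 1 1 : Fin 2 → F) = y' := hg2 0
        have hh1 : shift m 2 N (by omega) g2 = shift (m - 1) 3 N (by omega) (R3 g2) := by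
          rw [shift_comp, shift_congr (show m - 1 + 1 = m by omega)]
        refine ⟨shift m 2 N (by omega) g2, ?_, ?_, fun g hg0 hg1 => ?_⟩
        · refine (smul_sv_iff hF _ _).2 (shift_outside _ g2 ?_)
          simp
          omega
        · refine Subtype.ext (funext fun j => ?_)
          rw [smul_val, shift_apply, ← hcd]
          by_cases hj : m ≤ (j : ℕ) ∧ (j : ℕ) < m + 2
          · rw [dif_pos hj]
            have e1 : (fun l : Fin 2 => x0.1 ⟨m + l, by omega⟩) = (Pi.single 1 1 : Fin 2 → F) := by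
              funext l
              fin_cases l <;> simp [hx0, sv, Pi.single_apply, Fin.ext_iff]
            rw [e1, hg2']
            rcases (show (j : ℕ) = m ∨ (j : ℕ) = m + 1 by omega) with h0 | h1
            · rw [show (⟨(j : ℕ) - m, by omega⟩ : Fin 2) = 0 from Fin.ext (by simp; omega)]
              simp [hy', hx0, hx1, sv, Pi.single_apply, Fin.ext_iff, h0]
            · rw [show (⟨(j : ℕ) - m, by omega⟩ : Fin 2) = 1 from Fin.ext (by simp; omega)]
              simp [hy', hx0, hx1, sv, Pi.single_apply, Fin.ext_iff, h1]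
          · rw [dif_neg hj]
            have h0 : (j : ℕ) ≠ m := by omega
            have h1 : (j : ℕ) ≠ m + 1 := by omega
            simp [hx0, hx1, sv, Pi.single_apply, Fin.ext_iff, h0, h1]
        · have hg2r : g ∈ (shift (F := F) (q := 2) 0 m N (by omega)).range := by
            rw [mem_range hF]
            intro j hj
            rcases (show (j : ℕ) = m ∨ (j : ℕ) = m + 1 by omega) with h0 | h1
            · rw [show j = (⟨m, by omega⟩ : Fin (m + 1 + 1)) from Fin.ext h0]
              exact (smul_sv_iff hF g _).1 hg1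
            · rw [show j = Fin.last (m + 1) from Fin.ext h1]
              exact (smul_sv_iff hF g _).1 hg0
          obtain ⟨a, rfl⟩ := hg2r
          refine ⟨(shift_commute _ _ (by omega) a g2).symm, ?_⟩
          have hh2 : shift 0 m N (by omega) a = shift 0 (m + 1) N (by omega) (shift 0 m (m + 1) (by omega) a) := by
            rw [shift_comp]
          rw [congrArg A hh1, hlast, congrArg B hh2, hB]
          have hmem := window_le hF ((Subgroup.centralizer {ψ (m - 1) (R3 g2)}).comap Φb) m 0 (by omega) hm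
            (fun j hj _ hj' => by
              rintro _ ⟨b, rfl⟩
              show Φb _ ∈ Subgroup.centralizer _
              rw [hb, Subgroup.mem_centralizer_singleton_iff]
              exact hR j (m - 1) (by omega) (by omega) b g2) ⟨a, rfl⟩
          exact (Subgroup.mem_centralizer_singleton_iff.1 hmem).symm }
  have hM : BaseTwo.Move3 D x2 := by
    refine ⟨perp_sv hF (by simp [Fin.ext_iff]; omega), perp_sv hF (by simp [Fin.ext_iff]; omega),
      perp_sv hF (by simp [Fin.ext_iff]; omega), fun y hy => ?_⟩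
    set y' : Fin 3 → F := fun l => y.1 ⟨m - 1 + l, by omega⟩ with hy'
    have hyz : ∀ j : Fin (m + 1 + 1), (j : ℕ) < m - 1 → y.1 j = 0 := by
      intro j hj
      obtain ⟨c, w, hw, hsum⟩ := Submodule.mem_span_insert.1 hy
      obtain ⟨d, e', hde⟩ := Submodule.mem_span_pair.1 hw
      have h0 : (j : ℕ) ≠ m + 1 := by omega
      have h1 : (j : ℕ) ≠ m := by omega
      have h2 : (j : ℕ) ≠ m - 1 := by omega
      rw [hsum, ← hde]
      simp [D, hx0, hx1, hx2, sv, Pi.single_apply, Fin.ext_iff, h0, h1, h2]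
    have hsplit : y.1 = y' 0 • (Pi.single ⟨m - 1, by omega⟩ 1 : Fin (m + 1 + 1) → F) +
        y' 1 • Pi.single ⟨m, by omega⟩ 1 + y' 2 • Pi.single ⟨m + 1, by omega⟩ 1 := by
      funext j
      by_cases hj : (j : ℕ) < m - 1
      · have h0 : (j : ℕ) ≠ m + 1 := by omega
        have h1 : (j : ℕ) ≠ m := by omega
        have h2 : (j : ℕ) ≠ m - 1 := by omega
        simp [hyz j hj, Pi.single_apply, Fin.ext_iff, h0, h1, h2]
      · rcases (show (j : ℕ) = m - 1 ∨ (j : ℕ) = m ∨ (j : ℕ) = m + 1 by omega) with h | h | h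
        · have h0 : m - 1 ≠ m + 1 := by omega
          have h1 : m - 1 ≠ m := by omega
          simp only [hy', Pi.add_apply, Pi.smul_apply, Pi.single_apply, Fin.ext_iff, h, h0, h1, if_true, if_false,
            smul_eq_mul, mul_one, mul_zero, add_zero]
          exact congrArg y.1 (Fin.ext (by simp [h]))
        · have h0 : m ≠ m + 1 := by omega
          have h1 : m ≠ m - 1 := by omega
          simp only [hy', Pi.add_apply, Pi.smul_apply, Pi.single_apply, Fin.ext_iff, h, h0, h1, if_true, if_false,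
            smul_eq_mul, mul_one, mul_zero, zero_add, add_zero]
          exact congrArg y.1 (Fin.ext (by simp [h]; omega))
        · have h0 : m + 1 ≠ m := by omega
          have h1 : m + 1 ≠ m - 1 := by omega
          simp only [hy', Pi.add_apply, Pi.smul_apply, Pi.single_apply, Fin.ext_iff, h, h0, h1, if_true, if_false,
            smul_eq_mul, mul_one, mul_zero, zero_add]
          exact congrArg y.1 (Fin.ext (by simp [h]; omega))
    have hy1 : Cfsg.hermForm 3 F 2 y' y' = 1 := by
      have h1 := y.2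
      rw [hsplit] at h1
      have e0 : (m - 1 : ℕ) ≠ m := by omega
      have e1 : (m - 1 : ℕ) ≠ m + 1 := by omega
      simp only [H_add_left, H_add_right hF, H_smul_left, H_smul_right, H_single_single hF] at h1
      simp [Fin.ext_iff, e0, e1, Ne.symm e0, Ne.symm e1] at h1
      have h2 : y' = y' 0 • (Pi.single 0 1 : Fin 3 → F) + y' 1 • Pi.single 1 1 + y' 2 • Pi.single 2 1 := by
        funext l
        fin_cases l <;> simp
      rw [h2]
      simp only [H_add_left, H_add_right hF, H_smul_left, H_smul_right, H_single_single hF]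
      simp
      linear_combination h1
    obtain ⟨g3, hg3⟩ := exists_su_frame hF (f := ![(Pi.single 2 1 : Fin 3 → F)]) (f' := ![y'])
      (by omega) (one_frame (by rw [H_single_single hF, if_pos rfl])) (one_frame hy1)
    have hg3' : mat g3 *ᵥ (Pi.single 2 1 : Fin 3 → F) = y' := hg3 0
    refine ⟨shift (m - 1) 3 N (by omega) g3, ?_, ?_, fun g hg0 hg1 hg2 => ?_⟩
    · refine (smul_sv_iff hF _ _).2 (shift_outside _ g3 ?_)
      simp
      omega
    · refine Subtype.ext (funext fun j => ?_)
      rw [smul_val, shift_apply]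
      by_cases hj : m - 1 ≤ (j : ℕ) ∧ (j : ℕ) < m - 1 + 3
      · rw [dif_pos hj]
        have e1 : (fun l : Fin 3 => D.x0.1 ⟨m - 1 + l, by omega⟩) = (Pi.single 2 1 : Fin 3 → F) := by
          funext l
          fin_cases l <;> simp [D, hx0, sv, Pi.single_apply, Fin.ext_iff] <;> omega
        rw [e1, hg3']
        exact congrArg y.1 (Fin.ext (by simp; omega))
      · rw [dif_neg hj, hyz j (by omega)]
        have h0 : (j : ℕ) ≠ m + 1 := by omega
        simp [D, hx0, sv, Pi.single_apply, Fin.ext_iff, h0]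
    · have hgr : g ∈ (shift (F := F) (q := 2) 0 (m - 1) N (by omega)).range := by
        rw [mem_range hF]
        intro j hj
        rcases (show (j : ℕ) = m - 1 ∨ (j : ℕ) = m ∨ (j : ℕ) = m + 1 by omega) with h0 | h1 | h2
        · rw [show j = (⟨m - 1, by omega⟩ : Fin (m + 1 + 1)) from Fin.ext h0]
          exact (smul_sv_iff hF g _).1 hg2
        · rw [show j = (⟨m, by omega⟩ : Fin (m + 1 + 1)) from Fin.ext h1]
          exact (smul_sv_iff hF g _).1 hg1
        · rw [show j = Fin.last (m + 1) from Fin.ext h2]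
          exact (smul_sv_iff hF g _).1 hg0
      obtain ⟨a, rfl⟩ := hgr
      refine ⟨(shift_commute _ _ (by omega) a g3).symm, ?_⟩
      have hh2 : shift 0 (m - 1) N (by omega) a =
          shift 0 (m + 1) N (by omega) (shift 0 (m - 1) (m + 1) (by omega) a) := by rw [shift_comp]
      show A _ * B _ = B _ * A _
      rw [hlast, congrArg B hh2, hB]
      set T : Subgroup (Cfsg.SU (m + 1) F 2) := (Subgroup.centralizer {ψ (m - 1) g3}).comap Φb with hT
      have hmem : shift 0 (m - 1) (m + 1) (by omega) a ∈ T := by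
        by_cases hm3 : m = 3
        · subst hm3
          show Φb _ ∈ Subgroup.centralizer _
          rw [show shift 0 (3 - 1) (3 + 1) _ a = shift 0 3 (3 + 1) (by omega) (L3 a) from (shift_comp (i := 0) (k := 2) (M := 3) (i' := 0) (N := 3 + 1) (by omega) (by omega) a).symm,
            hb, Subgroup.mem_centralizer_singleton_iff]
          exact hL 0 2 le_rfl le_rfl a g3
        · refine window_le hF T (m - 1) 0 (by omega) (by omega) (fun j hj _ hj' => ?_) ⟨a, rfl⟩
          rintro _ ⟨b, rfl⟩
          show Φb _ ∈ Subgroup.centralizer _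
          rw [hb, Subgroup.mem_centralizer_singleton_iff]
          exact h33 j (m - 1) (by omega) (by omega) b g3
      exact (Subgroup.mem_centralizer_singleton_iff.1 hmem).symm
  obtain ⟨Φ, hΦA, hΦB⟩ := BaseTwo.exists_hom hF (by omega) D x2 hM
  refine ⟨Φ, fun i h a => ?_⟩
  rcases Nat.eq_zero_or_pos i with rfl | hi
  · have e1 : shift 0 3 N h a = shift 0 (m + 1) N (by omega) (shift 0 3 (m + 1) (by omega) a) := by
      rw [shift_comp]
    rw [hΦB _ ((smul_sv_iff hF _ _).2 (shift_outside _ a (by simp; omega)))]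
    show B _ = _
    rw [congrArg B e1, hB, hb]
  · have e1 : shift i 3 N h a = shift 1 (m + 1) N (by omega) (shift (i - 1) 3 (m + 1) (by omega) a) := by
      rw [shift_comp, shift_congr (show 1 + (i - 1) = i by omega)]
    rw [hΦA _ ((smul_sv_iff hF _ _).2 (shift_outside _ a (by simp; omega)))]
    show A _ = _
    rw [congrArg A e1, hA, ha]
    congr 2
    omega

/-- Gluing from windows of four coordinates. -/
theorem glue : ∀ N, 4 ≤ N → ∀ ψ : ℕ → Cfsg.SU 3 F 2 →* G,
    (∀ i, i + 4 ≤ N → ∃ φ : Cfsg.SU 4 F 2 →* G, (∀ a, φ (shift 0 3 4 (by omega) a) = ψ i a) ∧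
      ∀ a, φ (shift 1 3 4 (by omega) a) = ψ (i + 1) a) →
    (∀ i k, i + 2 ≤ k → k + 3 ≤ N → ∀ a b, ψ i (L3 a) * ψ k b = ψ k b * ψ i (L3 a)) →
    (∀ i k, i + 2 ≤ k → k + 3 ≤ N → ∀ a b, ψ i a * ψ k (R3 b) = ψ k (R3 b) * ψ i a) →
    (∀ i k, i + 3 ≤ k → k + 3 ≤ N → ∀ a b, ψ i a * ψ k b = ψ k b * ψ i a) →
    ∃ Φ : Cfsg.SU N F 2 →* G, ∀ i (h : i + 3 ≤ N) a, Φ (shift i 3 N h a) = ψ i a
  | 0, hn, _, _, _, _, _ => absurd hn (by omega)
  | 1, hn, _, _, _, _, _ => absurd hn (by omega)
  | m + 1 + 1, hn, ψ, hfour, hL, hR, h33 => by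
    by_cases hm : m = 2
    · subst hm
      obtain ⟨φ, h0, h1⟩ := hfour 0 (by omega)
      refine ⟨φ, fun i h a => ?_⟩
      rcases (show i = 0 ∨ i = 1 by omega) with rfl | rfl
      · exact h0 a
      · exact h1 a
    obtain ⟨Φa, ha⟩ := glue (m + 1) (by omega) (fun i => ψ (i + 1)) (fun i hi => hfour (i + 1) (by omega))
      (fun i k hik hk => hL (i + 1) (k + 1) (by omega) (by omega))
      (fun i k hik hk => hR (i + 1) (k + 1) (by omega) (by omega))
      (fun i k hik hk => h33 (i + 1) (k + 1) (by omega) (by omega))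
    obtain ⟨Φb, hb⟩ := glue (m + 1) (by omega) ψ (fun i hi => hfour i (by omega))
      (fun i k hik hk => hL i k hik (by omega)) (fun i k hik hk => hR i k hik (by omega))
      (fun i k hik hk => h33 i k hik (by omega))
    exact glue_step hF m (by omega) ψ hL hR h33 Φa Φb ha hb

end Cfsg.Agent.Phan.GlueTwo
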