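import Cfsg.Agent.Lib.Phan.Align
import Mathlib

/-!
A weak Phan system of rank at least three is dominated by a special unitary group.
-/

set_option autoImplicit false
set_option linter.unusedSectionVars false
set_option linter.unusedSimpArgs false

namespace Cfsg.Agent.Phan.Main

open Cfsg.Agent.Forms Cfsg.Agent.Classical Cfsg.Agent.Classical.Unitary
open Cfsg.Agent.Phan.Shift Cfsg.Agent.Phan.TwoAut Cfsg.Agent.Phan.Align Cfsg.Agent.Phan.Glue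

universe u v

variable {F : Type u} [Field F] [Fintype F] {q : ℕ} {G : Type v} [Group G]
variable (hF : Fintype.card F = q ^ 2) (hq : 2 < q)
include hF hq

theorem exists_chain (n : ℕ) (hn : 2 ≤ n) (U : Fin n → Subgroup G) (e : ∀ i, ↥(Cfsg.SU 2 F q) ≃* ↥(U i))
    (V : Fin n → Fin n → Subgroup G)
    (h1 : ∀ i j : Fin n, (i : ℕ) + 2 ≤ j → ∀ x ∈ U i, ∀ y ∈ U j, x * y = y * x)
    (h2 : ∀ i j : Fin n, (i : ℕ) + 1 = j → Cfsg.IsStandardUnitaryPair (V i j) (U i) (U j) F q) :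
    ∃ u : ℕ → (Cfsg.SU 2 F q →* G), (∀ i (h : i < n), (u i).range = U ⟨i, h⟩) ∧
      ∀ i (h : i + 1 < n), ∃ ψ : Cfsg.SU 3 F q →* G, ψ.range = V ⟨i, by omega⟩ ⟨i + 1, h⟩ ∧
        (∀ a, ψ (shift 0 2 3 (by omega) a) = u i a) ∧ ∀ a, ψ (shift 1 2 3 (by omega) a) = u (i + 1) a := by
  classical
  have hp : ∀ i : ℕ, ∃ ψ : Cfsg.SU 3 F q →* G, ∀ h : i + 1 < n, ψ.range = V ⟨i, by omega⟩ ⟨i + 1, h⟩ ∧
      (∀ x, ψ x = 1 → x ∈ Subgroup.center (Cfsg.SU 3 F q)) ∧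
      (ψ.comp (shift 0 2 3 (by omega))).range = U ⟨i, by omega⟩ ∧
      Function.Injective (ψ.comp (shift 0 2 3 (by omega))) ∧
      (ψ.comp (shift 1 2 3 (by omega))).range = U ⟨i + 1, h⟩ ∧
      Function.Injective (ψ.comp (shift 1 2 3 (by omega))) := by
    intro i
    by_cases h : i + 1 < n
    · obtain ⟨ψ, hψ⟩ := pair_hom hF (h2 ⟨i, by omega⟩ ⟨i + 1, h⟩ rfl) ⟨e _⟩ ⟨e _⟩
      exact ⟨ψ, fun _ => hψ⟩
    · exact ⟨1, fun h' => absurd h' h⟩
  choose ψ hψ using hp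
  let Good : ℕ → (Cfsg.SU 2 F q →* G) → Prop := fun i v => ∀ h : i < n, v.range = U ⟨i, h⟩ ∧
    Function.Injective v ∧
    ∀ _ : i + 1 < n, ∀ x, Diag x → ∃ s, Diag s ∧ v x = ψ i (shift 0 2 3 (by omega) s)
  have step : ∀ (i : ℕ) (v : {v : Cfsg.SU 2 F q →* G // Good i v}), ∃ w : {w : Cfsg.SU 2 F q →* G // Good (i + 1) w},
      ∀ h : i + 1 < n, ∃ ψ' : Cfsg.SU 3 F q →* G, ψ'.range = V ⟨i, by omega⟩ ⟨i + 1, h⟩ ∧
        (∀ a, ψ' (shift 0 2 3 (by omega) a) = v.1 a) ∧ ∀ a, ψ' (shift 1 2 3 (by omega) a) = w.1 a := by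
    rintro i ⟨v, hv⟩
    by_cases h : i + 1 < n
    · obtain ⟨hV, hker, hA, hAi, hB, hBi⟩ := hψ i h
      obtain ⟨hvr, hvi, hvd⟩ := hv (by omega)
      obtain ⟨ψ', hr', hL, σ, hR⟩ := correct hF hq (hvr.trans hA.symm) hvi hAi (hvd h)
      set T := theta hF σ (fun _ : Fin 2 => 1) (fun _ => one_pow _) with hT
      refine ⟨⟨(MonoidHom.comp ψ' (shift 1 2 3 (by omega))), fun h' => ⟨?_, ?_, fun h'' x hx => ?_⟩⟩,
        fun _ => ⟨ψ', hr'.trans hV, hL, fun a => rfl⟩⟩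
      · rw [← hB, show ψ'.comp (shift 1 2 3 (by omega)) = ((ψ i).comp (shift 1 2 3 (by omega))).comp T from
          MonoidHom.ext hR, MonoidHom.range_comp, MonoidHom.range_eq_top.2 (theta_surjective hF σ _ _),
          ← MonoidHom.range_eq_map]
      · rw [show ψ'.comp (shift 1 2 3 (by omega)) = ((ψ i).comp (shift 1 2 3 (by omega))).comp T from
          MonoidHom.ext hR]
        exact hBi.comp (theta_injective hF σ _ _)
      · obtain ⟨-, hker', hA', hAi', hB', -⟩ := hψ (i + 1) h''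
        have hTx : Diag (T x) := by
          show mat (theta hF σ _ _ x) 0 1 = 0
          rw [theta_entry, show mat x 0 1 = 0 from hx, map_zero]
          ring
        obtain ⟨s, hs, es⟩ := torus_align hF hq hker' hBi hAi' (hB.trans hA'.symm) (fun a b =>
          h1 ⟨i, by omega⟩ ⟨i + 1 + 1, h''⟩ (by show i + 2 ≤ i + 1 + 1; omega) _
            (by rw [← hA]; exact ⟨a, rfl⟩) _ (by rw [← hB']; exact ⟨b, rfl⟩)) (T x) hTx
        exact ⟨s, hs, (hR x).trans es⟩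
    · exact ⟨⟨1, fun h' => absurd h' h⟩, fun h' => absurd h' h⟩
  choose next hnext using step
  have h0 : Good 0 ((ψ 0).comp (shift 0 2 3 (by omega))) := fun h => by
    obtain ⟨-, -, hA, hAi, -, -⟩ := hψ 0 (by omega)
    exact ⟨hA, hAi, fun _ x hx => ⟨x, hx, rfl⟩⟩
  let w : (i : ℕ) → {v : Cfsg.SU 2 F q →* G // Good i v} := fun i => Nat.rec ⟨_, h0⟩ (fun j v => next j v) i
  exact ⟨fun i => (w i).1, fun i h => ((w i).2 h).1, fun i h => hnext i (w i) h⟩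

theorem surj (hq3 : 3 < q) (n : ℕ) (hn : 3 ≤ n) (U : Fin n → Subgroup G) (e : ∀ i, ↥(Cfsg.SU 2 F q) ≃* ↥(U i))
    (V : Fin n → Fin n → Subgroup G)
    (h1 : ∀ i j : Fin n, (i : ℕ) + 2 ≤ j → ∀ x ∈ U i, ∀ y ∈ U j, x * y = y * x)
    (h2 : ∀ i j : Fin n, (i : ℕ) + 1 = j → Cfsg.IsStandardUnitaryPair (V i j) (U i) (U j) F q)
    (hgen : (⨆ i, U i) ⊔ (⨆ (i : Fin n) (j : Fin n) (_ : (i : ℕ) + 1 = j), V i j) = ⊤) :
    ∃ f : ↥(Cfsg.SU (n + 1) F q) →* G, Function.Surjective f := by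
  obtain ⟨u, hu, hpair⟩ := exists_chain hF hq n (by omega) U e V h1 h2
  obtain ⟨Φ, hΦ⟩ := glue hF hq hq3 n (by omega) u
    (fun i hi => by obtain ⟨ψ, -, a, b⟩ := hpair i hi; exact ⟨ψ, a, b⟩)
    (fun i j hij hj a b => h1 ⟨i, by omega⟩ ⟨j, hj⟩ hij (u i a) (by rw [← hu i (by omega)]; exact ⟨a, rfl⟩)
      (u j b) (by rw [← hu j hj]; exact ⟨b, rfl⟩))
  refine ⟨Φ, MonoidHom.range_eq_top.1 (top_le_iff.1 (hgen ▸ sup_le (iSup_le fun i => ?_)
    (iSup_le fun i => iSup_le fun j => iSup_le fun hij => ?_)))⟩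
  · rintro x hx
    have hx' : x ∈ (u i.1).range := by rw [hu i.1 i.2]; exact hx
    obtain ⟨a, rfl⟩ := hx'
    exact ⟨_, hΦ i.1 (by omega) a⟩
  · obtain ⟨ψ, hr, hL, hR⟩ := hpair i.1 (by omega)
    have hji : j = ⟨i.1 + 1, by omega⟩ := Fin.ext hij.symm
    intro x hx
    rw [hji, show V i ⟨i.1 + 1, by omega⟩ = ψ.range from hr.symm] at hx
    obtain ⟨a, rfl⟩ := hx
    have e2 : ψ = Φ.comp (shift (i : ℕ) 3 (n + 1) (by omega)) := by
      refine hom_ext hF hq (by omega) fun k hk b => ?_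
      rw [MonoidHom.comp_apply, shift_comp, hΦ]
      rcases (show k = 0 ∨ k = 1 by omega) with rfl | rfl
      · exact hL b
      · exact hR b
    rw [e2]
    exact ⟨_, rfl⟩

end Cfsg.Agent.Phan.Main
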