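import Cfsg.Agent.Lib.Phan.Main
import Cfsg.Agent.Lib.Phan.FourTriple
import Mathlib

/-!
A weak Phan system over the field with nine elements, with consecutive triples dominated by `SU₄`,
is dominated by a special unitary group.
-/

set_option autoImplicit false
set_option linter.unusedSectionVars false
set_option linter.unusedSimpArgs false

namespace Cfsg.Agent.Phan.MainThree

open Cfsg.Agent.Forms Cfsg.Agent.Classical Cfsg.Agent.Classical.Unitary
open Cfsg.Agent.Phan.Shift Cfsg.Agent.Phan.Glue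

universe u v

variable {F : Type u} [Field F] [Fintype F] {G : Type v} [Group G]
variable (hF : Fintype.card F = 3 ^ 2)
include hF

theorem surj (n : ℕ) (hn : 4 ≤ n) (U : Fin n → Subgroup G) (e : ∀ i, ↥(Cfsg.SU 2 F 3) ≃* ↥(U i))
    (V : Fin n → Fin n → Subgroup G)
    (h1 : ∀ i j : Fin n, (i : ℕ) + 2 ≤ j → ∀ x ∈ U i, ∀ y ∈ U j, x * y = y * x)
    (h2 : ∀ i j : Fin n, (i : ℕ) + 1 = j → Cfsg.IsStandardUnitaryPair (V i j) (U i) (U j) F 3)
    (hgen : (⨆ i, U i) ⊔ (⨆ (i : Fin n) (j : Fin n) (_ : (i : ℕ) + 1 = j), V i j) = ⊤)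
    (h4 : ∀ i j k : Fin n, (i : ℕ) + 1 = j → (j : ℕ) + 1 = k →
      ∃ g : ↥(Cfsg.SU 4 F 3) →* ↥(V i j ⊔ V j k), Function.Surjective g) :
    ∃ f : ↥(Cfsg.SU (n + 1) F 3) →* G, Function.Surjective f := by
  classical
  have hq : 2 < 3 := by norm_num
  obtain ⟨u, hu, hpair⟩ := Main.exists_chain hF hq n (by omega) U e V h1 h2
  have hinj : ∀ i, i < n → Function.Injective (u i) := by
    intro i h
    have hb : Function.Bijective (u i).rangeRestrict := by
      rw [Nat.bijective_iff_surjective_and_card]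
      exact ⟨(u i).rangeRestrict_surjective, by rw [hu i h]; exact Nat.card_congr (e ⟨i, h⟩).toEquiv⟩
    exact fun a b hab => hb.1 (Subtype.ext hab)
  have hcomm : ∀ i j, i + 2 ≤ j → j < n → ∀ a b, u i a * u j b = u j b * u i a := fun i j hij hj a b =>
    h1 ⟨i, by omega⟩ ⟨j, hj⟩ hij (u i a) (by rw [← hu i (by omega)]; exact ⟨a, rfl⟩)
      (u j b) (by rw [← hu j hj]; exact ⟨b, rfl⟩)
  obtain ⟨Φ, hΦ⟩ := glue_four hF hq n (by omega) u (fun i hi => by
    obtain ⟨ψ, hr, hL, hR⟩ := hpair i (by omega)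
    obtain ⟨ψ', hr', hL', hR'⟩ := hpair (i + 1) (by omega)
    obtain ⟨g, hg⟩ := h4 ⟨i, by omega⟩ ⟨i + 1, by omega⟩ ⟨i + 1 + 1, hi⟩ rfl rfl
    have hgr : ((Subgroup.subtype _).comp g).range = ψ.range ⊔ ψ'.range := by
      rw [MonoidHom.range_comp, MonoidHom.range_eq_top.2 hg, ← MonoidHom.range_eq_map, Subgroup.range_subtype,
        hr, hr']
    obtain ⟨φ, f0, f1, f2⟩ := FourTriple.exists_four hF hL hR hL' hR' (hinj i (by omega)) (hinj (i + 1) (by omega))
      (hcomm i (i + 1 + 1) (by omega) hi) hgr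
    refine ⟨φ, fun k hk a => ?_⟩
    rcases (show k = 0 ∨ k = 1 ∨ k = 2 by omega) with rfl | rfl | rfl
    · exact f0 a
    · exact f1 a
    · exact f2 a) hcomm
  refine ⟨Φ, MonoidHom.range_eq_top.1 (top_le_iff.1 (hgen ▸ sup_le (iSup_le fun i => ?_)
    (iSup_le fun i => iSup_le fun j => iSup_le fun hij => ?_)))⟩
  · rintro x hx
    have hx' : x ∈ (u i.1).range := by rw [hu i.1 i.2]; exact hx
    obtain ⟨a, rfl⟩ := hx'
    exact ⟨_, hΦ i.1 (by omega) a⟩
  · obtain ⟨ψ, hr, hL, hR⟩ := hpair i.1 (by omega)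
    have hji : j = ⟨i.1 + 1, by omega⟩ := Fin.ext hij.symm
    intro x hx
    rw [hji, show V i ⟨i.1 + 1, by omega⟩ = ψ.range from hr.symm] at hx
    obtain ⟨a, rfl⟩ := hx
    have e2 : ψ = Φ.comp (shift (i : ℕ) 3 (n + 1) (by omega)) := by
      refine hom_ext hF hq (by omega) fun k hk b => ?_
      rw [MonoidHom.comp_apply, shift_comp, hΦ]
      rcases (show k = 0 ∨ k = 1 by omega) with rfl | rfl
      · exact hL b
      · exact hR b
    rw [e2]
    exact ⟨_, rfl⟩

end Cfsg.Agent.Phan.MainThree
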