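import Cfsg.Agent.Lib.Phan.GlueTwo
import Cfsg.Agent.Lib.Phan.Align
import Mathlib

/-!
A weak Phan system over the field with four elements is dominated by a special unitary group, given aligned
maps on the pairs and on the triples.
-/

set_option autoImplicit false
set_option linter.unusedSectionVars false
set_option linter.unusedSimpArgs false

namespace Cfsg.Agent.Phan.MainTwo

open Cfsg.Agent.Forms Cfsg.Agent.Classical Cfsg.Agent.Classical.Unitary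
open Cfsg.Agent.Phan.Shift

universe u v

variable {F : Type u} [Field F] [Fintype F] {G : Type v} [Group G]
variable (hF : Fintype.card F = 2 ^ 2)
include hF

theorem surj_of (n : ℕ) (hn : 4 ≤ n) (U : Fin n → Subgroup G)
    (V : Fin n → Fin n → Subgroup G)
    (hgen : (⨆ i, U i) ⊔ (⨆ (i : Fin n) (j : Fin n) (_ : (i : ℕ) + 1 = j), V i j) = ⊤)
    (h5 : ∀ i j k : Fin n, (j : ℕ) + 1 = k → ((i : ℕ) + 2 ≤ j ∨ (k : ℕ) + 2 ≤ i) →
      ∀ x ∈ U i, ∀ y ∈ V j k, x * y = y * x)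
    (h6 : ∀ i j k l : Fin n, (i : ℕ) + 1 = j → (k : ℕ) + 1 = l → (j : ℕ) + 2 ≤ k →
      ∀ x ∈ V i j, ∀ y ∈ V k l, x * y = y * x)
    (ψ : ℕ → Cfsg.SU 3 F 2 →* G)
    (hψ : ∀ i (h : i + 1 < n), (ψ i).range = V ⟨i, by omega⟩ ⟨i + 1, h⟩ ∧
      ((ψ i).comp (shift 0 2 3 (by omega))).range = U ⟨i, by omega⟩ ∧
      ((ψ i).comp (shift 1 2 3 (by omega))).range = U ⟨i + 1, h⟩)
    (hfour : ∀ i, i + 4 ≤ n + 1 → ∃ φ : Cfsg.SU 4 F 2 →* G, (∀ a, φ (shift 0 3 4 (by omega) a) = ψ i a) ∧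
      ∀ a, φ (shift 1 3 4 (by omega) a) = ψ (i + 1) a) :
    ∃ f : ↥(Cfsg.SU (n + 1) F 2) →* G, Function.Surjective f := by
  obtain ⟨Φ, hΦ⟩ := GlueTwo.glue hF (n + 1) (by omega) ψ hfour
    (fun i k hik hk a b => by
      obtain ⟨-, hU, -⟩ := hψ i (by omega)
      obtain ⟨hV, -, -⟩ := hψ k (by omega)
      exact h5 ⟨i, by omega⟩ ⟨k, by omega⟩ ⟨k + 1, by omega⟩ rfl (Or.inl hik) _
        (by rw [← hU]; exact ⟨a, rfl⟩) _ (by rw [← hV]; exact ⟨b, rfl⟩))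
    (fun i k hik hk a b => by
      obtain ⟨hV, -, -⟩ := hψ i (by omega)
      obtain ⟨-, -, hU⟩ := hψ k (by omega)
      exact (h5 ⟨k + 1, by omega⟩ ⟨i, by omega⟩ ⟨i + 1, by omega⟩ rfl (Or.inr (by simp; omega)) _
        (by rw [← hU]; exact ⟨b, rfl⟩) _ (by rw [← hV]; exact ⟨a, rfl⟩)).symm)
    (fun i k hik hk a b => by
      obtain ⟨hV, -, -⟩ := hψ i (by omega)
      obtain ⟨hV', -, -⟩ := hψ k (by omega)
      exact h6 ⟨i, by omega⟩ ⟨i + 1, by omega⟩ ⟨k, by omega⟩ ⟨k + 1, by omega⟩ rfl rfl (by simp; omega) _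
        (by rw [← hV]; exact ⟨a, rfl⟩) _ (by rw [← hV']; exact ⟨b, rfl⟩))
  have hle : ∀ i (h : i + 1 < n), (ψ i).range ≤ Φ.range := by
    rintro i h _ ⟨a, rfl⟩
    exact ⟨_, hΦ i (by omega) a⟩
  refine ⟨Φ, MonoidHom.range_eq_top.1 (top_le_iff.1 (hgen ▸ sup_le (iSup_le fun i => ?_)
    (iSup_le fun i => iSup_le fun j => iSup_le fun hij => ?_)))⟩
  · by_cases hi : i.1 + 1 < n
    · obtain ⟨-, hU, -⟩ := hψ i.1 hi
      refine le_trans ?_ (hle i.1 hi)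
      show U ⟨i.1, i.2⟩ ≤ _
      rw [← hU, MonoidHom.range_comp]
      exact Subgroup.map_le_range _ _
    · obtain ⟨-, -, hU⟩ := hψ (i.1 - 1) (by omega)
      refine le_trans ?_ (hle (i.1 - 1) (by omega))
      rw [show i = ⟨i.1 - 1 + 1, by omega⟩ from Fin.ext (by simp; omega), ← hU, MonoidHom.range_comp]
      exact Subgroup.map_le_range _ _
  · obtain ⟨hV, -, -⟩ := hψ i.1 (by omega)
    have hji : j = ⟨i.1 + 1, by omega⟩ := Fin.ext hij.symm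
    rw [hji, ← hV]
    exact hle i.1 (by omega)

end Cfsg.Agent.Phan.MainTwo
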