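import Cfsg.Agent.Lib.Phan.OrthTwo
import Cfsg.Agent.Lib.Phan.Align
import Mathlib

/-!
Over the field with four elements, the pairs of a weak Phan system are copies of `SU₃` and can be aligned.
-/

set_option autoImplicit false
set_option linter.unusedSectionVars false
set_option linter.unusedSimpArgs false

namespace Cfsg.Agent.Phan.TwoChain

open Matrix
open Cfsg.Agent.Forms Cfsg.Agent.Classical Cfsg.Agent.Classical.Unitary
open Cfsg.Agent.SimpleFacts.SUMult Blocks CosetGeom
open Cfsg.Agent.Phan.Shift Cfsg.Agent.Phan.TwoAut Cfsg.Agent.Phan.Align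

universe u v

variable {F : Type u} [Field F] [Fintype F] {G : Type v} [Group G] (hF : Fintype.card F = 2 ^ 2)

local notation "S2" => Cfsg.SU 2 F 2
local notation "S3" => Cfsg.SU 3 F 2
local notation "L3" => shift (F := F) (q := 2) 0 2 3 (by omega)
local notation "R3" => shift (F := F) (q := 2) 1 2 3 (by omega)

include hF

theorem exists_omega : ∃ w : F, w ≠ 0 ∧ w ≠ 1 ∧ w * w = w + 1 ∧ w ^ 3 = 1 ∧
    ∀ a : F, a ≠ 0 → a = 1 ∨ a = w ∨ a = w * w := by
  classical
  have h2 := OrthTwo.two_zero hF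
  obtain ⟨w, hw⟩ : ∃ w : F, w ∉ ({0, 1} : Finset F) := Finset.exists_mem_notMem_of_card_lt_card
    (t := Finset.univ) (s := {0, 1}) (by rw [Finset.card_univ, hF]; exact Finset.card_le_two.trans_lt (by norm_num))
    |>.imp fun _ h => h.2
  simp only [Finset.mem_insert, Finset.mem_singleton, not_or] at hw
  have h3 : w ^ 3 = 1 := by
    have h := FiniteField.pow_card_sub_one_eq_one w hw.1
    rwa [hF] at h
  have hww : w * w = w + 1 := by
    have h : (w - 1) * (w * w + w + 1) = 0 := by linear_combination h3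
    linear_combination ((mul_eq_zero.1 h).resolve_left (sub_ne_zero.2 hw.2)) - (w + 1) * h2
  refine ⟨w, hw.1, hw.2, hww, h3, fun a ha => ?_⟩
  have ha3 : a ^ 3 = 1 := by
    have h := FiniteField.pow_card_sub_one_eq_one a ha
    rwa [hF] at h
  have h : (a - 1) * ((a - w) * (a - w * w)) = 0 := by
    linear_combination ha3 + (a - 1) * a * (-hww) + (a - 1) * (h3 - a * (w + 1) * h2)
  rcases mul_eq_zero.1 h with h | h
  · exact Or.inl (sub_eq_zero.1 h)
  rcases mul_eq_zero.1 h with h | h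
  · exact Or.inr (Or.inl (sub_eq_zero.1 h))
  · exact Or.inr (Or.inr (sub_eq_zero.1 h))

/-- The group is monomial. -/
theorem mono (x : S2) : (mat x 0 1 = 0 ∧ mat x 0 0 ≠ 0) ∨ (mat x 0 0 = 0 ∧ mat x 0 1 ≠ 0) := by
  obtain ⟨-, -, -, hn⟩ := shape hF x
  rw [← pow_succ', ← pow_succ'] at hn
  rcases OrthTwo.cube_cases hF (mat x 0 0) with h | h <;> rcases OrthTwo.cube_cases hF (mat x 0 1) with h' | h' <;>
    rw [h, h'] at hn
  · simp at hn
  · exact Or.inr ⟨(pow_eq_zero_iff (by norm_num)).1 h, ne_of_norm hF h'⟩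
  · exact Or.inl ⟨(pow_eq_zero_iff (by norm_num)).1 h', ne_of_norm hF h⟩
  · exact absurd (show (1 : F) = 0 by linear_combination hn) one_ne_zero

theorem entries (x : S2) : mat x 1 1 = mat x 0 0 ^ 2 ∧ mat x 1 0 = mat x 0 1 ^ 2 := by
  obtain ⟨h1, h2, -, -⟩ := shape hF x
  exact ⟨h1, by linear_combination h2 - mat x 0 1 ^ 2 * OrthTwo.two_zero hF⟩

theorem mul_entries (x y : S2) :
    mat (x * y) 0 0 = mat x 0 0 * mat y 0 0 + mat x 0 1 * mat y 0 1 ^ 2 ∧
    mat (x * y) 0 1 = mat x 0 0 * mat y 0 1 + mat x 0 1 * mat y 0 0 ^ 2 := by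
  obtain ⟨a, b⟩ := entries hF y
  rw [mat_mul]
  constructor <;> simp [Matrix.mul_apply, Fin.sum_univ_two, a, b]

/-- An element of order dividing three is diagonal. -/
theorem diag_of_cube {z : S2} (h : z * z * z = 1) : mat z 0 1 = 0 := by
  rcases mono hF z with h' | ⟨h0, h1⟩
  · exact h'.1
  exfalso
  have hz : z * z = 1 := by
    have e := mul_entries hF z z
    rw [h0] at e
    refine ext_two hF (e.1.trans ?_) (e.2.trans ?_)
    · rw [mat_one, Matrix.one_apply_eq]
      rcases OrthTwo.cube_cases hF (mat z 0 1) with h2 | h2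
      · exact absurd ((pow_eq_zero_iff (by norm_num)).1 h2) h1
      · linear_combination h2
    · rw [mat_one, Matrix.one_apply_ne (by decide)]; ring
  rw [hz, one_mul] at h
  rw [h, mat_one, Matrix.one_apply_ne (by decide)] at h1
  exact h1 rfl

/-- Injective endomorphisms are diagonal conjugations after field automorphisms. -/
theorem exists_aut (φ : S2 →* S2) (hφ : Function.Injective φ) :
    ∃ (σ : F ≃+* F) (c : F) (hd : ∀ i, (![c, 1] : Fin 2 → F) i ^ (2 + 1) = 1),
      ∀ x, φ x = theta hF σ ![c, 1] hd x := by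
  obtain ⟨w, hw0, hw1, hww, hw3, hall⟩ := exists_omega hF
  have h2 := OrthTwo.two_zero hF
  have : CharP F 2 := (CharP.charP_iff_prime_eq_zero Nat.prime_two).2 (by exact_mod_cast h2)
  have : Fact (Nat.Prime 2) := ⟨Nat.prime_two⟩
  obtain ⟨t, t0, t1⟩ := exists_mk hF (q := 2) (x := w) (y := 0) (by linear_combination hw3)
  obtain ⟨s, s0, s1⟩ := exists_mk hF (q := 2) (x := 0) (y := 1) (by norm_num)
  have ht3 : t * t * t = 1 := by
    obtain ⟨a, b⟩ := mul_entries hF t t
    obtain ⟨a', b'⟩ := mul_entries hF (t * t) t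
    rw [t0, t1] at a b a' b'
    rw [a, b] at a' b'
    refine ext_two hF (a'.trans ?_) (b'.trans ?_)
    · rw [mat_one, Matrix.one_apply_eq]; linear_combination hw3
    · rw [mat_one, Matrix.one_apply_ne (by decide)]; ring
  have hT1 : mat (φ t) 0 1 = 0 := diag_of_cube hF (by rw [← map_mul, ← map_mul, ht3, map_one])
  have hT0 : mat (φ t) 0 0 ≠ 0 := (mono hF (φ t)).elim (fun h => h.2) fun h => absurd hT1 h.2
  have hne : mat (φ t) 0 0 ≠ 1 := fun h => hw1 (by
    have : t = 1 := hφ (by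
      rw [map_one]
      exact ext_two hF (by rw [h, mat_one, Matrix.one_apply_eq]) (by rw [hT1, mat_one, Matrix.one_apply_ne (by decide)]))
    rw [← t0, this, mat_one, Matrix.one_apply_eq])
  obtain ⟨σ, hσ⟩ : ∃ σ : F ≃+* F, σ w = mat (φ t) 0 0 := by
    rcases ((hall _ hT0).resolve_left hne) with h | h
    · exact ⟨RingEquiv.refl F, h.symm⟩
    · exact ⟨frobeniusEquiv F 2, by rw [frobeniusEquiv_apply, frobenius_def, h]; ring⟩
  have hS0 : mat (φ s) 0 0 = 0 := by
    rcases mono hF (φ s) with ⟨h, h'⟩ | h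
    swap
    · exact h.1
    exfalso
    have hss : s * s = 1 := by
      obtain ⟨a, b⟩ := mul_entries hF s s
      rw [s0, s1] at a b
      refine ext_two hF (a.trans ?_) (b.trans ?_)
      · rw [mat_one, Matrix.one_apply_eq]; ring
      · rw [mat_one, Matrix.one_apply_ne (by decide)]; ring
    obtain ⟨a, -⟩ := mul_entries hF (φ s) (φ s)
    rw [← map_mul, hss, map_one, mat_one, Matrix.one_apply_eq, h, zero_mul, add_zero] at a
    have h1 : mat (φ s) 0 0 = 1 := by
      have : (mat (φ s) 0 0 - 1) * (mat (φ s) 0 0 - 1) = 0 := by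
        linear_combination -a - (mat (φ s) 0 0 - 1) * h2
      exact sub_eq_zero.1 (mul_self_eq_zero.1 this)
    have : s = 1 := hφ (by
      rw [map_one]
      exact ext_two hF (by rw [h1, mat_one, Matrix.one_apply_eq]) (by rw [h, mat_one, Matrix.one_apply_ne (by decide)]))
    rw [this, mat_one, Matrix.one_apply_eq] at s0
    exact one_ne_zero s0
  set c := mat (φ s) 0 1 with hc
  have hc3 : c ^ (2 + 1) = 1 := (OrthTwo.cube_cases hF c).resolve_left fun h => by
    have hc0 : c = 0 := (pow_eq_zero_iff (by norm_num)).1 h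
    rcases mono hF (φ s) with h' | h'
    · exact h'.2 hS0
    · exact h'.2 hc0
  have hd : ∀ i, (![c, 1] : Fin 2 → F) i ^ (2 + 1) = 1 := fun i => by fin_cases i <;> simp [hc3]
  refine ⟨σ, c, hd, fun x => ?_⟩
  have key : ∀ d : S2, mat d 0 1 = 0 → mat (φ d) 0 1 = 0 ∧ mat (φ d) 0 0 = σ (mat d 0 0) := by
    intro d hd1
    have hd0 : mat d 0 0 ≠ 0 := (mono hF d).elim (fun h => h.2) fun h => absurd hd1 h.2
    obtain ⟨a, b⟩ := mul_entries hF t t
    rw [t0, t1] at a b
    obtain ⟨a', b'⟩ := mul_entries hF (φ t) (φ t)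
    rw [← map_mul, hT1, ← hσ] at a' b'
    rcases hall _ hd0 with h | h | h
    · rw [show d = 1 from ext_two hF (by rw [h, mat_one, Matrix.one_apply_eq])
        (by rw [hd1, mat_one, Matrix.one_apply_ne (by decide)]), map_one, mat_one, Matrix.one_apply_eq,
        Matrix.one_apply_ne (by decide), map_one]
      exact ⟨rfl, rfl⟩
    · rw [show d = t from ext_two hF (h.trans t0.symm) (hd1.trans t1.symm), t0, hσ]
      exact ⟨hT1, rfl⟩
    · rw [show d = t * t from ext_two hF (h.trans (by rw [a]; ring)) (hd1.trans (by rw [b]; ring))]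
      refine ⟨by rw [b']; ring, ?_⟩
      rw [a', a]
      simp
  have hth0 : mat (theta hF σ ![c, 1] hd x) 0 0 = σ (mat x 0 0) := by
    rw [theta_entry]
    show c * σ (mat x 0 0) * c⁻¹ = _
    field_simp [ne_of_norm hF hc3]
  have hth1 : mat (theta hF σ ![c, 1] hd x) 0 1 = c * σ (mat x 0 1) := by
    rw [theta_entry]
    show c * σ (mat x 0 1) * (1 : F)⁻¹ = _
    rw [inv_one, mul_one]
  rcases mono hF x with ⟨h1, h0⟩ | ⟨h0, h1⟩
  · obtain ⟨e1, e0⟩ := key x h1
    exact ext_two hF (e0.trans hth0.symm) (e1.trans (by rw [hth1, h1, map_zero, mul_zero]))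
  · obtain ⟨d, d0, d1⟩ := exists_mk hF (q := 2) (x := mat x 0 1) (y := 0) (by
      rcases OrthTwo.cube_cases hF (mat x 0 1) with h | h
      · exact absurd ((pow_eq_zero_iff (by norm_num)).1 h) h1
      · linear_combination h)
    obtain ⟨e1, e0⟩ := key d d1
    obtain ⟨a, b⟩ := mul_entries hF d s
    rw [d0, d1, s0, s1] at a b
    obtain ⟨a', b'⟩ := mul_entries hF (φ d) (φ s)
    rw [← map_mul, e1, e0, d0, hS0, show d * s = x from ext_two hF (a.trans (by rw [h0]; ring)) (b.trans (by ring))]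
      at a' b'
    exact ext_two hF (a'.trans (by rw [hth0, h0, map_zero]; ring)) (b'.trans (by rw [hth1]; ring))

theorem theta_left (σ : F ≃+* F) (c : F) (hd : ∀ i, (![c, 1] : Fin 2 → F) i ^ (2 + 1) = 1)
    (hd' : ∀ i, (![c, 1, 1] : Fin 3 → F) i ^ (2 + 1) = 1) (x : S2) :
    theta hF σ ![c, 1, 1] hd' (L3 x) = L3 (theta hF σ ![c, 1] hd x) := by
  refine su_ext_entries fun i j => ?_
  rw [theta_entry, left_entries, left_entries]
  have hc0 : c ≠ 0 := ne_of_norm hF (hd' 0)
  fin_cases i <;> fin_cases j <;> simp [theta_entry, hc0]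

theorem theta_right (σ : F ≃+* F) (c : F) (hd' : ∀ i, (![c, 1, 1] : Fin 3 → F) i ^ (2 + 1) = 1) (x : S2) :
    theta hF σ ![c, 1, 1] hd' (R3 x) = R3 (theta hF σ (fun _ => 1) (fun _ => one_pow _) x) := by
  refine su_ext_entries fun i j => ?_
  rw [theta_entry, right_entries, right_entries]
  have hc0 : c ≠ 0 := ne_of_norm hF (hd' 0)
  fin_cases i <;> fin_cases j <;> simp [theta_entry, hc0]

/-- The aligned chain. -/
theorem exists_chain (n : ℕ) (hn : 4 ≤ n) (U : Fin n → Subgroup G) (e : ∀ i, ↥(Cfsg.SU 2 F 2) ≃* ↥(U i))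
    (V : Fin n → Fin n → Subgroup G)
    (h1 : ∀ i j : Fin n, (i : ℕ) + 2 ≤ j → ∀ x ∈ U i, ∀ y ∈ U j, x * y = y * x)
    (h2 : ∀ i j : Fin n, (i : ℕ) + 1 = j → Cfsg.IsStandardUnitaryPair (V i j) (U i) (U j) F 2) :
    ∃ ψ : ℕ → S3 →* G, ∀ i (h : i + 1 < n), Function.Injective (ψ i) ∧
      (ψ i).range = V ⟨i, by omega⟩ ⟨i + 1, h⟩ ∧ ((ψ i).comp L3).range = U ⟨i, by omega⟩ ∧
      ((ψ i).comp R3).range = U ⟨i + 1, h⟩ ∧
      (i + 2 < n → ∀ a, ψ (i + 1) (L3 a) = ψ i (R3 a)) := by
  classical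
  obtain ⟨w, hw0, hw1, hww, hw3, hall⟩ := exists_omega hF
  have hp : ∀ i : ℕ, ∃ ψ : S3 →* G, ∀ h : i + 1 < n, ψ.range = V ⟨i, by omega⟩ ⟨i + 1, h⟩ ∧
      (∀ x, ψ x = 1 → x ∈ Subgroup.center S3) ∧
      (ψ.comp L3).range = U ⟨i, by omega⟩ ∧ Function.Injective (ψ.comp L3) ∧
      (ψ.comp R3).range = U ⟨i + 1, h⟩ ∧ Function.Injective (ψ.comp R3) := by
    intro i
    by_cases h : i + 1 < n
    · obtain ⟨ψ, hψ⟩ := pair_hom hF (h2 ⟨i, by omega⟩ ⟨i + 1, h⟩ rfl) ⟨e _⟩ ⟨e _⟩
      exact ⟨ψ, fun _ => hψ⟩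
    · exact ⟨1, fun h' => absurd h' h⟩
  choose ψ hψ using hp
  have hcen : ∀ z : S3, z ∈ Subgroup.center S3 → ∃ b : F, mat z = b • (1 : Matrix (Fin 3) (Fin 3) F) :=
    fun z hz => (mem_center_iff hF (by norm_num) z).1 hz
  obtain ⟨t, t0, t1⟩ := exists_mk hF (q := 2) (x := w) (y := 0) (by linear_combination hw3)
  obtain ⟨s, s0, s1⟩ := exists_mk hF (q := 2) (x := 0) (y := 1) (by norm_num)
  obtain ⟨t11, t10⟩ := entries hF t
  obtain ⟨s11, s10⟩ := entries hF s
  rw [t0] at t11; rw [t1] at t10; rw [s0] at s11; rw [s1] at s10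
  have ht3 : t * t * t = 1 := by
    obtain ⟨a, b⟩ := mul_entries hF t t
    obtain ⟨a', b'⟩ := mul_entries hF (t * t) t
    rw [t0, t1] at a b a' b'
    rw [a, b] at a' b'
    refine ext_two hF (a'.trans ?_) (b'.trans ?_)
    · rw [mat_one, Matrix.one_apply_eq]; linear_combination hw3
    · rw [mat_one, Matrix.one_apply_ne (by decide)]; ring
  have tne : t ≠ 1 := fun h => hw1 (by rw [← t0, h, mat_one, Matrix.one_apply_eq])
  have hinj : ∀ i (h : i + 1 < n), Function.Injective (ψ i) := by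
    intro i h
    obtain ⟨-, hker, hA, hAi, hB, hBi⟩ := hψ i h
    refine (injective_iff_map_eq_one _).2 fun z hz => ?_
    by_contra hz1
    obtain ⟨b, hb⟩ := hcen z (hker z hz)
    set y := L3 t * (R3 t)⁻¹ with hy
    have hyw : mat y = w • (1 : Matrix (Fin 3) (Fin 3) F) := by
      have : mat (L3 t) = w • mat (R3 t) := by
        rw [left_entries, right_entries]
        ext a c
        fin_cases a <;> fin_cases c <;> simp [t0, t1, t10, t11]
        all_goals first | ring1 | linear_combination -hw3 | linear_combination hw3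
      rw [hy, mat_mul, this, Matrix.smul_mul, ← mat_mul, mul_inv_cancel, mat_one]
    have hb1 : b ≠ 1 := fun h' => hz1 (SU_ext fun x => by rw [mat_one, hb, h', one_smul])
    have hb0 : b ≠ 0 := fun h' => by
      have hd : (mat z).det = 1 := z.1.2
      rw [hb, h', zero_smul, Matrix.det_zero] at hd
      exact zero_ne_one hd
    have hyk : ψ i y = 1 := by
      rcases (hall b hb0).resolve_left hb1 with h' | h'
      · rw [show y = z from SU_ext fun x => by rw [hyw, hb, h']]
        exact hz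
      · rw [show y = z * z from SU_ext fun x => by
          rw [hyw, mat_mul, hb, h', smul_mul_smul_comm, mul_one]
          congr 2
          linear_combination -w * hw3]
        rw [map_mul, hz, one_mul]
    rw [hy, map_mul, map_inv, mul_inv_eq_one] at hyk
    have hcube : ∀ (φ : S2 →* G), Function.Injective φ → ∀ a, φ a = ψ i (L3 t) → mat a 0 1 = 0 ∧ a ≠ 1 := by
      intro φ hφ a ha
      refine ⟨diag_of_cube hF (hφ ?_), fun h' => tne (hAi ?_)⟩
      · rw [map_mul, map_mul, ha, map_one, ← map_mul, ← map_mul, ← map_mul, ← map_mul, ht3, map_one, map_one]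
      · show ψ i (L3 t) = ψ i (L3 1)
        rw [← ha, h', map_one, map_one, map_one]
    by_cases h' : i + 2 < n
    · obtain ⟨-, hker', hA', hAi', hB', -⟩ := hψ (i + 1) h'
      obtain ⟨a, ha⟩ : ψ i (R3 t) ∈ ((ψ (i + 1)).comp L3).range := by rw [hA', ← hB]; exact ⟨t, rfl⟩
      rw [← hyk] at ha
      obtain ⟨a01, ane⟩ := hcube _ hAi' a ha
      have hc := h1 ⟨i, by omega⟩ ⟨i + 1 + 1, h'⟩ le_rfl (ψ i (L3 t)) (by rw [← hA]; exact ⟨t, rfl⟩)
        (ψ (i + 1) (R3 s)) (by rw [← hB']; exact ⟨s, rfl⟩)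
      rw [← ha, MonoidHom.comp_apply, ← map_mul, ← map_mul] at hc
      obtain ⟨k, hk⟩ := hcen _ (hker' ((L3 a * R3 s) * (R3 s * L3 a)⁻¹)
        (by rw [map_mul, map_inv, hc, mul_inv_cancel]))
      have hk' : mat (L3 a * R3 s) = k • mat (R3 s * L3 a) := by
        conv_lhs => rw [show L3 a * R3 s = (L3 a * R3 s) * (R3 s * L3 a)⁻¹ * (R3 s * L3 a) by group]
        rw [mat_mul, hk, Matrix.smul_mul, one_mul]
      obtain ⟨a11, a10⟩ := entries hF a
      rw [a01, zero_pow two_ne_zero] at a10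
      rw [mat_mul, mat_mul, left_entries, right_entries] at hk'
      have e00 := congrFun (congrFun hk' 0) 0
      have e12 := congrFun (congrFun hk' 1) 2
      simp [Matrix.mul_apply, Fin.sum_univ_three, s0, s1, s10, s11, a01, a10, a11] at e00 e12
      have hane : mat a 0 0 ≠ 0 := (mono hF a).elim (fun h => h.2) fun h => absurd a01 h.2
      have hk1 : k = 1 := mul_right_cancel₀ hane (by linear_combination -e00)
      rw [hk1] at e12
      refine ane (ext_two hF ?_ (by rw [a01, mat_one, Matrix.one_apply_ne (by decide)]))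
      rw [mat_one, Matrix.one_apply_eq]
      rcases OrthTwo.cube_cases hF (mat a 0 0) with h3 | h3
      · exact absurd ((pow_eq_zero_iff (by norm_num)).1 h3) hane
      · linear_combination h3 - mat a 0 0 * e12
    · obtain ⟨i', rfl⟩ : ∃ i', i = i' + 1 := ⟨i - 1, by omega⟩
      obtain ⟨-, hker', hA', -, hB', hBi'⟩ := hψ i' (by omega)
      obtain ⟨a, ha⟩ : ψ (i' + 1) (L3 t) ∈ ((ψ i').comp R3).range := by rw [hB', ← hA]; exact ⟨t, rfl⟩
      obtain ⟨a01, ane⟩ := hcube _ hBi' a ha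
      have hc := h1 ⟨i', by omega⟩ ⟨i' + 1 + 1, h⟩ le_rfl (ψ i' (L3 s)) (by rw [← hA']; exact ⟨s, rfl⟩)
        (ψ (i' + 1) (R3 t)) (by rw [← hB]; exact ⟨t, rfl⟩)
      rw [← hyk, ← ha, MonoidHom.comp_apply, ← map_mul, ← map_mul] at hc
      obtain ⟨k, hk⟩ := hcen _ (hker' ((L3 s * R3 a) * (R3 a * L3 s)⁻¹)
        (by rw [map_mul, map_inv, hc, mul_inv_cancel]))
      have hk' : mat (L3 s * R3 a) = k • mat (R3 a * L3 s) := by
        conv_lhs => rw [show L3 s * R3 a = (L3 s * R3 a) * (R3 a * L3 s)⁻¹ * (R3 a * L3 s) by group]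
        rw [mat_mul, hk, Matrix.smul_mul, one_mul]
      obtain ⟨a11, a10⟩ := entries hF a
      rw [a01, zero_pow two_ne_zero] at a10
      rw [mat_mul, mat_mul, left_entries, right_entries] at hk'
      have e22 := congrFun (congrFun hk' 2) 2
      have e01 := congrFun (congrFun hk' 0) 1
      simp [Matrix.mul_apply, Fin.sum_univ_three, s0, s1, s10, s11, a01, a10, a11] at e22 e01
      have hane : mat a 0 0 ≠ 0 := (mono hF a).elim (fun h => h.2) fun h => absurd a01 h.2
      have hk1 : k = 1 := mul_right_cancel₀ (pow_ne_zero 2 hane) (by linear_combination -e22)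
      rw [hk1] at e01
      refine ane (ext_two hF ?_ (by rw [a01, mat_one, Matrix.one_apply_ne (by decide)]))
      rw [mat_one, Matrix.one_apply_eq]
      linear_combination e01
  let Good : ℕ → (S3 →* G) → Prop := fun i v => ∀ h : i + 1 < n, Function.Injective v ∧
    v.range = V ⟨i, by omega⟩ ⟨i + 1, h⟩ ∧ (v.comp L3).range = U ⟨i, by omega⟩ ∧
    (v.comp R3).range = U ⟨i + 1, h⟩
  have step : ∀ (i : ℕ) (v : {v : S3 →* G // Good i v}), ∃ w : {w : S3 →* G // Good (i + 1) w},
      i + 2 < n → ∀ a, w.1 (L3 a) = v.1 (R3 a) := by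
    rintro i ⟨v, hv⟩
    by_cases h : i + 2 < n
    · obtain ⟨hvi, -, -, hvR⟩ := hv (by omega)
      obtain ⟨hV, -, hA, hAi, hB, -⟩ := hψ (i + 1) h
      have hle : ∀ a, v (R3 a) ∈ ((ψ (i + 1)).comp L3).range := fun a => by
        rw [hA, ← hvR]; exact ⟨a, rfl⟩
      let φ : S2 →* S2 := (MonoidHom.ofInjective hAi).symm.toMonoidHom.comp ((v.comp R3).codRestrict _ hle)
      have hφ : ∀ a, ψ (i + 1) (L3 (φ a)) = v (R3 a) := fun a => MonoidHom.apply_ofInjective_symm hAi _
      have hφi : Function.Injective φ := fun a b hab => shift_injective (by omega) hF (hvi (show v (R3 a) = v (R3 b) by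
        rw [← hφ, ← hφ, hab]))
      obtain ⟨σ, c, hd, hth⟩ := exists_aut hF φ hφi
      have hd' : ∀ j, (![c, 1, 1] : Fin 3 → F) j ^ (2 + 1) = 1 := fun j => by
        fin_cases j
        · exact hd 0
        · exact one_pow _
        · exact one_pow _
      refine ⟨⟨(ψ (i + 1)).comp (theta hF σ ![c, 1, 1] hd'), fun h' => ⟨(hinj (i + 1) h).comp
        (theta_injective hF σ _ hd'), ?_, ?_, ?_⟩⟩, fun _ a => ?_⟩
      · rw [MonoidHom.range_comp, MonoidHom.range_eq_top.2 (theta_surjective hF σ _ hd'),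
          ← MonoidHom.range_eq_map]
        exact hV
      · rw [show ((ψ (i + 1)).comp (theta hF σ ![c, 1, 1] hd')).comp L3 =
            ((ψ (i + 1)).comp L3).comp (theta hF σ ![c, 1] hd) from
            MonoidHom.ext fun x => congrArg (ψ (i + 1)) (theta_left hF σ c hd hd' x),
          MonoidHom.range_comp, MonoidHom.range_eq_top.2 (theta_surjective hF σ _ _), ← MonoidHom.range_eq_map]
        exact hA
      · rw [show ((ψ (i + 1)).comp (theta hF σ ![c, 1, 1] hd')).comp R3 =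
            ((ψ (i + 1)).comp R3).comp (theta hF σ (fun _ => 1) (fun _ => one_pow _)) from
            MonoidHom.ext fun x => congrArg (ψ (i + 1)) (theta_right hF σ c hd' x),
          MonoidHom.range_comp, MonoidHom.range_eq_top.2 (theta_surjective hF σ _ _), ← MonoidHom.range_eq_map]
        exact hB
      · show ψ (i + 1) (theta hF σ ![c, 1, 1] hd' (L3 a)) = v (R3 a)
        rw [theta_left hF σ c hd hd', ← hth]
        exact hφ a
    · exact ⟨⟨1, fun h' => absurd h' (by omega)⟩, fun h' => absurd h' h⟩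
  choose next hnext using step
  have h0 : Good 0 (ψ 0) := fun h => by
    obtain ⟨hV, -, hA, -, hB, -⟩ := hψ 0 h
    exact ⟨hinj 0 h, hV, hA, hB⟩
  let w' : (i : ℕ) → {v : S3 →* G // Good i v} := fun i => Nat.rec ⟨_, h0⟩ (fun j v => next j v) i
  refine ⟨fun i => (w' i).1, fun i h => ?_⟩
  obtain ⟨a, b, c, d⟩ := (w' i).2 h
  exact ⟨a, b, c, d, fun h' => hnext i (w' i) h'⟩

end Cfsg.Agent.Phan.TwoChain
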