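import Cfsg.Agent.Lib.Phan.TwoFrame
import Cfsg.Agent.Lib.AutPSU.Basic
import Cfsg.Agent.Lib.Classical.UnitarySimple
import Mathlib

/-!
For `q = 2`, two standard pairs in a quotient of `SU₄` are the windows of a homomorphism from `SU₄`.
-/

set_option autoImplicit false
set_option linter.unusedSectionVars false
set_option linter.unusedSimpArgs false

namespace Cfsg.Agent.Phan.TwoTriple

open Matrix MulAction
open Cfsg.Agent.Forms Cfsg.Agent.Classical Cfsg.Agent.Classical.Unitary
open Cfsg.Agent.SimpleFacts.SUMult Blocks CosetGeom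
open Cfsg.Agent.Phan.Orth Cfsg.Agent.Phan.Cov Cfsg.Agent.Phan.Base Cfsg.Agent.Phan.Shift
open Cfsg.Agent.Phan.TwoField Cfsg.Agent.Phan.TwoFrame

universe u v

variable {F : Type u} [Field F] [Fintype F] {G : Type v} [Group G] (hF : Fintype.card F = 2 ^ 2)

local notation "S3" => Cfsg.SU 3 F 2
local notation "S4" => Cfsg.SU 4 F 2
local notation "L3" => shift (F := F) (q := 2) 0 2 3 (by omega)
local notation "R3" => shift (F := F) (q := 2) 1 2 3 (by omega)
local notation "W0" => shift (F := F) (q := 2) 0 3 4 (by omega)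
local notation "W1" => shift (F := F) (q := 2) 1 3 4 (by omega)

theorem mat_W0 (x : S3) : mat (W0 x) = !![mat x 0 0, mat x 0 1, mat x 0 2, 0;
    mat x 1 0, mat x 1 1, mat x 1 2, 0; mat x 2 0, mat x 2 1, mat x 2 2, 0; 0, 0, 0, 1] := by
  ext i j
  rw [Align.col_entry, shift_apply]
  fin_cases i <;> fin_cases j <;> simp [Matrix.mulVec, dotProduct, Fin.sum_univ_three, Pi.single_apply]

theorem mat_W1 (x : S3) : mat (W1 x) = !![1, 0, 0, 0; 0, mat x 0 0, mat x 0 1, mat x 0 2;
    0, mat x 1 0, mat x 1 1, mat x 1 2; 0, mat x 2 0, mat x 2 1, mat x 2 2] := by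
  ext i j
  rw [Align.col_entry, shift_apply]
  fin_cases i <;> fin_cases j <;> simp [Matrix.mulVec, dotProduct, Fin.sum_univ_three, Pi.single_apply]

theorem sep0 : ∀ k l : Fin 4, k ≠ l → stdA k ≠ stdA l ∨ stdB k ≠ stdB l := by decide +kernel

theorem sep1 : ∀ k l : Fin 4, k ≠ l → (![0, 1, 2, 0] : Fin 4 → Fin 3) k ≠ (![0, 1, 2, 0] : Fin 4 → Fin 3) l ∨
    (![0, 0, 1, 2] : Fin 4 → Fin 3) k ≠ (![0, 0, 1, 2] : Fin 4 → Fin 3) l := by decide +kernel

theorem sep2 : ∀ k l : Fin 4, k ≠ l → stdA k ≠ stdA l ∨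
    (![0, 1, 2, 0] : Fin 4 → Fin 3) k ≠ (![0, 1, 2, 0] : Fin 4 → Fin 3) l := by decide +kernel

include hF

local notation "dL" => L3 (gd hF)
local notation "sL" => L3 (gs hF)
local notation "dR" => R3 (gd hF)
local notation "sR" => R3 (gs hF)

theorem W0_dL : mat (W0 dL) = Matrix.diagonal fun i => pw hF (stdA i) := by
  rw [mat_W0, mat_Ld]; ext i j
  fin_cases i <;> fin_cases j <;> simp [stdA, pw]

theorem W0_dR : mat (W0 dR) = Matrix.diagonal fun i => pw hF (stdB i) := by
  rw [mat_W0, mat_Rd]; ext i j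
  fin_cases i <;> fin_cases j <;> simp [stdB, pw]

theorem W1_dL : mat (W1 dL) = Matrix.diagonal fun i => pw hF ((![0, 1, 2, 0] : Fin 4 → Fin 3) i) := by
  rw [mat_W1, mat_Ld]; ext i j
  fin_cases i <;> fin_cases j <;> simp [pw]

theorem W1_dR : mat (W1 dR) = Matrix.diagonal fun i => pw hF ((![0, 0, 1, 2] : Fin 4 → Fin 3) i) := by
  rw [mat_W1, mat_Rd]; ext i j
  fin_cases i <;> fin_cases j <;> simp [pw]

/-- Relations between the generators. -/
theorem rels : dL * dL * dL = 1 ∧ dR * dR * dR = 1 ∧ dL * dR = dR * dL ∧ sL * sL = 1 ∧ sR * sR = 1 ∧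
    sL * dL = dL * dL * sL ∧ sL * dR = dL * dR * sL ∧ sR * dR = dR * dR * sR ∧ sR * dL = dL * dR * sR ∧
    sL * sR * dL = dR * (sL * sR) := by
  have h2 := two_zero hF
  have hw := om_sq hF
  refine ⟨?_, ?_, ?_, ?_, ?_, ?_, ?_, ?_, ?_, ?_⟩ <;> refine Align.su_ext_entries fun i j => ?_ <;>
    simp only [mat_mul, mat_one, mat_Ld, mat_Ls, mat_Rd, mat_Rs] <;>
    fin_cases i <;> fin_cases j <;> simp [Matrix.mul_apply, Fin.sum_univ_three] <;> grind

theorem dL_ne : dL ≠ 1 ∧ dR ≠ 1 ∧ dL * dR ≠ 1 ∧ dL ≠ dR := by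
  have hne := om_ne hF
  refine ⟨fun h => ?_, fun h => ?_, fun h => ?_, fun h => ?_⟩
  · have e := congrFun (congrFun (congrArg mat h) 0) 0
    simp [mat_Ld, mat_one, hne] at e
  · have e := congrFun (congrFun (congrArg mat h) 1) 1
    simp [mat_Rd, mat_one, hne] at e
  · have e := congrFun (congrFun (congrArg mat h) 0) 0
    simp [mat_mul, mat_Ld, mat_Rd, mat_one, hne, Matrix.mul_apply, Fin.sum_univ_three] at e
  · have e := congrFun (congrFun (congrArg mat h) 0) 0
    simp [mat_Ld, mat_Rd, hne] at e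

/-- The centre of `SU₄(2)` is trivial. -/
theorem center_four {z : S4} (hz : z ∈ Subgroup.center S4) : z = 1 := by
  obtain ⟨a, ha⟩ := (mem_center_iff hF (by norm_num) z).1 hz
  have hd : (mat z).det = 1 := z.1.2
  rw [ha, Matrix.det_smul, Matrix.det_one, mul_one, Fintype.card_fin, pow_four hF] at hd
  refine SU_ext fun x => ?_
  rw [mat_one, ha, hd, one_smul]

theorem diag_center (g : S3) (hg : ∀ m ∈ blocks hF, g * m = m * g) :
    g ^ 3 = 1 ∧ ∀ x, g * x = x * g := by
  have hmul : ∀ m ∈ blocks hF, mat g * mat m = mat m * mat g := fun m hm => by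
    rw [← mat_mul, ← mat_mul, hg m hm]
  obtain ⟨h0, h1, h3⟩ := om_ne hF
  have hd : mat g = Matrix.diagonal fun k => mat g k k := by
    refine diag_of_commute (mat g) (![om hF, om hF + 1, 1] : Fin 3 → F) (![1, om hF, om hF + 1] : Fin 3 → F)
      ?_ ?_ ?_
    · have e : mat dL = Matrix.diagonal (![om hF, om hF + 1, 1] : Fin 3 → F) := by
        rw [mat_Ld]; ext i j; fin_cases i <;> fin_cases j <;> simp
      rw [← e]
      exact hmul dL (mem_left hF _)
    · have e : mat dR = Matrix.diagonal (![1, om hF, om hF + 1] : Fin 3 → F) := by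
        rw [mat_Rd]; ext i j; fin_cases i <;> fin_cases j <;> simp
      rw [← e]
      exact hmul dR (mem_right hF _)
    · have h2 := two_zero hF
      intro k l hkl
      fin_cases k <;> fin_cases l <;> simp_all <;> grind
  have e01 := congrFun (congrFun (hmul sL (mem_left hF _)) 0) 1
  have e12 := congrFun (congrFun (hmul sR (mem_right hF _)) 1) 2
  rw [hd, mat_Ls] at e01
  rw [hd, mat_Rs] at e12
  simp [Matrix.mul_apply, Fin.sum_univ_three] at e01 e12
  have hs : mat g = mat g 0 0 • (1 : Matrix (Fin 3) (Fin 3) F) := by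
    conv_lhs => rw [hd]
    ext i j
    fin_cases i <;> fin_cases j <;> simp [e01, e12]
  have hz : g ∈ Subgroup.center S3 := (mem_center_iff hF (by norm_num) g).2 ⟨_, hs⟩
  refine ⟨SU_ext fun x => ?_, fun x => (Subgroup.mem_center_iff.1 hz x).symm⟩
  have hdet : (mat g).det = 1 := g.1.2
  rw [hs, Matrix.det_smul, Matrix.det_one, mul_one, Fintype.card_fin] at hdet
  rw [show g ^ 3 = g * g * g by rw [pow_succ, pow_two], mat_mul, mat_mul, hs, smul_mul_smul_comm,
    smul_mul_smul_comm, one_mul, one_mul, mat_one, show mat g 0 0 * mat g 0 0 * mat g 0 0 = 1 by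
      linear_combination hdet, one_smul]

/-- A homomorphism on `SU₃` is determined by its range and its blocks. -/
theorem rigid {ψ ψ' : S3 →* G} (hi : Function.Injective ψ') (hr : ψ.range = ψ'.range)
    (hL : ∀ a, ψ (L3 a) = ψ' (L3 a)) (hR : ∀ a, ψ (R3 a) = ψ' (R3 a)) : ψ = ψ' := by
  let e := MonoidHom.ofInjective hi
  let α : S3 →* S3 := e.symm.toMonoidHom.comp (ψ.codRestrict ψ'.range fun x => hr ▸ ⟨x, rfl⟩)
  have hα : ∀ x, ψ' (α x) = ψ x := fun x => MonoidHom.apply_ofInjective_symm hi _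
  have h := core hF (ψ := MonoidHom.id S3) (ψ' := α) (fun x => hi (by rw [hα, hL]; rfl))
    (fun x => hi (by rw [hα, hR]; rfl)) (fun g hg => diag_center hF g hg)
  exact MonoidHom.ext fun x => by rw [← hα, ← h]; rfl

theorem prod_pw (a : Fin 4 → Fin 3) :
    pw hF (a 0) * pw hF (a 1) * pw hF (a 2) * pw hF (a 3) = pw hF (a 0 + a 1 + a 2 + a 3) := by
  rw [pw_mul, pw_mul, pw_mul]

omit hF in
theorem code_real : ∀ a0 a1 a2 a3 : Fin 3,
    code (fun i => (![a0, a1, a2, a3] : Fin 4 → Fin 3) i + (![a0, a1, a2, a3] : Fin 4 → Fin 3) i) =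
      code ![a0, a1, a2, a3] → (code ![a0, a1, a2, a3]).val < 2 := by
  decide +kernel

omit hF in
theorem four_eta (a : Fin 4 → Fin 3) : a = ![a 0, a 1, a 2, a 3] := by
  funext i
  fin_cases i <;> rfl

/-- The exponents of the images of the two torus generators. -/
theorem cond_of_hom (t : S3 →* S4) (ht : Function.Injective t) (g : Cfsg.GU 4 F 2) (a b : Fin 4 → Fin 3)
    (hA : gmat g⁻¹ * mat (t dL) * gmat g = Matrix.diagonal (fun i => pw hF (a i)))
    (hB : gmat g⁻¹ * mat (t dR) * gmat g = Matrix.diagonal (fun i => pw hF (b i))) : Cond a b := by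
  obtain ⟨-, -, -, hss, htt, rsl, -, -, rst, rcyc⟩ := rels hF
  obtain ⟨n1, n2, n3, n4⟩ := dL_ne hF
  have hgg : gmat g * gmat g⁻¹ = 1 := AutPSU.Basic.gmat_mul_inv g
  have hgg' : gmat g⁻¹ * gmat g = 1 := AutPSU.Basic.gmat_inv_mul' g
  have hmul : ∀ {X Y : S4} {c d : Fin 4 → Fin 3},
      gmat g⁻¹ * mat X * gmat g = Matrix.diagonal (fun i => pw hF (c i)) →
      gmat g⁻¹ * mat Y * gmat g = Matrix.diagonal (fun i => pw hF (d i)) →
      gmat g⁻¹ * mat (X * Y) * gmat g = Matrix.diagonal (fun i => pw hF (c i + d i)) := by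
    intro X Y c d hX hY
    have e : gmat g⁻¹ * mat (X * Y) * gmat g =
        (gmat g⁻¹ * mat X * gmat g) * (gmat g⁻¹ * mat Y * gmat g) := by
      rw [mat_mul]
      simp only [Matrix.mul_assoc]
      rw [← Matrix.mul_assoc (gmat g) (gmat g⁻¹), hgg, Matrix.one_mul]
    rw [e, hX, hY, Matrix.diagonal_mul_diagonal]
    simp only [pw_mul]
  have tr : ∀ {X : S4} {c : Fin 4 → Fin 3},
      gmat g⁻¹ * mat X * gmat g = Matrix.diagonal (fun i => pw hF (c i)) → (mat X).trace = val hF (code c) := by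
    intro X c hX
    rw [← sum_pw hF]
    have h := congrArg Matrix.trace hX
    rw [Matrix.trace_mul_cycle, hgg, Matrix.one_mul, Matrix.trace_diagonal, Fin.sum_univ_four] at h
    exact h
  have det : ∀ {X : S4} {c : Fin 4 → Fin 3},
      gmat g⁻¹ * mat X * gmat g = Matrix.diagonal (fun i => pw hF (c i)) → c 0 + c 1 + c 2 + c 3 = 0 := by
    intro X c hX
    apply pw_injective hF
    rw [← prod_pw hF]
    have h := congrArg Matrix.det hX
    rw [Matrix.det_mul, Matrix.det_mul, show (mat X).det = 1 from X.1.2, mul_one, ← Matrix.det_mul, hgg',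
      Matrix.det_one, Matrix.det_diagonal, Fin.prod_univ_four] at h
    rw [← h]
    rfl
  have cj : ∀ (k x y : S3), k * x = y * k → (mat (t x)).trace = (mat (t y)).trace := by
    intro k x y h
    have e : y = k * x * k⁻¹ := eq_mul_inv_of_mul_eq h.symm
    rw [e, map_mul, map_mul, map_inv, mat_mul, mat_mul, Matrix.trace_mul_cycle, ← mat_mul, inv_mul_cancel,
      mat_one, one_mul]
  have inj : ∀ {x y : S3} {c d : Fin 4 → Fin 3},
      gmat g⁻¹ * mat (t x) * gmat g = Matrix.diagonal (fun i => pw hF (c i)) →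
      gmat g⁻¹ * mat (t y) * gmat g = Matrix.diagonal (fun i => pw hF (d i)) → x ≠ y → ∃ i, c i ≠ d i := by
    intro x y c d hx hy hxy
    by_contra hcd
    push Not at hcd
    rw [show c = d from funext hcd] at hx
    refine hxy (ht (SU_ext fun v => ?_))
    have h := congrArg (fun M => gmat g * M * gmat g⁻¹) (hx.trans hy.symm)
    simp only [Matrix.mul_assoc, hgg, Matrix.mul_one] at h
    rw [← Matrix.mul_assoc, hgg, Matrix.one_mul, ← Matrix.mul_assoc, hgg, Matrix.one_mul] at h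
    rw [h]
  have h1 : gmat g⁻¹ * mat (t 1) * gmat g = Matrix.diagonal (fun i => pw hF ((0 : Fin 4 → Fin 3) i)) := by
    rw [map_one, mat_one, Matrix.mul_one, hgg']
    simp [pw]
  have hAA := hmul hA hA
  have hAB := hmul hA hB
  rw [← map_mul] at hAA hAB
  have ta := tr hA
  refine ⟨det hA, det hB, ?_, val_injective hF ?_, val_injective hF ?_, ?_, ?_, ?_, inj hA hB n4⟩
  · rw [four_eta a]
    refine code_real _ _ _ _ ?_
    rw [← four_eta a]
    exact val_injective hF (by rw [← tr hAA, ← ta, cj sL dL (dL * dL) rsl])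
  · rw [← tr hB, ← ta]
    exact (cj _ _ _ rcyc).symm
  · rw [← tr hAB, ← ta]
    exact (cj _ _ _ rst).symm
  · exact inj hA h1 n1
  · exact inj hB h1 n2
  · exact inj hAB h1 n3

/-- A unitary matrix with permuted columns. -/
theorem exists_permute (g : Cfsg.GU 4 F 2) (π : Fin 4 → Fin 4) (hπ : ∀ i j, π i = π j → i = j) :
    ∃ g' : Cfsg.GU 4 F 2, ∀ i, gmat g' *ᵥ (Pi.single i 1 : Fin 4 → F) = gmat g *ᵥ Pi.single (π i) 1 := by
  obtain ⟨g', hg'⟩ := exists_gu_frame (r := 0) hF
    (fun i => gmat g *ᵥ (Pi.single (π i) 1 : Fin 4 → F)) (fun i j => by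
      rw [GU_H, H_single_single hF]
      by_cases h : i = j
      · simp [h]
      · rw [if_neg h, if_neg fun e => h (hπ i j e)])
  exact ⟨g', hg'⟩

/-- Squaring as an automorphism. -/
theorem exists_frob : ∃ σ : F ≃+* F, ∀ k, σ (pw hF k) = pw hF (-k) := by
  have h2 := two_zero hF
  have h4 := pow_four hF
  refine ⟨{ toFun := fun x => x * x, invFun := fun x => x * x,
            left_inv := fun x => by linear_combination h4 x,
            right_inv := fun x => by linear_combination h4 x,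
            map_mul' := fun x y => by ring,
            map_add' := fun x y => by linear_combination x * y * h2 }, fun k => ?_⟩
  show pw hF k * pw hF k = _
  rw [pw_mul]
  congr 1
  fin_cases k <;> rfl

theorem conj_diag (g : Cfsg.GU 4 F 2) (X : S4) (D : Matrix (Fin 4) (Fin 4) F) (Y : S4) (hY : mat Y = D)
    (hX : gmat g⁻¹ * mat X * gmat g = D) : X = AutPSU.Basic.conjSU g Y := by
  refine SU_ext fun v => ?_
  show _ = (gmat g * mat Y * gmat g⁻¹) *ᵥ v
  congr 1
  rw [hY, ← hX]
  simp only [Matrix.mul_assoc, AutPSU.Basic.gmat_mul_inv, Matrix.mul_one]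
  rw [← Matrix.mul_assoc, AutPSU.Basic.gmat_mul_inv, Matrix.one_mul]

/-- The first map, after an automorphism, sends the torus generators to the standard ones. -/
theorem align_torus (t : S3 →* S4) (ht : Function.Injective t) :
    ∃ Θ : MulAut S4, t dL = Θ (W0 dL) ∧ t dR = Θ (W0 dR) := by
  obtain ⟨rA, rB, rAB, -⟩ := rels hF
  obtain ⟨g, a, b, hA, hB⟩ := exists_frame hF (t dL) (t dR) (by rw [← map_mul, ← map_mul, rA, map_one])
    (by rw [← map_mul, ← map_mul, rB, map_one]) (by rw [← map_mul, ← map_mul, rAB])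
  have hc := cond_of_hom hF t ht g a b hA hB
  obtain ⟨π, hπ, s, hs⟩ := normal_form (a 0) (a 1) (a 2) (a 3) hc.1 (four_eta a ▸ hc.2.2.1)
    (b 0) (b 1) (b 2) (b 3) (four_eta a ▸ four_eta b ▸ hc)
  rw [← four_eta a, ← four_eta b] at hs
  obtain ⟨g', hg'⟩ := exists_permute hF g π (perms_inj π hπ)
  have conj : ∀ (X : S4) (c c' : Fin 4 → Fin 3),
      gmat g⁻¹ * mat X * gmat g = Matrix.diagonal (fun i => pw hF (c i)) → (∀ i, c' i = c (π i)) →
      gmat g'⁻¹ * mat X * gmat g' = Matrix.diagonal (fun i => pw hF (c' i)) := by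
    intro X c c' hX hcc
    refine Matrix.ext_of_mulVec_single fun i => ?_
    have hXe : mat X *ᵥ (gmat g *ᵥ (Pi.single (π i) 1 : Fin 4 → F)) =
        pw hF (c (π i)) • (gmat g *ᵥ Pi.single (π i) 1) := by
      have h := congrArg (fun M => gmat g * M) hX
      simp only [← Matrix.mul_assoc, AutPSU.Basic.gmat_mul_inv, Matrix.one_mul] at h
      rw [Matrix.mulVec_mulVec, h, ← Matrix.mulVec_mulVec, ← Matrix.mulVec_smul]
      congr 1
      funext j
      rw [Matrix.mulVec_diagonal, Pi.smul_apply, smul_eq_mul]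
      by_cases hj : j = π i
      · subst hj; rfl
      · simp [Pi.single_apply, hj]
    rw [← Matrix.mulVec_mulVec, ← Matrix.mulVec_mulVec, hg', hXe, Matrix.mulVec_smul,
      ginv_mulVec g' (hg' i), ← hcc]
    funext j
    rw [Matrix.mulVec_diagonal, Pi.smul_apply, smul_eq_mul]
    by_cases hj : j = i
    · subst hj; rfl
    · simp [Pi.single_apply, hj]
  cases s with
  | false =>
    exact ⟨AutPSU.Basic.conjSU g',
      conj_diag hF g' _ _ _ (W0_dL hF) (conj _ a stdA hA fun i => (hs i).1.symm),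
      conj_diag hF g' _ _ _ (W0_dR hF) (conj _ b stdB hB fun i => (hs i).2.symm)⟩
  | true =>
    obtain ⟨σ, hσ⟩ := exists_frob hF
    have hf : ∀ (Y : S4) (c : Fin 4 → Fin 3), mat Y = Matrix.diagonal (fun i => pw hF (c i)) →
        mat (AutPSU.Basic.fieldSU σ Y) = Matrix.diagonal (fun i => pw hF (-c i)) := by
      intro Y c hY
      show (mat Y).map σ = _
      rw [hY, Matrix.diagonal_map (map_zero σ)]
      exact congrArg Matrix.diagonal (funext fun i => hσ _)
    exact ⟨AutPSU.Basic.conjSU g' * AutPSU.Basic.fieldSU σ,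
      conj_diag hF g' _ _ _ (hf _ _ (W0_dL hF)) (conj _ a _ hA fun i => (hs i).1.symm),
      conj_diag hF g' _ _ _ (hf _ _ (W0_dR hF)) (conj _ b _ hB fun i => (hs i).2.symm)⟩

/-- The centraliser of a window. -/
theorem cent_zero (g : S4) (hg : ∀ m ∈ blocks hF, g * W0 m = W0 m * g) :
    g ^ 3 = 1 ∧ ∀ x, g * W0 x = W0 x * g := by
  have hmul : ∀ m ∈ blocks hF, mat g * mat (W0 m) = mat (W0 m) * mat g := fun m hm => by
    rw [← mat_mul, ← mat_mul, hg m hm]
  have hd : mat g = Matrix.diagonal fun k => mat g k k :=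
    diag_of_commute (mat g) _ _ (W0_dL hF ▸ hmul dL (mem_left hF _)) (W0_dR hF ▸ hmul dR (mem_right hF _))
      fun k l hkl => (sep0 k l hkl).imp (fun h e => h (pw_injective hF e)) fun h e => h (pw_injective hF e)
  have e01 := congrFun (congrFun (hmul sL (mem_left hF _)) 0) 1
  have e12 := congrFun (congrFun (hmul sR (mem_right hF _)) 1) 2
  rw [hd, mat_W0, mat_Ls] at e01
  rw [hd, mat_W0, mat_Rs] at e12
  simp [Matrix.mul_apply, Fin.sum_univ_four] at e01 e12
  have hdet : (mat g).det = 1 := g.1.2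
  rw [hd, Matrix.det_diagonal, Fin.prod_univ_four] at hdet
  have hx : mat g 0 0 ≠ 0 := fun h => by simp [h] at hdet
  have hc := cube_one hF hx
  have e11 : mat g 1 1 = mat g 0 0 := by first | exact e01.symm | exact e01
  have e22 : mat g 2 2 = mat g 0 0 := by first | exact e12.symm.trans e11 | exact e12.trans e11
  have e33 : mat g 3 3 = 1 := by
    rw [e11, e22] at hdet
    linear_combination hdet - mat g 3 3 * hc
  refine ⟨SU_ext fun v => ?_, fun x => Align.su_ext_entries fun i j => ?_⟩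
  · rw [show g ^ 3 = g * g * g by rw [pow_succ, pow_two], mat_mul, mat_mul, hd, Matrix.diagonal_mul_diagonal,
      Matrix.diagonal_mul_diagonal, mat_one]
    congr 1
    rw [← Matrix.diagonal_one]
    congr 1
    funext k
    fin_cases k <;> simp [e11, e22, e33] <;> linear_combination hc
  · rw [mat_mul, mat_mul, hd, Matrix.diagonal_mul, Matrix.mul_diagonal, mat_W0]
    fin_cases i <;> fin_cases j <;> simp [e11, e22, e33] <;> ring

/-- The centraliser of a window. -/
theorem cent_one (g : S4) (hg : ∀ m ∈ blocks hF, g * W1 m = W1 m * g) :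
    g ^ 3 = 1 ∧ ∀ x, g * W1 x = W1 x * g := by
  have hmul : ∀ m ∈ blocks hF, mat g * mat (W1 m) = mat (W1 m) * mat g := fun m hm => by
    rw [← mat_mul, ← mat_mul, hg m hm]
  have hd : mat g = Matrix.diagonal fun k => mat g k k :=
    diag_of_commute (mat g) _ _ (W1_dL hF ▸ hmul dL (mem_left hF _)) (W1_dR hF ▸ hmul dR (mem_right hF _))
      fun k l hkl => (sep1 k l hkl).imp (fun h e => h (pw_injective hF e)) fun h e => h (pw_injective hF e)
  have e01 := congrFun (congrFun (hmul sL (mem_left hF _)) 1) 2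
  have e12 := congrFun (congrFun (hmul sR (mem_right hF _)) 2) 3
  rw [hd, mat_W1, mat_Ls] at e01
  rw [hd, mat_W1, mat_Rs] at e12
  simp [Matrix.mul_apply, Fin.sum_univ_four] at e01 e12
  have hdet : (mat g).det = 1 := g.1.2
  rw [hd, Matrix.det_diagonal, Fin.prod_univ_four] at hdet
  have hx : mat g 1 1 ≠ 0 := fun h => by simp [h] at hdet
  have hc := cube_one hF hx
  have e22 : mat g 2 2 = mat g 1 1 := by first | exact e01.symm | exact e01
  have e33 : mat g 3 3 = mat g 1 1 := by first | exact e12.symm.trans e22 | exact e12.trans e22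
  have e00 : mat g 0 0 = 1 := by
    rw [e22, e33] at hdet
    linear_combination hdet - mat g 0 0 * hc
  refine ⟨SU_ext fun v => ?_, fun x => Align.su_ext_entries fun i j => ?_⟩
  · rw [show g ^ 3 = g * g * g by rw [pow_succ, pow_two], mat_mul, mat_mul, hd, Matrix.diagonal_mul_diagonal,
      Matrix.diagonal_mul_diagonal, mat_one]
    congr 1
    rw [← Matrix.diagonal_one]
    congr 1
    funext k
    fin_cases k <;> simp [e22, e33, e00] <;> linear_combination hc
  · rw [mat_mul, mat_mul, hd, Matrix.diagonal_mul, Matrix.mul_diagonal, mat_W1]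
    fin_cases i <;> fin_cases j <;> simp [e22, e33, e00] <;> ring

theorem sq_one {x : F} (h : x * x = 1) : x = 1 := by
  have := mul_self_eq_one_iff.1 h
  rcases this with h | h
  · exact h
  · linear_combination h + two_zero hF * (-1 : F)

theorem inv_of_mul {x y : F} (h : x * y = 1) : x⁻¹ = y := inv_eq_of_mul_eq_one_right h

/-- An injective map from `SU₃` is the window up to an automorphism. -/
theorem first (t : S3 →* S4) (ht : Function.Injective t) :
    ∃ Θ : MulAut S4, ∀ x, t x = Θ (W0 x) := by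
  obtain ⟨Θ, hA, hB⟩ := align_torus hF t ht
  obtain ⟨-, -, -, rs2, rt2, rsl, rsb, rtb, rtl, -⟩ := rels hF
  set t1 : S3 →* S4 := Θ.symm.toMonoidHom.comp t with ht1
  have h1 : t1 dL = W0 dL := by simp [ht1, hA]
  have h2 : t1 dR = W0 dR := by simp [ht1, hB]
  have shape : ∀ s : S3, s * s = 1 → s * dL = (s * dL * s) * s → (t1 (s * dL * s) = W0 (s * dL * s)) →
      (t1 (s * dR * s) = W0 (s * dR * s)) →
      ∃ x : Fin 4 → F, mat (t1 s) = mat (W0 s) * Matrix.diagonal x := by
    intro s hss _ hl hr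
    set c := W0 s * t1 s with hc
    have hcc : ∀ d : S3, t1 d = W0 d → t1 (s * d * s) = W0 (s * d * s) → c * W0 d = W0 d * c := by
      intro d hd hds
      have e1 : t1 s * W0 d = W0 (s * d * s) * t1 s := by
        rw [← hds, ← hd, ← map_mul, ← map_mul, mul_assoc, hss, mul_one]
      rw [hc, mul_assoc, e1, ← mul_assoc, ← map_mul, ← mul_assoc s, ← mul_assoc s, hss, one_mul, map_mul,
        mul_assoc]
    have hd : mat c = Matrix.diagonal fun k => mat c k k :=
      diag_of_commute (mat c) _ _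
        (W0_dL hF ▸ (show mat c * mat (W0 dL) = mat (W0 dL) * mat c by rw [← mat_mul, ← mat_mul, hcc _ h1 hl]))
        (W0_dR hF ▸ (show mat c * mat (W0 dR) = mat (W0 dR) * mat c by rw [← mat_mul, ← mat_mul, hcc _ h2 hr]))
        fun k l hkl => (sep0 k l hkl).imp (fun h e => h (pw_injective hF e)) fun h e => h (pw_injective hF e)
    refine ⟨fun k => mat c k k, ?_⟩
    rw [← hd, ← mat_mul, hc, ← mul_assoc, ← map_mul, hss, map_one, one_mul]
  have w1 : t1 (dL * dL) = W0 (dL * dL) := by rw [map_mul, map_mul, h1]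
  have w2 : t1 (dL * dR) = W0 (dL * dR) := by rw [map_mul, map_mul, h1, h2]
  have w3 : t1 (dR * dR) = W0 (dR * dR) := by rw [map_mul, map_mul, h2]
  obtain ⟨x, hx⟩ := shape sL rs2 (by rw [mul_assoc, rs2, mul_one])
    (by rw [rsl, mul_assoc, rs2, mul_one]; exact w1) (by rw [rsb, mul_assoc, rs2, mul_one]; exact w2)
  obtain ⟨y, hy⟩ := shape sR rt2 (by rw [mul_assoc, rt2, mul_one])
    (by rw [rtl, mul_assoc, rt2, mul_one]; exact w2) (by rw [rtb, mul_assoc, rt2, mul_one]; exact w3)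
  have qx : mat (t1 sL) * mat (t1 sL) = 1 := by rw [← mat_mul, ← map_mul, rs2, map_one, mat_one]
  have qy : mat (t1 sR) * mat (t1 sR) = 1 := by rw [← mat_mul, ← map_mul, rt2, map_one, mat_one]
  rw [hx, mat_W0, mat_Ls] at qx
  rw [hy, mat_W0, mat_Rs] at qy
  have p00 := congrFun (congrFun qx 0) 0
  have p22 := congrFun (congrFun qx 2) 2
  have p33 := congrFun (congrFun qx 3) 3
  have r00 := congrFun (congrFun qy 0) 0
  have r11 := congrFun (congrFun qy 1) 1
  have r33 := congrFun (congrFun qy 3) 3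
  simp [Matrix.mul_apply, Matrix.vecMul_diagonal, Fin.sum_univ_four] at p00 p22 p33 r00 r11 r33
  have x2 : x 2 = 1 := sq_one hF p22
  have x3 : x 3 = 1 := sq_one hF p33
  have y0 : y 0 = 1 := sq_one hF r00
  have y3 : y 3 = 1 := sq_one hF r33
  have hx1 : x 1 ≠ 0 := fun h => by simp [h] at p00
  have hy1 : y 1 ≠ 0 := fun h => by simp [h] at r11
  have hd : ∀ i, (![x 1, 1, y 1, 1] : Fin 4 → F) i ^ (2 + 1) = 1 := fun i => by
    fin_cases i <;> simp [cube_one hF hx1, cube_one hF hy1]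
  have i1 : (x 1)⁻¹ = x 0 := inv_of_mul hF (by linear_combination p00)
  have i2 : (y 1)⁻¹ = y 2 := inv_of_mul hF (by linear_combination r11)
  let θ : MulAut S4 := MulEquiv.ofBijective (Align.theta hF (RingEquiv.refl F) _ hd)
    ⟨Align.theta_injective hF _ _ hd, Align.theta_surjective hF _ _ hd⟩
  have hθ : ∀ X i j, mat (θ X) i j = (![x 1, 1, y 1, 1] : Fin 4 → F) i * mat X i j *
      ((![x 1, 1, y 1, 1] : Fin 4 → F) j)⁻¹ := fun X i j => Align.theta_entry hF (RingEquiv.refl F) _ hd X i j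
  let ψ : S3 →* S4 := θ.toMonoidHom.comp W0
  have hψ : ∀ z, ψ z = θ (W0 z) := fun _ => rfl
  have a1 : ψ dL = t1 dL := Align.su_ext_entries fun i j => by
    rw [hψ, hθ, h1, W0_dL]
    fin_cases i <;> fin_cases j <;> simp [hx1, hy1] <;> field_simp
  have a2 : ψ dR = t1 dR := Align.su_ext_entries fun i j => by
    rw [hψ, hθ, h2, W0_dR]
    fin_cases i <;> fin_cases j <;> simp [hx1, hy1] <;> field_simp
  have a3 : ψ sL = t1 sL := Align.su_ext_entries fun i j => by
    rw [hψ, hθ, hx, mat_W0, mat_Ls]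
    fin_cases i <;> fin_cases j <;> simp [Matrix.mul_diagonal, Matrix.vecMul_diagonal, x2, x3, hy1, i1]
  have a4 : ψ sR = t1 sR := Align.su_ext_entries fun i j => by
    rw [hψ, hθ, hy, mat_W0, mat_Rs]
    fin_cases i <;> fin_cases j <;> simp [Matrix.mul_diagonal, Matrix.vecMul_diagonal, y0, y3, hx1, i2]
  have h := core hF (ψ := ψ) (ψ' := t1)
    (agree2 hF (f := ψ.comp L3) (g := t1.comp L3) a1 a3) (agree2 hF (f := ψ.comp R3) (g := t1.comp R3) a2 a4)
    (fun g hg => by
      obtain ⟨h3, hc⟩ := cent_zero hF (θ.symm g) fun m hm => θ.injective (by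
        rw [map_mul, map_mul, MulEquiv.apply_symm_apply]; exact hg m hm)
      refine ⟨θ.symm.injective (by rw [map_pow, h3, map_one]), fun z => θ.symm.injective ?_⟩
      rw [map_mul, map_mul, hψ, MulEquiv.symm_apply_apply]
      exact hc z)
  refine ⟨Θ * θ, fun z => ?_⟩
  show t z = Θ (θ (W0 z))
  rw [← hψ, h, ht1]
  simp

/-- The second map, once the first is the window. -/
theorem second (ρ : S3 →* S4) (hρ : Function.Injective ρ)
    (hL : ∀ x, ρ (L3 x) = W0 (R3 x)) (hc : ∀ x y, W0 (L3 x) * ρ (R3 y) = ρ (R3 y) * W0 (L3 x)) :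
    ∃ Ξ : MulAut S4, (∀ x, Ξ (W0 x) = W0 x) ∧ ∀ x, ρ x = Ξ (W1 x) := by
  obtain ⟨rA, -, rAB, rs2, rt2, -, -, rtb, rtl, -⟩ := rels hF
  have hov : ∀ x, W0 (R3 x) = W1 (L3 x) := fun x => by
    rw [shift_comp, shift_comp]
  have h1 : ρ dL = W1 dL := by rw [hL, hov]
  set e := ρ dR with he
  have hdiag : mat e = Matrix.diagonal fun k => mat e k k := by
    refine diag_of_commute (mat e) (fun i => pw hF (stdA i)) (fun i => pw hF ((![0, 1, 2, 0] : Fin 4 → Fin 3) i))
      ?_ ?_ ?_
    · rw [← W0_dL hF, ← mat_mul, ← mat_mul, hc]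
    · rw [← W1_dL hF, ← mat_mul, ← mat_mul, ← h1, he, ← map_mul, ← map_mul, rAB]
    · exact fun k l hkl => (sep2 k l hkl).imp (fun h e => h (pw_injective hF e)) fun h e => h (pw_injective hF e)
  have hsw := congrFun (congrFun (congrArg mat (hc (gs hF) (gd hF))) 0) 1
  rw [← he, mat_mul, mat_mul, mat_W0, mat_Ls, hdiag] at hsw
  simp [Matrix.mul_apply, Fin.sum_univ_four] at hsw
  have hne : ∀ k, mat e k k ≠ 0 := fun k h => by
    have hd : (mat e).det = 1 := e.1.2
    rw [hdiag, Matrix.det_diagonal] at hd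
    exact one_ne_zero (hd.symm.trans (Finset.prod_eq_zero (Finset.mem_univ k) h))
  choose b hb using fun k => exists_pw hF (hne k)
  have hb01 : b 0 = b 1 := pw_injective hF (by
    rw [← hb, ← hb]
    first | exact hsw | exact hsw.symm)
  have hcond := cond_of_hom hF ρ hρ 1 ![0, 1, 2, 0] b
    (by rw [inv_one, gmat_one, one_mul, mul_one, h1, W1_dL])
    (by rw [inv_one, gmat_one, one_mul, mul_one, ← he, hdiag]; exact congrArg Matrix.diagonal (funext hb))
  rw [four_eta b, ← hb01] at hcond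
  obtain ⟨b0, b2, b3⟩ := second_form _ _ _ hcond
  have h2 : e = W1 dR := Align.su_ext_entries fun i j => by
    rw [hdiag, W1_dR]
    congr 2
    funext k
    rw [hb]
    fin_cases k <;> simp [b0, ← hb01, b2, b3]
  have w3 : ρ (dR * dR) = W1 (dR * dR) := by rw [map_mul, map_mul, ← he, h2]
  have w2 : ρ (dL * dR) = W1 (dL * dR) := by rw [map_mul, map_mul, h1, ← he, h2]
  set c := W1 sR * ρ sR with hcdef
  have hcc : ∀ d : S3, ρ d = W1 d → ρ (sR * d * sR) = W1 (sR * d * sR) → c * W1 d = W1 d * c := by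
    intro d hd hds
    have e1 : ρ sR * W1 d = W1 (sR * d * sR) * ρ sR := by
      rw [← hds, ← hd, ← map_mul, ← map_mul, mul_assoc, rt2, mul_one]
    rw [hcdef, mul_assoc, e1, ← mul_assoc, ← map_mul, ← mul_assoc sR, ← mul_assoc sR, rt2, one_mul, map_mul,
      mul_assoc]
  have hd : mat c = Matrix.diagonal fun k => mat c k k :=
    diag_of_commute (mat c) _ _
      (W1_dL hF ▸ (show mat c * mat (W1 dL) = mat (W1 dL) * mat c by
        rw [← mat_mul, ← mat_mul, hcc _ h1 (by rw [rtl, mul_assoc, rt2, mul_one]; exact w2)]))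
      (W1_dR hF ▸ (show mat c * mat (W1 dR) = mat (W1 dR) * mat c by
        rw [← mat_mul, ← mat_mul, hcc _ (he ▸ h2) (by rw [rtb, mul_assoc, rt2, mul_one]; exact w3)]))
      fun k l hkl => (sep1 k l hkl).imp (fun h e => h (pw_injective hF e)) fun h e => h (pw_injective hF e)
  set y := fun k => mat c k k with hy'
  have hy : mat (ρ sR) = mat (W1 sR) * Matrix.diagonal y := by
    rw [← hd, ← mat_mul, hcdef, ← mul_assoc, ← map_mul, rt2, map_one, one_mul]
  have qy : mat (ρ sR) * mat (ρ sR) = 1 := by rw [← mat_mul, ← map_mul, rt2, map_one, mat_one]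
  rw [hy, mat_W1, mat_Rs] at qy
  have r00 := congrFun (congrFun qy 0) 0
  have r11 := congrFun (congrFun qy 1) 1
  have r22 := congrFun (congrFun qy 2) 2
  simp [Matrix.mul_apply, Matrix.vecMul_diagonal, Fin.sum_univ_four] at r00 r11 r22
  clear_value y
  have y0 : y 0 = 1 := sq_one hF r00
  have y1 : y 1 = 1 := sq_one hF r11
  have hy2 : y 2 ≠ 0 := fun h => by simp [h] at r22
  have hdn : ∀ i, (![1, 1, 1, y 2] : Fin 4 → F) i ^ (2 + 1) = 1 := fun i => by
    fin_cases i <;> simp [cube_one hF hy2]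
  have i2 : (y 2)⁻¹ = y 3 := inv_of_mul hF (by linear_combination r22)
  let θ : MulAut S4 := MulEquiv.ofBijective (Align.theta hF (RingEquiv.refl F) _ hdn)
    ⟨Align.theta_injective hF _ _ hdn, Align.theta_surjective hF _ _ hdn⟩
  have hθ : ∀ X i j, mat (θ X) i j = (![1, 1, 1, y 2] : Fin 4 → F) i * mat X i j *
      ((![1, 1, 1, y 2] : Fin 4 → F) j)⁻¹ := fun X i j => Align.theta_entry hF (RingEquiv.refl F) _ hdn X i j
  have hfix : ∀ x, θ (W0 x) = W0 x := fun x => Align.su_ext_entries fun i j => by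
    rw [hθ, mat_W0]
    fin_cases i <;> fin_cases j <;> simp [hy2]
  let ψ : S3 →* S4 := θ.toMonoidHom.comp W1
  have hψ : ∀ z, ψ z = θ (W1 z) := fun _ => rfl
  have a2 : ψ dR = ρ dR := Align.su_ext_entries fun i j => by
    rw [hψ, hθ, ← he, h2, W1_dR]
    fin_cases i <;> fin_cases j <;> simp [hy2] <;> field_simp
  have a4 : ψ sR = ρ sR := Align.su_ext_entries fun i j => by
    rw [hψ, hθ, hy, mat_W1, mat_Rs]
    fin_cases i <;> fin_cases j <;> simp [Matrix.mul_diagonal, Matrix.vecMul_diagonal, y0, y1, i2]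
  have h := core hF (ψ := ψ) (ψ' := ρ)
    (fun x => by rw [hψ, ← hov, hfix, hL]) (agree2 hF (f := ψ.comp R3) (g := ρ.comp R3) a2 a4)
    (fun g hg => by
      obtain ⟨h3, hc'⟩ := cent_one hF (θ.symm g) fun m hm => θ.injective (by
        rw [map_mul, map_mul, MulEquiv.apply_symm_apply]; exact hg m hm)
      refine ⟨θ.symm.injective (by rw [map_pow, h3, map_one]), fun z => θ.symm.injective ?_⟩
      rw [map_mul, map_mul, hψ, MulEquiv.symm_apply_apply]
      exact hc' z)
  exact ⟨θ, hfix, fun z => by rw [← h]; rfl⟩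

theorem injective_of_ne (g : S4 →* G) (h : ∃ x, g x ≠ 1) : Function.Injective g := by
  have := isSimpleGroup_PSU hF (n := 4) (by norm_num) (by omega)
  set Z := Subgroup.center S4 with hZ
  have hnm : (g.ker.map (QuotientGroup.mk' Z)).Normal :=
    Subgroup.Normal.map inferInstance _ (QuotientGroup.mk'_surjective _)
  rcases hnm.eq_bot_or_eq_top with e | e
  · refine (injective_iff_map_eq_one g).2 fun x hx => center_four hF ?_
    have h1 : QuotientGroup.mk' Z x ∈ (⊥ : Subgroup (S4 ⧸ Z)) := e ▸ ⟨x, hx, rfl⟩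
    exact (QuotientGroup.eq_one_iff x).1 h1
  · obtain ⟨x, hx⟩ := h
    obtain ⟨y, hy, e'⟩ : QuotientGroup.mk' Z x ∈ g.ker.map (QuotientGroup.mk' Z) := e ▸ Subgroup.mem_top _
    exact absurd ((inv_mul_eq_one.1 (center_four hF (QuotientGroup.eq.1 e'))) ▸ hy) hx

/-- The triple. -/
theorem exists_four {ψ ψ' : S3 →* G} (hi : Function.Injective ψ) (hi' : Function.Injective ψ')
    (hov : ∀ a, ψ' (L3 a) = ψ (R3 a))
    (hcomm : ∀ a b, ψ (L3 a) * ψ' (R3 b) = ψ' (R3 b) * ψ (L3 a)) {g : S4 →* G}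
    (hg : g.range = ψ.range ⊔ ψ'.range) :
    ∃ φ : S4 →* G, (∀ a, φ (W0 a) = ψ a) ∧ ∀ a, φ (W1 a) = ψ' a := by
  have hgi : Function.Injective g := injective_of_ne hF g (by
    obtain ⟨x, hx⟩ : ψ dL ∈ g.range := hg ▸ Subgroup.mem_sup_left (show ψ dL ∈ ψ.range from ⟨_, rfl⟩)
    refine ⟨x, fun h => (dL_ne hF).1 (hi ?_)⟩
    rw [← hx, h, map_one])
  let e := MonoidHom.ofInjective hgi
  let τ : S3 →* S4 := e.symm.toMonoidHom.comp
    (ψ.codRestrict g.range fun x => hg ▸ Subgroup.mem_sup_left (show ψ x ∈ ψ.range from ⟨x, rfl⟩))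
  let τ' : S3 →* S4 := e.symm.toMonoidHom.comp
    (ψ'.codRestrict g.range fun x => hg ▸ Subgroup.mem_sup_right (show ψ' x ∈ ψ'.range from ⟨x, rfl⟩))
  have hτ : ∀ x, g (τ x) = ψ x := fun x => MonoidHom.apply_ofInjective_symm hgi _
  have hτ' : ∀ x, g (τ' x) = ψ' x := fun x => MonoidHom.apply_ofInjective_symm hgi _
  have hτi : Function.Injective τ := fun x y h => hi (by rw [← hτ, h, hτ])
  have hτi' : Function.Injective τ' := fun x y h => hi' (by rw [← hτ', h, hτ'])
  obtain ⟨Θ, hΘ⟩ := first hF τ hτi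
  obtain ⟨Ξ, hΞ, hΞ'⟩ := second hF (Θ.symm.toMonoidHom.comp τ') (Θ.symm.injective.comp hτi')
    (fun x => by
      show Θ.symm (τ' (L3 x)) = _
      rw [show τ' (L3 x) = τ (R3 x) from hgi (by rw [hτ, hτ', hov]), hΘ, MulEquiv.symm_apply_apply])
    (fun x y => by
      show _ * Θ.symm (τ' (R3 y)) = Θ.symm (τ' (R3 y)) * _
      have h5 : τ (L3 x) * τ' (R3 y) = τ' (R3 y) * τ (L3 x) :=
        hgi (by rw [map_mul, map_mul, hτ, hτ', hcomm])
      have h6 := congrArg Θ.symm h5
      rw [map_mul, map_mul, hΘ, MulEquiv.symm_apply_apply] at h6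
      exact h6)
  refine ⟨g.comp ((Θ * Ξ).toMonoidHom), fun a => ?_, fun a => ?_⟩
  · show g (Θ (Ξ (W0 a))) = _
    rw [hΞ, ← hΘ, hτ]
  · show g (Θ (Ξ (W1 a))) = _
    rw [← hΞ']
    show g (Θ (Θ.symm (τ' a))) = _
    rw [MulEquiv.apply_symm_apply, hτ']

end Cfsg.Agent.Phan.TwoTriple
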