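import Cfsg.Agent.Lib.Phan.MainTwo
import Cfsg.Agent.Lib.Phan.TwoChain
import Cfsg.Agent.Lib.Phan.TwoTriple
import Mathlib

/-!
Weak Phan systems over the field with four elements.
-/

set_option autoImplicit false
set_option linter.unusedSectionVars false

namespace Cfsg.Agent.Phan.MainTwoFull

open Cfsg.Agent.Forms Cfsg.Agent.Classical Cfsg.Agent.Classical.Unitary
open Cfsg.Agent.Phan.Shift

universe u v

theorem surj {F : Type u} [Field F] [Fintype F] {G : Type v} [Group G] (hF : Fintype.card F = 2 ^ 2)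
    (n : ℕ) (hn : 4 ≤ n) (U : Fin n → Subgroup G) (e : ∀ i, ↥(Cfsg.SU 2 F 2) ≃* ↥(U i))
    (V : Fin n → Fin n → Subgroup G)
    (h1 : ∀ i j : Fin n, (i : ℕ) + 2 ≤ j → ∀ x ∈ U i, ∀ y ∈ U j, x * y = y * x)
    (h2 : ∀ i j : Fin n, (i : ℕ) + 1 = j → Cfsg.IsStandardUnitaryPair (V i j) (U i) (U j) F 2)
    (hgen : (⨆ i, U i) ⊔ (⨆ (i : Fin n) (j : Fin n) (_ : (i : ℕ) + 1 = j), V i j) = ⊤)
    (h4 : ∀ i j k : Fin n, (i : ℕ) + 1 = j → (j : ℕ) + 1 = k →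
      ∃ g : ↥(Cfsg.SU 4 F 2) →* ↥(V i j ⊔ V j k), Function.Surjective g)
    (h5 : ∀ i j k : Fin n, (j : ℕ) + 1 = k → ((i : ℕ) + 2 ≤ j ∨ (k : ℕ) + 2 ≤ i) →
      ∀ x ∈ U i, ∀ y ∈ V j k, x * y = y * x)
    (h6 : ∀ i j k l : Fin n, (i : ℕ) + 1 = j → (k : ℕ) + 1 = l → (j : ℕ) + 2 ≤ k →
      ∀ x ∈ V i j, ∀ y ∈ V k l, x * y = y * x) :
    ∃ f : ↥(Cfsg.SU (n + 1) F 2) →* G, Function.Surjective f := by
  obtain ⟨ψ, hψ⟩ := TwoChain.exists_chain hF n hn U e V h1 h2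
  refine MainTwo.surj_of hF n hn U V hgen h5 h6 ψ (fun i h => ⟨(hψ i h).2.1, (hψ i h).2.2.1, (hψ i h).2.2.2.1⟩)
    fun i hi => ?_
  obtain ⟨hi1, hr, hA, -, hov⟩ := hψ i (by omega)
  obtain ⟨hi2, hr', -, hB', -⟩ := hψ (i + 1) (by omega)
  obtain ⟨g, hg⟩ := h4 ⟨i, by omega⟩ ⟨i + 1, by omega⟩ ⟨i + 1 + 1, by omega⟩ rfl rfl
  refine TwoTriple.exists_four hF hi1 hi2 (hov (by omega)) (fun a b => ?_)
    (g := (Subgroup.subtype _).comp g) ?_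
  · exact h1 ⟨i, by omega⟩ ⟨i + 1 + 1, by omega⟩ le_rfl _ (by rw [← hA]; exact ⟨a, rfl⟩) _
      (by rw [← hB']; exact ⟨b, rfl⟩)
  · rw [MonoidHom.range_comp, MonoidHom.range_eq_top.2 hg, ← MonoidHom.range_eq_map, Subgroup.range_subtype,
      hr, hr']

end Cfsg.Agent.Phan.MainTwoFull
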