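import Cfsg.Agent.SimpleFacts.SUMult.CosetGeom
import Mathlib

/-!
Unit vectors of a hermitian space: perpendiculars and the choices needed for square and pentagon fillings.
-/

set_option autoImplicit false
set_option linter.unusedSectionVars false
set_option linter.unusedSimpArgs false

namespace Cfsg.Agent.Phan.Orth

open Matrix
open Cfsg.Agent.Forms Cfsg.Agent.Classical Cfsg.Agent.Classical.Unitary
open Cfsg.Agent.SimpleFacts.SUMult Blocks CosetGeom

universe u

variable {F : Type u} [Field F] [Fintype F] {q n : ℕ}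

local notation "Vec" => (Fin n → F)
local notation "H" => Cfsg.hermForm n F q

variable (hF : Fintype.card F = q ^ 2)
include hF

theorem sym {x y : Vec} (h : H x y = 0) : H y x = 0 := (H_eq_zero_comm hF).1 h

theorem norm_fix (β : F) : (β ^ (q + 1)) ^ q = β ^ (q + 1) := by
  rw [← pow_mul, show (q + 1) * q = q ^ 2 + q by ring, pow_add, ← hF, FiniteField.pow_card, pow_succ]
  ring

theorem norm_mul_conj (β : F) : β ^ q * β = β ^ (q + 1) := (pow_succ β q).symm

/-- A norm outside `0, 1, -1`. -/
theorem exists_norm_mid (hq : 3 < q) :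
    ∃ β : F, β ≠ 0 ∧ β ^ (q + 1) ≠ 1 ∧ β ^ (q + 1) ≠ -1 := by
  classical
  have : Fintype (fixField hF) := Fintype.ofFinite _
  have hc : ((({0, 1, -1} : Finset F).subtype (· ∈ fixField hF))).card < Fintype.card (fixField hF) := by
    rw [← Nat.card_eq_fintype_card, natCard_fixField hF, Finset.card_subtype]
    refine lt_of_le_of_lt ((Finset.card_filter_le _ _).trans Finset.card_le_three) hq
  obtain ⟨μ, hμ⟩ : ∃ μ : fixField hF, μ ∉ (({0, 1, -1} : Finset F).subtype (· ∈ fixField hF)) := by
    by_contra h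
    push Not at h
    rw [Finset.eq_univ_of_forall h, Finset.card_univ] at hc
    exact lt_irrefl _ hc
  simp only [Finset.mem_subtype, Finset.mem_insert, Finset.mem_singleton, not_or] at hμ
  obtain ⟨β, hβ⟩ := UnitaryCount.exists_norm_eq hF (μ := (μ : F)) hμ.1 μ.2
  refine ⟨β, fun h => hμ.1 ?_, hβ ▸ hμ.2.1, hβ ▸ hμ.2.2⟩
  rw [← hβ, h, zero_pow (by omega)]

/-- Normalise a non-isotropic vector. -/
theorem exists_normalise {p : Vec} (hp : H p p ≠ 0) : ∃ c : F, c ≠ 0 ∧ H (c • p) (c • p) = 1 := by
  obtain ⟨c, hc⟩ := UnitaryCount.exists_norm_eq hF (μ := (H p p)⁻¹) (inv_ne_zero hp)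
    (by rw [inv_pow, H_conj hF])
  refine ⟨c, fun h => ?_, by rw [UnitaryCount.hermForm_smul_smul, hc, inv_mul_cancel₀ hp]⟩
  rw [h, zero_pow (by omega)] at hc
  exact inv_ne_zero hp hc.symm

theorem perp_span {T : Set Vec} {x : Vec} (h : ∀ t ∈ T, H x t = 0) {y : Vec}
    (hy : y ∈ Submodule.span F T) : H x y = 0 := by
  induction hy using Submodule.span_induction with
  | mem y hy => exact h y hy
  | zero => exact H_zero_right hF x
  | add a b _ _ ha hb => rw [H_add_right hF, ha, hb, add_zero]
  | smul c a _ ha => rw [H_smul_right, ha, mul_zero]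

/-- A unit vector meeting an isotropic vector in a given way. -/
theorem exists_unit_hit {T : Set Vec} {r : Vec} (hr : H r r = 0) (hrT : ∀ t ∈ T, H r t = 0)
    (hrs : r ∉ Submodule.span F T) {β : F} (hβ : β ≠ 0) :
    ∃ a : Vec, H a a = 1 ∧ (∀ t ∈ T, H a t = 0) ∧ H a r = β := by
  obtain ⟨w₀, hw, hwr⟩ := Witt.exists_sep (σ := HermStd.qHom hF)
    (Finite.injective_iff_surjective.1 (HermStd.qHom hF).injective) (HermStd.hermB hF n)
    (HermStd.hermB_nondegenerate hF).2 hrs
  simp only [HermStd.hermB_apply] at hw hwr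
  obtain ⟨w, hwdef⟩ : ∃ w, w = β • w₀ := ⟨_, rfl⟩
  have hwT : ∀ t ∈ T, H w t = 0 := fun t ht => by
    rw [hwdef, H_smul_left, sym hF (hw t (Submodule.subset_span ht)), mul_zero]
  have hwr' : H w r = β := by
    rw [hwdef, H_smul_left, ← H_conj hF r w₀, hwr, one_pow, mul_one]
  have hrw : H r w = β ^ q := by rw [← H_conj hF w r, hwr']
  obtain ⟨b, hb⟩ := exists_trace_eq hF (c := 1 - H w w) (by
    rw [← HermStd.qHom_apply hF, map_sub, map_one, HermStd.qHom_apply, H_conj hF])
  have hb0 : β ^ q ≠ 0 := pow_ne_zero _ hβ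
  refine ⟨w + (b / β ^ q) • r, ?_, fun t ht => ?_, ?_⟩
  · simp only [H_add_left, H_add_right hF, H_smul_left, H_smul_right, hr, hwr', hrw, div_pow,
      pow_qq hF]
    field_simp
    linear_combination (β * β ^ q) * hb
  · rw [H_add_left, H_smul_left, hwT t ht, hrT t ht, mul_zero, add_zero]
  · rw [H_add_left, H_smul_left, hwr', hr, mul_zero, add_zero]

theorem exists_perp_one (hn : 2 ≤ n) {x : Vec} (hx : H x x = 1) : ∃ z : Vec, H z z = 1 ∧ H z x = 0 := by
  obtain ⟨z, hz, hz'⟩ := exists_unit_perp hF ![x] ![x] (one_frame hx) id (fun _ => rfl) (by omega)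
  exact ⟨z, hz, hz' 0⟩

theorem exists_perp_two (hn : 4 ≤ n) {x : Vec} (hx : H x x = 1) (y : Vec) :
    ∃ z : Vec, H z z = 1 ∧ H z x = 0 ∧ H z y = 0 := by
  obtain ⟨z, hz, hz'⟩ := exists_unit_perp hF ![x, y] ![x] (one_frame hx) ![0]
    (fun i => by fin_cases i; rfl) (by omega)
  exact ⟨z, hz, hz' 0, hz' 1⟩

theorem exists_perp_pair (hn : 3 ≤ n) {x y : Vec} (hx : H x x = 1) (hy : H y y = 1) (hxy : H x y = 0) :
    ∃ z : Vec, H z z = 1 ∧ H z x = 0 ∧ H z y = 0 := by
  obtain ⟨z, hz, hz'⟩ := exists_unit_perp hF ![x, y] ![x, y] (pair_frame hx hy hxy (sym hF hxy)) id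
    (fun _ => rfl) (by omega)
  exact ⟨z, hz, hz' 0, hz' 1⟩

/-- The rest of a vector against an orthonormal pair. -/
theorem rest_perp {v x y : Vec} (hv : H v v = 1) (hx : H x x = 1) (hvx : H v x = 0) :
    H (y - H y v • v - H y x • x) v = 0 ∧ H (y - H y v • v - H y x • x) x = 0 ∧
      H (y - H y v • v - H y x • x) (y - H y v • v - H y x • x) =
        H y y - H y v ^ (q + 1) - H y x ^ (q + 1) := by
  refine ⟨?_, ?_, ?_⟩
  · simp only [H_sub_left, H_smul_left, hv, sym hF hvx]; ring
  · simp only [H_sub_left, H_smul_left, hx, hvx]; ring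
  · simp only [H_sub_left, H_sub_right hF, H_smul_left, H_smul_right, hv, hx, hvx, sym hF hvx]
    rw [← H_conj hF y v, ← H_conj hF y x]
    ring

/-- A unit vector orthogonal to three vectors spanning a non-degenerate space. -/
theorem exists_perp_three (hn : 4 ≤ n) {v x y : Vec} (hv : H v v = 1) (hx : H x x = 1) (hvx : H v x = 0)
    (hd : H y y - H y v ^ (q + 1) - H y x ^ (q + 1) ≠ 0) :
    ∃ z : Vec, H z z = 1 ∧ H z v = 0 ∧ H z x = 0 ∧ H z y = 0 := by
  obtain ⟨h1, h2, h3⟩ := rest_perp hF (y := y) hv hx hvx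
  set p := y - H y v • v - H y x • x with hp
  obtain ⟨c, hc0, hc⟩ := exists_normalise hF (p := p) (by rw [h3]; exact hd)
  obtain ⟨z, hz, hz'⟩ := exists_unit_perp hF ![v, x, c • p] ![v, x, c • p]
    (triple_frame hF hv hx hc hvx (by rw [H_smul_right, sym hF h1, mul_zero])
      (by rw [H_smul_right, sym hF h2, mul_zero])) id (fun _ => rfl) (by omega)
  refine ⟨z, hz, hz' 0, hz' 1, ?_⟩
  have h4 : H z p = 0 := by
    have := hz' 2
    simp only [Matrix.cons_val] at this
    rw [H_smul_right] at this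
    exact (mul_eq_zero.1 this).resolve_left (pow_ne_zero _ hc0)
  have e : y = p + H y v • v + H y x • x := by rw [hp]; abel
  have hzv : H z v = 0 := hz' 0
  have hzx : H z x = 0 := hz' 1
  rw [e, H_add_right hF, H_add_right hF, H_smul_right, H_smul_right, h4, hzv, hzx]
  ring

/-- A linked pair lies in the span of an orthonormal pair. -/
theorem linked_frame (hn : 2 ≤ n) {x x' : Vec} (hx : H x x = 1) (hx' : H x' x' = 1) (h : Linked q x x') :
    ∃ x2 : Vec, H x2 x2 = 1 ∧ H x x2 = 0 ∧ ∃ a b : F, x' = a • x + b • x2 := by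
  rcases h with ⟨a, rfl⟩ | h
  · obtain ⟨z, hz, hzx⟩ := exists_perp_one hF hn hx
    exact ⟨z, hz, sym hF hzx, a, 0, by rw [zero_smul, add_zero]⟩
  · set α := H x' x with hα
    set r := x' - α • x with hr
    have hrr : H r r = 1 - α ^ (q + 1) := by
      simp only [hr, H_sub_left, H_sub_right hF, H_smul_left, H_smul_right, hx, hx', ← hα]
      rw [← H_conj hF x' x, ← hα]
      ring
    have hne : H r r ≠ 0 := by
      rw [hrr]
      exact fun h0 => h (sub_eq_zero.1 h0).symm
    obtain ⟨c, hc0, hc⟩ := exists_normalise hF hne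
    refine ⟨c • r, hc, ?_, α, c⁻¹, ?_⟩
    · rw [hr, H_smul_right, H_sub_right hF, H_smul_right, hx, ← H_conj hF x' x, ← hα, mul_one, sub_self,
        mul_zero]
    · rw [smul_smul, inv_mul_cancel₀ hc0, one_smul, hr]
      abel

/-- The isotropic rest of an unlinked pair. -/
theorem unlinked_rest {x x' : Vec} (hx : H x x = 1) (hx' : H x' x' = 1) (h : ¬ Linked q x x') :
    x' - H x' x • x ≠ 0 ∧ H (x' - H x' x • x) (x' - H x' x • x) = 0 ∧ H (x' - H x' x • x) x = 0 ∧
      H x' x ^ (q + 1) = 1 := by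
  have h1 : H x' x ^ (q + 1) = 1 := by
    by_contra hne
    exact h (Or.inr hne)
  refine ⟨fun h0 => h (Or.inl ⟨_, sub_eq_zero.1 h0⟩), ?_, ?_, h1⟩
  · simp only [H_sub_left, H_sub_right hF, H_smul_left, H_smul_right, hx, hx']
    rw [← H_conj hF x' x]
    linear_combination -h1
  · rw [H_sub_left, H_smul_left, hx, mul_one, sub_self]

/-- A go-between for two unlinked perpendiculars, if there is room. -/
theorem exists_between (hq : 2 < q) {e v x x' : Vec} (hx : H x x = 1) (hx' : H x' x' = 1) (h1 : H x e = 0)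
    (h2 : H x v = 0) (h1' : H x' e = 0) (h2' : H x' v = 0) (hl : ¬ Linked q x x')
    (hr : x' - H x' x • x ∉ Submodule.span F ({e, v, x} : Set Vec)) :
    ∃ z : Vec, H z z = 1 ∧ H z e = 0 ∧ H z v = 0 ∧ Linked q x z ∧ Linked q z x' := by
  obtain ⟨-, hrr, hrx, -⟩ := unlinked_rest hF hx hx' hl
  set α := H x' x with hα
  set r := x' - α • x with hrdef
  have hrT : ∀ t ∈ ({e, v, x} : Set Vec), H r t = 0 := by
    rintro t (rfl | rfl | rfl)
    · rw [hrdef, H_sub_left, H_smul_left, h1', h1]; ring
    · rw [hrdef, H_sub_left, H_smul_left, h2', h2]; ring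
    · exact hrx
  obtain ⟨b, hb0, hb1⟩ := exists_pow_ne_one hF (by omega : q ≠ 2)
  obtain ⟨z, hz, hzT, hzr⟩ := exists_unit_hit hF hrr hrT hr hb0
  have hzx : H z x = 0 := hzT x (by simp)
  refine ⟨z, hz, hzT e (by simp), hzT v (by simp), Or.inr ?_, Or.inr ?_⟩
  · rw [hzx, zero_pow (by omega)]; exact zero_ne_one
  · have hzx' : H z x' = b := by
      rw [show x' = r + α • x by rw [hrdef]; abel, H_add_right hF, H_smul_right, hzr, hzx]; ring
    rw [← H_conj hF z x', hzx']
    intro h6
    apply hb1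
    have h7 := congrArg (fun t : F => t ^ q) h6
    simp only [one_pow, ← pow_mul] at h7
    rw [← h7]
    rw [show q * (q + 1) * q = q ^ 2 * (q + 1) by ring, pow_mul, ← hF, FiniteField.pow_card]

/-- The choice of a perpendicular making the second diagonal triple non-degenerate. -/
theorem exists_pent_perp (hn : 4 ≤ n) (hq : 2 < q) {e v x y : Vec} (he : H e e = 1) (hv : H v v = 1)
    (hx : H x x = 1) (hy : H y y = 1) (hxe : H x e = 0) (hxv : H x v = 0) (hye : H y e = 0)
    (hyv : H y v ≠ 0) (hev : H e v ≠ 0) :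
    ∃ x' : Vec, H x' x' = 1 ∧ H x' e = 0 ∧ H x' v = 0 ∧
      H y y - H y v ^ (q + 1) - H y x' ^ (q + 1) ≠ 0 := by
  set k := 1 - H y v ^ (q + 1) with hk
  suffices h : ∃ x' : Vec, H x' x' = 1 ∧ H x' e = 0 ∧ H x' v = 0 ∧ H y x' ^ (q + 1) ≠ k by
    obtain ⟨x', a, b, c, d⟩ := h
    exact ⟨x', a, b, c, fun h0 => d (by rw [hk]; rw [hy] at h0; linear_combination -h0)⟩
  obtain ⟨b, hb0, hb1⟩ := exists_pow_ne_one hF (by omega : q ≠ 2)
  have pick : ∃ β : F, β ≠ 0 ∧ β ^ (q + 1) ≠ k := by
    by_cases hk1 : k = 1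
    · exact ⟨b, hb0, hk1 ▸ hb1⟩
    · exact ⟨1, one_ne_zero, by rw [one_pow]; exact fun h => hk1 h.symm⟩
  obtain ⟨β, hβ0, hβ⟩ := pick
  by_cases hl : Linked q e v
  · obtain ⟨f, hf, hef, a, b', hvf⟩ := linked_frame hF (by omega) he hv hl
    obtain ⟨p0, p1, -⟩ := rest_perp hF (y := y) he hf hef
    rw [hye] at p0 p1
    simp only [zero_smul, sub_zero] at p0 p1
    set p := y - H y f • f with hp
    have perp_v : ∀ {z : Vec}, H z e = 0 → H z f = 0 → H z v = 0 := fun {z} h1 h2 => by
      rw [hvf, H_add_right hF, H_smul_right, H_smul_right, h1, h2]; ring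
    have hyz : ∀ {z : Vec}, H z f = 0 → H y z = H p z := fun {z} h2 => by
      rw [hp, H_sub_left, H_smul_left, sym hF h2]; ring
    rcases eq_or_ne p 0 with hp0 | hp0
    · refine ⟨x, hx, hxe, hxv, fun h0 => ?_⟩
      have hb' : b' ≠ 0 := by
        rintro rfl
        apply hyv
        rw [hvf, zero_smul, add_zero, H_smul_right, hye, mul_zero]
      have hxf : H x f = 0 := by
        have := hxv
        rw [hvf, H_add_right hF, H_smul_right, H_smul_right, hxe, mul_zero, zero_add] at this
        exact (mul_eq_zero.1 this).resolve_left (pow_ne_zero _ hb')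
      rw [hyz hxf, hp0, H_zero_left, zero_pow (by omega)] at h0
      -- `y` is then the second frame vector up to a scalar
      set μ := H y f with hμ
      have hyf : y = μ • f := sub_eq_zero.1 hp0
      have hμ1 : μ ^ (q + 1) = 1 := by
        have := hy
        rwa [hyf, UnitaryCount.hermForm_smul_smul, hf, mul_one] at this
      have hv1 : a ^ (q + 1) + b' ^ (q + 1) = 1 := by
        have := hv
        rw [hvf] at this
        simp only [H_add_left, H_add_right hF, H_smul_left, H_smul_right, he, hf, hef, sym hF hef] at this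
        linear_combination this
      have hyv' : H y v = μ * b' ^ q := by
        rw [hyf, hvf, H_add_right hF, H_smul_left, H_smul_left, H_smul_right, H_smul_right, hf, sym hF hef]
        ring
      rw [hk, hyv', mul_pow, hμ1, one_mul, ← pow_mul, mul_comm q, pow_mul, norm_fix hF] at h0
      apply hev
      have ha : a ^ (q + 1) = 0 := by linear_combination hv1 - h0
      rw [hvf, H_add_right hF, H_smul_right, H_smul_right, hef, mul_zero, add_zero,
        (pow_eq_zero_iff (by omega)).1 ha, zero_pow (by omega), zero_mul]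
    · by_cases hpp : H p p = 0
      · obtain ⟨z, hz, hzT, hzp⟩ := exists_unit_hit hF (T := ({e, f} : Set Vec)) hpp
          (by rintro t (rfl | rfl); exacts [p0, p1])
          (fun hs => hp0 <| by
            obtain ⟨c, d, hcd⟩ := Submodule.mem_span_pair.1 hs
            have e1 : H p e = c := by
              rw [← hcd, H_add_left, H_smul_left, H_smul_left, he, sym hF hef]; ring
            have e2 : H p f = d := by
              rw [← hcd, H_add_left, H_smul_left, H_smul_left, hf, hef]; ring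
            rw [p0] at e1
            rw [p1] at e2
            rw [← hcd, ← e1, ← e2, zero_smul, zero_smul, add_zero]) hβ0
        have hzf : H z f = 0 := hzT f (by simp)
        refine ⟨z, hz, hzT e (by simp), perp_v (hzT e (by simp)) hzf, ?_⟩
        rw [hyz hzf, ← H_conj hF z p, hzp, ← pow_mul, mul_comm q, pow_mul, norm_fix hF]
        exact hβ
      · obtain ⟨c, hc0, hc⟩ := exists_normalise hF hpp
        by_cases hk0 : k = 0
        · have hcf : H (c • p) f = 0 := by rw [H_smul_left, p1, mul_zero]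
          have hce : H (c • p) e = 0 := by rw [H_smul_left, p0, mul_zero]
          refine ⟨c • p, hc, hce, perp_v hce hcf, ?_⟩
          rw [hyz hcf, hk0, H_smul_right]
          exact pow_ne_zero _ (mul_ne_zero (pow_ne_zero _ hc0) hpp)
        · obtain ⟨z, hz, hz'⟩ := exists_unit_perp hF ![e, f, c • p] ![e, f, c • p]
            (triple_frame hF he hf hc hef (by rw [H_smul_right, sym hF p0, mul_zero])
              (by rw [H_smul_right, sym hF p1, mul_zero])) id (fun _ => rfl) (by omega)
          have hzf : H z f = 0 := hz' 1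
          refine ⟨z, hz, hz' 0, perp_v (hz' 0) hzf, ?_⟩
          have h3 : H z p = 0 := by
            have := hz' 2
            simp only [Matrix.cons_val] at this
            rw [H_smul_right] at this
            exact (mul_eq_zero.1 this).resolve_left (pow_ne_zero _ hc0)
          rw [hyz hzf, sym hF h3, zero_pow (by omega)]
          exact fun h => hk0 h.symm
  · obtain ⟨-, hrr, hre, -⟩ := unlinked_rest hF he hv hl
    set r := v - H v e • e with hr
    have hyr : H y r = H y v := by rw [hr, H_sub_right hF, H_smul_right, hye]; ring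
    have hxr : H x r = 0 := by rw [hr, H_sub_right hF, H_smul_right, hxe, hxv]; ring
    obtain ⟨t, ht⟩ : ∃ t, t * H y r = β - H y x := ⟨(β - H y x) / H y r,
      div_mul_cancel₀ _ (hyr ▸ hyv)⟩
    refine ⟨x + t ^ q • r, ?_, ?_, ?_, ?_⟩
    · simp only [H_add_left, H_add_right hF, H_smul_left, H_smul_right, hx, hxr, sym hF hxr, hrr]; ring
    · rw [H_add_left, H_smul_left, hxe, hre]; ring
    · have hrv : H r v = 0 := by
        rw [show v = r + H v e • e by rw [hr]; abel, H_add_right hF, H_smul_right, hrr, hre]; ring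
      rw [H_add_left, H_smul_left, hxv, hrv]; ring
    · rw [H_add_right hF, H_smul_right, pow_qq hF, ht, add_sub_cancel]
      exact hβ

end Cfsg.Agent.Phan.Orth
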