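import Cfsg.Agent.Lib.Phan.SubTwo
import Cfsg.Agent.Lib.Phan.Main
import Mathlib

/-!
Phan's hypothesis makes adjacent pairs standard.
-/

set_option autoImplicit false
set_option linter.unusedSectionVars false
set_option linter.unusedSimpArgs false

namespace Cfsg.Agent.Phan.Recog

open Matrix MulAction
open Cfsg.Agent.Forms Cfsg.Agent.Classical Cfsg.Agent.Classical.Unitary
open Cfsg.Agent.SimpleFacts.SUMult Blocks CosetGeom
open Cfsg.Agent.Phan.Orth Cfsg.Agent.Phan.Cov Cfsg.Agent.Phan.Base Cfsg.Agent.Phan.Shift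

universe u v

variable {F : Type u} [Field F] [Fintype F] {q : ℕ} {G : Type v} [Group G]
variable (hF : Fintype.card F = q ^ 2) (hq : 3 < q)

local notation "H" => Cfsg.hermForm 3 F q
local notation "S3" => Cfsg.SU 3 F q

include hF hq

/-- An element of order `q + 1` of a point stabiliser fixes no other line. -/
theorem fixed_line {u : UVec F q 3} {d : S3} (hd : d • u = u) (ho : orderOf d = q + 1) {x : Fin 3 → F}
    (hx : mat d *ᵥ x = x) : x = H x u.1 • u.1 := by
  obtain ⟨k, hk⟩ := exists_su_frame hF (n := 3) (f := ![(sv hF (0 : Fin 3)).1]) (f' := ![u.1]) (by omega)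
    (one_frame (sv hF (0 : Fin 3)).2) (one_frame u.2)
  have hku : k • sv hF (0 : Fin 3) = u := Subtype.ext (hk 0)
  have hmem : k⁻¹ * d * k ∈ stabilizer S3 (sv hF (0 : Fin 3)) := conj_fix' hd hku
  rw [stab_first hF (M := 2)] at hmem
  obtain ⟨g, hg⟩ := hmem
  have hog : orderOf g = q + 1 := by
    have h1 := orderOf_injective (shift (F := F) (q := q) 1 2 3 (by omega)) (shift_injective _ hF) g
    rw [hg] at h1
    rw [← h1, ← ho, show k⁻¹ * d * k = MulAut.conj k⁻¹ d by simp]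
    exact orderOf_injective (MulAut.conj k⁻¹).toMonoidHom (MulAut.conj k⁻¹).injective d
  -- no fixed vector for the block element
  have hfree : ∀ z : Fin 2 → F, mat g *ᵥ z = z → z = 0 := by
    intro z hz
    by_contra hz0
    obtain ⟨g11, g10, -, -⟩ := TwoAut.shape hF g
    have gd : mat g 0 0 * mat g 1 1 - mat g 0 1 * mat g 1 0 = 1 := by
      rw [← Matrix.det_fin_two]; exact g.1.2
    have hdet : (mat g - 1).det = 0 := Matrix.exists_mulVec_eq_zero_iff.1
      ⟨z, hz0, by rw [Matrix.sub_mulVec, one_mulVec, hz, sub_self]⟩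
    rw [Matrix.det_fin_two] at hdet
    simp at hdet
    have htr : mat g 1 1 = 2 - mat g 0 0 := by linear_combination gd - hdet
    set N := mat g - 1 with hN
    have hNN : N * N = 0 := by
      ext i j
      fin_cases i <;> fin_cases j <;> simp [hN, Matrix.mul_apply, Fin.sum_univ_two, htr] <;>
        first
          | linear_combination -gd + mat g 0 0 * htr
          | ring
    obtain ⟨p, hp⟩ := CharP.exists F
    have hpp : p.Prime := CharP.char_is_prime F p
    have hgn : ∀ m : ℕ, mat (g ^ m) = 1 + (m : F) • N := by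
      intro m
      induction m with
      | zero => simp [mat_one]
      | succ m ih =>
        rw [pow_succ, show mat (g ^ m * g) = mat (g ^ m) * mat g from rfl, ih,
          show mat g = 1 + N by rw [hN]; abel, mul_add, mul_one, add_mul, one_mul, smul_mul_assoc, hNN,
          smul_zero, add_zero, Nat.cast_succ, add_smul, one_smul]
        abel
    have hgp : g ^ p = 1 := SU_ext fun y => by rw [hgn, CharP.cast_eq_zero, zero_smul, add_zero, mat_one]
    have hdvd := orderOf_dvd_of_pow_eq_one hgp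
    rw [hog] at hdvd
    rcases (Nat.dvd_prime hpp).1 hdvd with h1 | h1
    · omega
    · have hc0 : ((q + 1 : ℕ) : F) = 0 := by rw [h1]; exact CharP.cast_eq_zero F p
      have hpq : p ∣ q := by
        have h2 : p ∣ Fintype.card F := (CharP.cast_eq_zero_iff F p _).1 (Nat.cast_card_eq_zero F)
        rw [hF] at h2
        exact hpp.dvd_of_dvd_pow h2
      rw [← h1] at hpq
      have h3 := Nat.le_of_dvd (by omega) hpq
      omega
  set y := mat k⁻¹ *ᵥ x with hy
  have hy' : mat (shift 1 2 3 (by omega) g) *ᵥ y = y := by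
    rw [hg, hy, ← mul_mulVec, show k⁻¹ * d * k * k⁻¹ = k⁻¹ * d by group, mul_mulVec, hx]
  have hz : (fun l : Fin 2 => y ⟨1 + l, by omega⟩) = 0 := hfree _ (funext fun l => by
    have h1 := congrFun hy' ⟨1 + l, by omega⟩
    rw [shift_apply, dif_pos ⟨by simp, by have := l.isLt; simp; omega⟩] at h1
    refine Eq.trans ?_ h1
    exact congrArg _ (Fin.ext (by simp)))
  have hysv : y = y 0 • (sv hF (0 : Fin 3)).1 := by
    have a0 : y 1 = 0 := congrFun hz 0
    have a1 : y 2 = 0 := congrFun hz 1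
    funext i
    fin_cases i <;> simp [sv, a0, a1]
  have hxy : x = y 0 • u.1 := by
    calc x = mat k *ᵥ y := by rw [hy, ← mul_mulVec, mul_inv_cancel, mat_one, one_mulVec]
      _ = mat k *ᵥ (y 0 • (sv hF (0 : Fin 3)).1) := congrArg _ hysv
      _ = y 0 • u.1 := by rw [Matrix.mulVec_smul, ← smul_val, hku]
  rw [hxy, H_smul_left, u.2, mul_one]

/-- Two generating `SU₂` subgroups with commuting tori are stabilisers of orthogonal vectors. -/
theorem perp_of_tori {A B : Subgroup S3} (eA : Nonempty (Cfsg.SU 2 F q ≃* A))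
    (eB : Nonempty (Cfsg.SU 2 F q ≃* B)) (hsup : A ⊔ B = ⊤) {a b : S3} (ha : a ∈ A) (hb : b ∈ B)
    (hoa : orderOf a = q + 1) (hob : orderOf b = q + 1) (hab : a * b = b * a) :
    ∃ u w : UVec F q 3, A = stabilizer S3 u ∧ B = stabilizer S3 w ∧ Perp u w := by
  obtain ⟨u, rfl⟩ := SubTwo.exists_fixed hF hq eA
  obtain ⟨w, rfl⟩ := SubTwo.exists_fixed hF hq eB
  have hau : a • u = u := ha
  have hbw : b • w = w := hb
  refine ⟨u, w, rfl, rfl, ?_⟩
  have h1 := fixed_line hF hq hbw hob (x := mat a *ᵥ w.1) (by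
    rw [← mul_mulVec, ← hab, mul_mulVec, ← smul_val b w, hbw])
  set l := H (mat a *ᵥ w.1) w.1 with hl
  have h2 : H w.1 u.1 = l * H w.1 u.1 := by
    have := SU_H a w.1 u.1
    rw [h1, ← smul_val a u, hau, H_smul_left] at this
    exact this.symm
  by_contra hne
  have hwu : H w.1 u.1 ≠ 0 := fun h => hne (sym hF h)
  have hl1 : l = 1 := (mul_right_cancel₀ hwu (by rw [one_mul]; exact h2)).symm
  rw [hl1, one_smul] at h1
  have h3 := fixed_line hF hq hau hoa h1
  -- then the two stabilisers coincide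
  have hle : stabilizer S3 w ≤ stabilizer S3 u := by
    intro g hg
    refine mem_stabilizer_iff.2 (Subtype.ext ?_)
    have h4 : mat g *ᵥ w.1 = w.1 := congrArg Subtype.val hg
    rw [smul_val]
    have h5 : u.1 = (H w.1 u.1)⁻¹ • w.1 := by
      calc u.1 = (H w.1 u.1)⁻¹ • (H w.1 u.1 • u.1) := by rw [smul_smul, inv_mul_cancel₀ hwu, one_smul]
        _ = (H w.1 u.1)⁻¹ • w.1 := by rw [← h3]
    rw [h5, Matrix.mulVec_smul, h4]
  rw [sup_eq_left.2 hle] at hsup
  have hcard := SubTwo.card_stab hF u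
  rw [hsup, Subgroup.card_top] at hcard
  have hlt : Nat.card (Cfsg.SU 2 F q) < Nat.card S3 := by
    refine lt_of_le_of_ne (Nat.card_le_card_of_injective _ (shift_injective (i := 1) (k := 2) (N := 3) le_rfl hF)) ?_
    intro he
    obtain ⟨z, hz, hzu⟩ := exists_perp_one hF (n := 3) (by omega) (sv hF (0 : Fin 3)).2
    obtain ⟨m, hm⟩ := exists_su_frame hF (n := 3) (f := ![(sv hF (0 : Fin 3)).1]) (f' := ![z]) (by omega)
      (one_frame (sv hF (0 : Fin 3)).2) (one_frame hz)
    have htop : stabilizer S3 (sv hF (0 : Fin 3)) = ⊤ := Subgroup.eq_top_of_card_eq _ (by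
      rw [SubTwo.card_stab hF]; exact he)
    have hm' : m • sv hF (0 : Fin 3) = sv hF (0 : Fin 3) := by
      have : m ∈ stabilizer S3 (sv hF (0 : Fin 3)) := htop ▸ Subgroup.mem_top m
      exact this
    have e1 : z = (sv hF (0 : Fin 3)).1 := (hm 0).symm.trans (congrArg Subtype.val hm')
    rw [e1, (sv hF (0 : Fin 3)).2] at hzu
    exact one_ne_zero hzu
  omega

/-- Phan's hypothesis gives a standard pair. -/
theorem standard {A B : Subgroup G} (eA : Cfsg.SU 2 F q ≃* A) (eB : Cfsg.SU 2 F q ≃* B)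
    (hiso : Nonempty (↥(A ⊔ B) ≃* S3)) {DA DB : Subgroup G}
    (hA : DA ≤ A ∧ IsCyclic DA ∧ Nat.card DA = q + 1) (hB : DB ≤ B ∧ IsCyclic DB ∧ Nat.card DB = q + 1)
    (hcomm : ∀ x ∈ DA, ∀ y ∈ DB, x * y = y * x) : Cfsg.IsStandardUnitaryPair (A ⊔ B) A B F q := by
  obtain ⟨ψ⟩ := hiso
  set V := A ⊔ B with hV
  have hAV : A ≤ V := le_sup_left
  have hBV : B ≤ V := le_sup_right
  set θ : S3 →* G := V.subtype.comp ψ.symm.toMonoidHom with hθ
  have hθi : Function.Injective θ := V.subtype_injective.comp ψ.symm.injective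
  have hθr : θ.range = V := by
    rw [hθ, MonoidHom.range_comp, MonoidHom.range_eq_top.2 ψ.symm.surjective, ← MonoidHom.range_eq_map,
      Subgroup.range_subtype]
  have mA : (A.comap θ).map θ = A := Subgroup.map_comap_eq_self (hθr ▸ hAV)
  have mB : (B.comap θ).map θ = B := Subgroup.map_comap_eq_self (hθr ▸ hBV)
  have eA' : Nonempty (Cfsg.SU 2 F q ≃* A.comap θ) :=
    ⟨eA.trans ((Subgroup.equivMapOfInjective _ θ hθi).trans (MulEquiv.subgroupCongr mA)).symm⟩
  have eB' : Nonempty (Cfsg.SU 2 F q ≃* B.comap θ) :=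
    ⟨eB.trans ((Subgroup.equivMapOfInjective _ θ hθi).trans (MulEquiv.subgroupCongr mB)).symm⟩
  have hsup : A.comap θ ⊔ B.comap θ = ⊤ := Subgroup.map_injective hθi (by
    rw [Subgroup.map_sup, mA, mB, ← MonoidHom.range_eq_map, hθr])
  obtain ⟨hAD, hAc, hAn⟩ := hA
  obtain ⟨hBD, hBc, hBn⟩ := hB
  obtain ⟨⟨a0, ha0⟩, hga⟩ := IsCyclic.exists_generator (α := DA)
  obtain ⟨⟨b0, hb0⟩, hgb⟩ := IsCyclic.exists_generator (α := DB)
  obtain ⟨a, rfl⟩ : a0 ∈ θ.range := hθr ▸ hAV (hAD ha0)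
  obtain ⟨b, rfl⟩ : b0 ∈ θ.range := hθr ▸ hBV (hBD hb0)
  have hoa : orderOf a = q + 1 := by
    rw [← orderOf_injective θ hθi a, ← hAn, ← orderOf_eq_card_of_forall_mem_zpowers hga, ← Subgroup.orderOf_coe]
  have hob : orderOf b = q + 1 := by
    rw [← orderOf_injective θ hθi b, ← hBn, ← orderOf_eq_card_of_forall_mem_zpowers hgb, ← Subgroup.orderOf_coe]
  obtain ⟨u, w, hu, hw, huw⟩ := perp_of_tori hF hq eA' eB' hsup (a := a) (b := b) (hAD ha0) (hBD hb0) hoa hob
    (hθi (by rw [map_mul, map_mul]; exact hcomm _ ha0 _ hb0))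
  obtain ⟨k, hk⟩ := exists_su_frame hF (n := 3) (f := ![(sv hF (2 : Fin 3)).1, (sv hF (0 : Fin 3)).1])
    (f' := ![u.1, w.1]) (by omega)
    (pair_frame (sv hF (2 : Fin 3)).2 (sv hF (0 : Fin 3)).2 (perp_sv hF (by decide)) (perp_sv hF (by decide)))
    (pair_frame u.2 w.2 huw (sym hF huw))
  have hku : k • sv hF (2 : Fin 3) = u := Subtype.ext (hk 0)
  have hkw : k • sv hF (0 : Fin 3) = w := Subtype.ext (hk 1)
  have key : ∀ (x y : UVec F q 3), k • x = y →
      (stabilizer S3 x).map (MulAut.conj k).toMonoidHom = stabilizer S3 y := by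
    intro x y h
    rw [← h, stabilizer_smul_eq_stabilizer_map_conj]
  refine Or.inl ⟨(MulAut.conj k).trans ψ.symm, ?_, ?_⟩
  · rw [suBlock_eq hF (i := 0) (k := 2) (by omega) _ (fun j => by fin_cases j <;> simp),
      ← stab_last hF (M := 2), ← mA, hu, ← key _ u hku, Subgroup.map_map]
    rfl
  · rw [suBlock_eq hF (i := 1) (k := 2) (by omega) _ (fun j => by fin_cases j <;> simp),
      ← stab_first hF (M := 2), ← mB, hw, ← key _ w hkw, Subgroup.map_map]
    rfl

/-- Phan's theorem. -/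
theorem surj (n : ℕ) (hn : 2 ≤ n) (U : Fin n → Subgroup G) (e : ∀ i, ↥(Cfsg.SU 2 F q) ≃* ↥(U i))
    (hgen : ⨆ i, U i = ⊤) (D : Fin n → Subgroup G)
    (hD : ∀ i, D i ≤ U i ∧ IsCyclic ↥(D i) ∧ Nat.card ↥(D i) = q + 1)
    (h1 : ∀ i j : Fin n, (i : ℕ) + 2 ≤ j → ∀ x ∈ U i, ∀ y ∈ U j, x * y = y * x)
    (h2 : ∀ i j : Fin n, (i : ℕ) + 1 = j → Nonempty (↥(U i ⊔ U j) ≃* ↥(Cfsg.SU 3 F q)))
    (h3 : ∀ i j : Fin n, i ≠ j → ∀ x ∈ D i, ∀ y ∈ D j, x * y = y * x) :
    ∃ f : ↥(Cfsg.SU (n + 1) F q) →* G, Function.Surjective f := by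
  by_cases h : n = 2
  · subst h
    obtain ⟨ψ⟩ := h2 0 1 rfl
    have htop : U 0 ⊔ U 1 = ⊤ := top_le_iff.1 (hgen ▸ iSup_le fun i => by
      fin_cases i
      exacts [le_sup_left, le_sup_right])
    refine ⟨(U 0 ⊔ U 1).subtype.comp ψ.symm.toMonoidHom, fun g => ?_⟩
    exact ⟨ψ ⟨g, htop ▸ Subgroup.mem_top g⟩, by simp⟩
  refine Main.surj hF (by omega) hq n (by omega) U e (fun i j => U i ⊔ U j) h1 (fun i j hij => ?_) ?_
  · exact standard hF hq (e i) (e j) (h2 i j hij) (hD i) (hD j) (h3 i j (fun h => by rw [h] at hij; omega))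
  · rw [eq_top_iff, ← hgen]
    exact le_sup_left

end Cfsg.Agent.Phan.Recog
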