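import Cfsg.Agent.Lib.Phan.Base
import Cfsg.Prelude.Def_PhanSystems
import Mathlib

/-!
Windows of consecutive coordinates in special unitary groups, and generation by adjacent windows.
-/

set_option autoImplicit false
set_option linter.unusedSectionVars false
set_option linter.unusedSimpArgs false

namespace Cfsg.Agent.Phan.Shift

open Matrix MulAction
open Cfsg.Agent.Forms Cfsg.Agent.Classical Cfsg.Agent.Classical.Unitary
open Cfsg.Agent.SimpleFacts.SUMult Blocks CosetGeom
open Cfsg.Agent.Phan.Orth Cfsg.Agent.Phan.Cov Cfsg.Agent.Phan.Base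

universe u

variable {F : Type u} [Field F] [Fintype F] {q : ℕ}

/-- Transport along an equality of dimensions. -/
def suCast {N N' : ℕ} (h : N = N') : Cfsg.SU N F q →* Cfsg.SU N' F q := h ▸ MonoidHom.id _

theorem suCast_mulVec {N N' : ℕ} (h : N = N') (g : Cfsg.SU N F q) (x : Fin N' → F) (j : Fin N') :
    (mat (suCast h g) *ᵥ x) j = (mat g *ᵥ fun l => x (Fin.cast h l)) (Fin.cast h.symm j) := by
  subst h
  rfl

theorem suCast_injective {N N' : ℕ} (h : N = N') :
    Function.Injective (suCast (F := F) (q := q) h) := by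
  subst h
  exact fun a b hab => hab

/-- The special unitary group on the coordinates `i, …, i + k - 1`. -/
def shift (i k N : ℕ) (h : i + k ≤ N) : Cfsg.SU k F q →* Cfsg.SU N F q :=
  (suCast (Nat.add_sub_cancel' h)).comp
    ((blkL (k := i + k) (m := N - (i + k))).comp (blkR (k := i) (m := k)))

theorem core {i k m : ℕ} (g : Cfsg.SU k F q) (x : Fin (i + k + m) → F) (j : Fin (i + k + m)) :
    (mat (blkL (m := m) (blkR (k := i) g)) *ᵥ x) j =
      if hj : i ≤ (j : ℕ) ∧ (j : ℕ) < i + k then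
        (mat g *ᵥ fun l => x ⟨i + l, by omega⟩) ⟨j - i, by omega⟩ else x j := by
  conv_lhs => rw [← eta x]
  rw [blkL_mulVec, ← eta (fun a => x (Fin.castAdd m a)), blkR_mulVec]
  induction j using Fin.addCases with
  | left a =>
    rw [Fin.append_left]
    induction a using Fin.addCases with
    | left b =>
      rw [Fin.append_left, dif_neg]
      simp only [Fin.val_castAdd]
      omega
    | right b =>
      rw [Fin.append_right, dif_pos (by simp)]
      simp only [Fin.val_castAdd, Fin.val_natAdd, Nat.add_sub_cancel_left, Fin.eta]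
      rfl
  | right a =>
    rw [Fin.append_right, dif_neg]
    simp only [Fin.val_natAdd]
    omega

theorem shift_apply {i k N : ℕ} (h : i + k ≤ N) (g : Cfsg.SU k F q) (x : Fin N → F) (j : Fin N) :
    (mat (shift i k N h g) *ᵥ x) j =
      if hj : i ≤ (j : ℕ) ∧ (j : ℕ) < i + k then
        (mat g *ᵥ fun l => x ⟨i + l, by omega⟩) ⟨j - i, by omega⟩ else x j := by
  rw [shift, MonoidHom.comp_apply, MonoidHom.comp_apply, suCast_mulVec, core]
  rfl

theorem shift_comp {i k M i' N : ℕ} (h : i + k ≤ M) (h' : i' + M ≤ N) (g : Cfsg.SU k F q) :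
    shift i' M N h' (shift i k M h g) = shift (i' + i) k N (by omega) g := by
  refine SU_ext fun x => funext fun j => ?_
  rw [shift_apply, shift_apply]
  by_cases h1 : i' ≤ (j : ℕ) ∧ (j : ℕ) < i' + M
  · rw [dif_pos h1, shift_apply]
    by_cases h2 : i' + i ≤ (j : ℕ) ∧ (j : ℕ) < i' + i + k
    · rw [dif_pos (by simp; omega), dif_pos h2]
      have e1 : (fun l : Fin k => x ⟨i' + (i + (l : ℕ)), by omega⟩) =
          fun l : Fin k => x ⟨i' + i + l, by omega⟩ :=
        funext fun l => congrArg x (Fin.ext (by simp; omega))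
      have e2 : (⟨(j : ℕ) - i' - i, by omega⟩ : Fin k) = ⟨(j : ℕ) - (i' + i), by omega⟩ := Fin.ext (by simp; omega)
      rw [e1, e2]
    · rw [dif_neg (by simp; omega), dif_neg h2]
      exact congrArg x (Fin.ext (by simp; omega))
  · rw [dif_neg h1, dif_neg (by omega)]

theorem shift_self {N : ℕ} (h : 0 + N ≤ N) (g : Cfsg.SU N F q) : shift 0 N N h g = g := by
  refine SU_ext fun x => funext fun j => ?_
  rw [shift_apply, dif_pos (by simp)]
  simp only [zero_add, Fin.eta, Nat.sub_zero]

theorem shift_congr {i i' k N : ℕ} (e : i = i') (h : i + k ≤ N) (g : Cfsg.SU k F q) :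
    shift i k N h g = shift i' k N (e ▸ h) g := by
  subst e
  rfl

theorem shift_outside {i k N : ℕ} (h : i + k ≤ N) (g : Cfsg.SU k F q) {j : Fin N}
    (hj : ¬ (i ≤ (j : ℕ) ∧ (j : ℕ) < i + k)) :
    mat (shift i k N h g) *ᵥ (Pi.single j 1 : Fin N → F) = Pi.single j 1 := by
  funext l
  rw [shift_apply]
  by_cases hl : i ≤ (l : ℕ) ∧ (l : ℕ) < i + k
  · rw [dif_pos hl]
    have : (fun a : Fin k => (Pi.single j 1 : Fin N → F) ⟨i + a, by omega⟩) = 0 := funext fun a => by
      rw [Pi.single_apply, if_neg (by simp [Fin.ext_iff]; omega)]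
      rfl
    rw [this, Matrix.mulVec_zero, Pi.single_apply, if_neg (by simp [Fin.ext_iff]; omega)]
    rfl
  · rw [dif_neg hl]

theorem shift_commute {i k i' k' N : ℕ} (h : i + k ≤ N) (h' : i' + k' ≤ N) (hd : i + k ≤ i')
    (g : Cfsg.SU k F q) (g' : Cfsg.SU k' F q) :
    shift i k N h g * shift i' k' N h' g' = shift i' k' N h' g' * shift i k N h g := by
  refine SU_ext fun x => funext fun j => ?_
  rw [mul_mulVec, mul_mulVec, shift_apply h g (mat (shift i' k' N h' g') *ᵥ x) j,
    shift_apply h' g' (mat (shift i k N h g) *ᵥ x) j]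
  by_cases h1 : i ≤ (j : ℕ) ∧ (j : ℕ) < i + k
  · rw [dif_pos h1, dif_neg (by omega), shift_apply h g x j, dif_pos h1]
    have : (fun l : Fin k => (mat (shift i' k' N h' g') *ᵥ x) ⟨i + l, by omega⟩) =
        fun l : Fin k => x ⟨i + l, by omega⟩ := funext fun l => by
      rw [shift_apply, dif_neg]
      simp only
      omega
    rw [this]
  · rw [dif_neg h1, shift_apply h' g' x j]
    by_cases h2 : i' ≤ (j : ℕ) ∧ (j : ℕ) < i' + k'
    · rw [dif_pos h2, dif_pos h2]
      have : (fun l : Fin k' => (mat (shift i k N h g) *ᵥ x) ⟨i' + l, by omega⟩) =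
          fun l : Fin k' => x ⟨i' + l, by omega⟩ := funext fun l => by
        rw [shift_apply, dif_neg]
        simp only
        omega
      rw [this]
    · rw [dif_neg h2, dif_neg h2, shift_apply h g x j, dif_neg h1]

theorem shift_injective {i k N : ℕ} (h : i + k ≤ N) (hF : Fintype.card F = q ^ 2) :
    Function.Injective (shift (F := F) (q := q) i k N h) := by
  intro a b hab
  have h1 := suCast_injective _ hab
  have h2 : blkR (k := i) a = blkR (k := i) b := (Prod.ext_iff.1 (suBlk_injective h1)).1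
  exact blkR_injective hF h2

variable (hF : Fintype.card F = q ^ 2)

/-- A standard vector. -/
def sv (hF : Fintype.card F = q ^ 2) {N : ℕ} (j : Fin N) : UVec F q N :=
  ⟨Pi.single j 1, by rw [H_single_single hF, if_pos rfl]⟩

include hF

theorem perp_sv {N : ℕ} {i j : Fin N} (h : i ≠ j) : Perp (sv hF i) (sv hF j) := by
  show Cfsg.hermForm N F q _ _ = 0
  simp only [sv]
  rw [H_single_single hF, if_neg h]

/-- The range of a window. -/
theorem mem_range {i k N : ℕ} (h : i + k ≤ N) (g : Cfsg.SU N F q) :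
    g ∈ (shift i k N h).range ↔ ∀ j : Fin N, ¬ (i ≤ (j : ℕ) ∧ (j : ℕ) < i + k) →
      mat g *ᵥ (Pi.single j 1 : Fin N → F) = Pi.single j 1 := by
  refine ⟨?_, fun hg => ?_⟩
  · rintro ⟨a, rfl⟩ j hj
    exact shift_outside h a hj
  obtain ⟨r, rfl⟩ : ∃ r, N = r + k := ⟨N - k, by omega⟩
  let σ : Fin r → Fin (r + k) := fun l =>
    if hl : (l : ℕ) < i then ⟨l, by omega⟩ else ⟨l + k, by omega⟩
  have hσv : ∀ l, (σ l : ℕ) = if (l : ℕ) < i then (l : ℕ) else l + k := fun l => by
    simp only [σ]; split_ifs <;> rfl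
  have hf : IsFrame q (fun l => (Pi.single (σ l) 1 : Fin (r + k) → F)) := by
    intro a b
    rw [H_single_single hF]
    by_cases hab : a = b
    · rw [if_pos (by rw [hab]), if_pos hab]
    · rw [if_neg hab, if_neg]
      intro hc
      apply hab
      have := congrArg Fin.val hc
      rw [hσv, hσv] at this
      exact Fin.ext (by split_ifs at this <;> omega)
  obtain ⟨eq⟩ := fix_frame_equiv hF hf
  set Fx := fix (q := q) (Set.range fun l => (Pi.single (σ l) 1 : Fin (r + k) → F)) with hFx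
  have hle : (shift i k (r + k) h).range ≤ Fx := by
    rintro _ ⟨a, rfl⟩ _ ⟨l, rfl⟩
    refine shift_outside h a ?_
    rw [hσv]
    split_ifs <;> omega
  have heq : (shift i k (r + k) h).range = Fx := by
    refine Subgroup.eq_of_le_of_card_ge hle ?_
    rw [Nat.card_congr eq.toEquiv, Nat.card_congr (MonoidHom.ofInjective (shift_injective h hF)).toEquiv]
  rw [heq]
  rintro _ ⟨l, rfl⟩
  refine hg _ ?_
  rw [hσv]
  split_ifs <;> omega

theorem smul_sv_iff {N : ℕ} (g : Cfsg.SU N F q) (j : Fin N) :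
    g • sv hF j = sv hF j ↔ mat g *ᵥ (Pi.single j 1 : Fin N → F) = Pi.single j 1 :=
  ⟨fun h => congrArg Subtype.val h, fun h => Subtype.ext h⟩

theorem stab_first {M : ℕ} :
    stabilizer (Cfsg.SU (M + 1) F q) (sv hF (0 : Fin (M + 1))) =
      (shift (F := F) (q := q) 1 M (M + 1) (by omega)).range := by
  ext g
  rw [mem_range hF, mem_stabilizer_iff, smul_sv_iff hF]
  refine ⟨fun h j hj => ?_, fun h => h 0 (by simp)⟩
  rw [show j = 0 from Fin.ext (by rw [Fin.val_zero]; omega)]
  exact h

theorem stab_last {M : ℕ} :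
    stabilizer (Cfsg.SU (M + 1) F q) (sv hF (Fin.last M)) =
      (shift (F := F) (q := q) 0 M (M + 1) (by omega)).range := by
  ext g
  rw [mem_range hF, mem_stabilizer_iff, smul_sv_iff hF]
  refine ⟨fun h j hj => ?_, fun h => h _ (by simp)⟩
  rw [show j = Fin.last M from Fin.ext (by simp; omega)]
  exact h

/-- Two point stabilisers generate. -/
theorem stab_sup {N : ℕ} (hN : 3 ≤ N) (hq : 2 < q) {e x0 : UVec F q N} (he0 : Perp e x0) :
    stabilizer (Cfsg.SU N F q) e ⊔ stabilizer (Cfsg.SU N F q) x0 = ⊤ := by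
  set K := stabilizer (Cfsg.SU N F q) e ⊔ stabilizer (Cfsg.SU N F q) x0 with hK
  have hst : ∀ {z : UVec F q N}, Perp e z → stabilizer (Cfsg.SU N F q) z ≤ K := by
    intro z hz g hg
    obtain ⟨k, hk, hkx⟩ := exists_move hF (by omega) he0 hz
    have h1 : k ∈ K := Subgroup.mem_sup_left hk
    have h2 : k⁻¹ * g * k ∈ K := Subgroup.mem_sup_right (conj_fix' hg hkx)
    have := mul_mem (mul_mem h1 h2) (inv_mem h1)
    rwa [show k * (k⁻¹ * g * k) * k⁻¹ = g by group] at this
  have step : ∀ {u v z : UVec F q N}, (∃ h ∈ K, h • e = u) → Perp z u → Perp z v → ∃ h ∈ K, h • e = v := by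
    rintro u v z ⟨h, hh, rfl⟩ hzu hzv
    have hz' : Perp (h⁻¹ • z) e := by
      have := perp_smul h⁻¹ hzu
      rwa [inv_smul_smul] at this
    obtain ⟨m, hm, hme⟩ := exists_move hF (by omega) hz' (perp_smul h⁻¹ hzv)
    exact ⟨h * m, mul_mem hh (hst (Perp.symm hF hz') hm), by rw [mul_smul, hme, smul_inv_smul]⟩
  have linked : ∀ {u v : UVec F q N}, (∃ h ∈ K, h • e = u) → Linked q u.1 v.1 → ∃ h ∈ K, h • e = v := by
    intro u v hu hl
    obtain ⟨f, hf, huf, a, b, hv⟩ := linked_frame hF (by omega) u.2 v.2 hl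
    obtain ⟨z, hz, hzu, hzf⟩ := exists_perp_pair hF hN u.2 hf huf
    refine step (z := ⟨z, hz⟩) hu hzu ?_
    show Cfsg.hermForm N F q z v.1 = 0
    rw [hv, H_add_right hF, H_smul_right, H_smul_right, hzu, hzf]
    ring
  have trans : ∀ v : UVec F q N, ∃ h ∈ K, h • e = v := by
    intro v
    have he : ∃ h ∈ K, h • e = e := ⟨1, one_mem _, one_smul _ _⟩
    by_cases hl : Linked q e.1 v.1
    · exact linked he hl
    obtain ⟨hr0, hrr, hre, hl1⟩ := unlinked_rest hF e.2 v.2 hl
    set l := Cfsg.hermForm N F q v.1 e.1 with hldef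
    set r := v.1 - l • e.1 with hr
    have hve : v.1 = r + l • e.1 := by rw [hr]; abel
    have hrv : Cfsg.hermForm N F q r v.1 = 0 := by
      rw [hve, H_add_right hF, H_smul_right, hrr, hre]; ring
    obtain ⟨b, hb0, hb1⟩ := exists_pow_ne_one hF (by omega : q ≠ 2)
    obtain ⟨y, hy, hyv, hyr⟩ := exists_unit_hit hF (T := ({v.1} : Set (Fin N → F))) hrr
      (by rintro t rfl; exact hrv)
      (fun hs => by
        obtain ⟨c, hc⟩ := Submodule.mem_span_singleton.1 hs
        have h1 := hrv
        rw [← hc, H_smul_left, v.2, mul_one] at h1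
        exact hr0 (by rw [← hc, h1, zero_smul])) hb0
    have hyv' : Cfsg.hermForm N F q y v.1 = 0 := hyv _ rfl
    refine linked (u := ⟨y, hy⟩) (linked he (Or.inr ?_)) (Or.inr ?_)
    · have h1 : b + l ^ q * Cfsg.hermForm N F q y e.1 = 0 := by
        rw [← hyv', hve, H_add_right hF, H_smul_right, hyr]
      have h2 : (l ^ q * Cfsg.hermForm N F q y e.1) ^ (q + 1) = b ^ (q + 1) := by
        rw [show l ^ q * Cfsg.hermForm N F q y e.1 = -b by linear_combination h1, neg_eq_neg_one_mul, mul_pow,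
          pow_succ (-1 : F) q, show ((-1 : F)) ^ q = -1 by rw [← HermStd.qHom_apply hF, map_neg, map_one]]
        ring
      rw [mul_pow, ← pow_mul, mul_comm q, pow_mul, hl1, one_pow, one_mul] at h2
      show Cfsg.hermForm N F q y e.1 ^ (q + 1) ≠ 1
      rw [h2]
      exact hb1
    · show Cfsg.hermForm N F q v.1 y ^ (q + 1) ≠ 1
      rw [sym hF hyv', zero_pow (by omega)]
      exact zero_ne_one
  rw [eq_top_iff]
  intro g _
  obtain ⟨h, hh, hhe⟩ := trans (g • e)
  have h1 : h⁻¹ * g ∈ K := Subgroup.mem_sup_left (show (h⁻¹ * g) • e = e by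
    rw [mul_smul, ← hhe, inv_smul_smul])
  simpa using mul_mem hh h1

theorem range_sup_top {M : ℕ} (hM : 2 ≤ M) (hq : 2 < q) :
    (shift (F := F) (q := q) 1 M (M + 1) (by omega)).range ⊔
      (shift (F := F) (q := q) 0 M (M + 1) (by omega)).range = ⊤ := by
  rw [← stab_first hF, ← stab_last hF]
  exact stab_sup hF (by omega) hq (perp_sv hF (by simp [Fin.ext_iff]; omega))

/-- A subgroup containing the adjacent windows inside a window contains the window. -/
theorem window_le (hq : 2 < q) {N : ℕ} (T : Subgroup (Cfsg.SU N F q)) :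
    ∀ k i (h : i + k ≤ N), 2 ≤ k →
      (∀ j (hj : j + 2 ≤ N), i ≤ j → j + 2 ≤ i + k → (shift j 2 N hj).range ≤ T) →
      (shift i k N h).range ≤ T
  | 0, _, _, hk, _ => absurd hk (by omega)
  | k + 1, i, h, hk, hT => by
    by_cases hk2 : k + 1 = 2
    · obtain rfl : k = 1 := by omega
      exact hT i h le_rfl le_rfl
    rw [MonoidHom.range_eq_map, ← range_sup_top hF (M := k) (by omega) hq, Subgroup.map_sup, sup_le_iff]
    constructor
    · rintro _ ⟨_, ⟨a, rfl⟩, rfl⟩
      rw [shift_comp]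
      exact window_le hq T k (i + 1) (by omega) (by omega) (fun j hj h1 h2 => hT j hj (by omega) (by omega))
        ⟨a, rfl⟩
    · rintro _ ⟨_, ⟨a, rfl⟩, rfl⟩
      rw [shift_comp, shift_congr (Nat.add_zero i)]
      exact window_le hq T k i (by omega) (by omega) (fun j hj h1 h2 => hT j hj (by omega) (by omega)) ⟨a, rfl⟩

/-- The adjacent windows generate. -/
theorem windows_top (hq : 2 < q) {N : ℕ} (hN : 2 ≤ N) (T : Subgroup (Cfsg.SU N F q))
    (hT : ∀ j (hj : j + 2 ≤ N), (shift j 2 N hj).range ≤ T) : T = ⊤ := by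
  rw [eq_top_iff]
  intro g _
  exact window_le hF hq T N 0 (by omega) hN (fun j hj _ _ => hT j hj) ⟨g, shift_self _ g⟩

/-- The block subgroup on an interval is the window. -/
theorem suBlock_eq {i k N : ℕ} (h : i + k ≤ N) (s : Set (Fin N))
    (hs : ∀ j : Fin N, j ∈ s ↔ i ≤ (j : ℕ) ∧ (j : ℕ) < i + k) :
    Cfsg.suBlock N F q s = (shift i k N h).range := by
  refine le_antisymm ((Subgroup.closure_le _).2 fun A hA => ?_) ?_
  · rw [SetLike.mem_coe, mem_range hF]
    intro j hj
    obtain ⟨h1, h2⟩ := hA j (fun hc => hj ((hs j).1 hc))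
    funext l
    rw [Matrix.mulVec_single_one, Matrix.col_apply, Pi.single_apply]
    split_ifs with hl
    · subst hl
      exact h1
    · exact (h2 l hl).2
  · rintro _ ⟨a, rfl⟩
    refine Subgroup.subset_closure ?_
    intro j hj
    have hout : ¬ (i ≤ (j : ℕ) ∧ (j : ℕ) < i + k) := fun hc => hj ((hs j).2 hc)
    have ent : ∀ l m : Fin N, mat (shift i k N h a) l m =
        (mat (shift i k N h a) *ᵥ (Pi.single m 1 : Fin N → F)) l := fun l m => by
      rw [Matrix.mulVec_single_one, Matrix.col_apply]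
    refine ⟨?_, fun l hl => ⟨?_, ?_⟩⟩
    · show mat _ j j = 1
      rw [ent, shift_apply, dif_neg hout, Pi.single_apply, if_pos rfl]
    · show mat _ j l = 0
      rw [ent, shift_apply, dif_neg hout, Pi.single_apply, if_neg (Ne.symm hl)]
    · show mat _ l j = 0
      rw [ent, shift_outside h a hout, Pi.single_apply, if_neg hl]

end Cfsg.Agent.Phan.Shift
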