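import Cfsg.Agent.Lib.Phan.Shift
import Cfsg.Agent.Lib.Phan.TwoAut
import Mathlib

/-!
Subgroups of `SU₃(q)` isomorphic to `SU₂(q)` are stabilisers of unit vectors.
-/

set_option autoImplicit false
set_option linter.unusedSectionVars false
set_option linter.unusedSimpArgs false

namespace Cfsg.Agent.Phan.SubTwo

open Matrix MulAction
open Cfsg.Agent.Forms Cfsg.Agent.Classical Cfsg.Agent.Classical.Unitary
open Cfsg.Agent.SimpleFacts.SUMult Blocks CosetGeom
open Cfsg.Agent.Phan.Orth Cfsg.Agent.Phan.Cov Cfsg.Agent.Phan.Base Cfsg.Agent.Phan.Shift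
open scoped MatrixGroups

universe u

variable {F : Type u} [Field F] [Fintype F] {q : ℕ} (hF : Fintype.card F = q ^ 2)

local notation "H" => Cfsg.hermForm 3 F q
local notation "S3" => Cfsg.SU 3 F q

include hF

/-- The dimension three leaves no totally isotropic plane. -/
theorem iso_prop {a b : Fin 3 → F} (ha : a ≠ 0) (haa : H a a = 0) (hbb : H b b = 0) (hba : H b a = 0) :
    b ∈ Submodule.span F {a} := by
  by_contra hb
  obtain ⟨g, -, hag⟩ := exists_partner hF ha haa
  obtain ⟨f, hf, hbf⟩ := Witt.exists_sep (σ := HermStd.qHom hF)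
    (Finite.injective_iff_surjective.1 (HermStd.qHom hF).injective) (HermStd.hermB hF 3)
    (HermStd.hermB_nondegenerate hF).2 hb
  simp only [HermStd.hermB_apply] at hf hbf
  have hga : H g a = 1 := by rw [← H_conj hF, hag, one_pow]
  have hfa : H f a = 0 := sym hF (hf a (Submodule.mem_span_singleton_self a))
  have hfb : H f b = 1 := by rw [← H_conj hF, hbf, one_pow]
  have hab : H a b = 0 := sym hF hba
  have hli : LinearIndependent F ![a, b, f, g] := by
    rw [Fintype.linearIndependent_iff]
    intro c hc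
    simp only [Fin.sum_univ_four, Matrix.cons_val_zero, Matrix.cons_val_one, Matrix.cons_val] at hc
    have h1 := congrArg (fun z => H z a) hc
    simp only [H_add_left, H_smul_left, H_zero_left, haa, hba, hfa, hga] at h1
    have h3 : c 3 = 0 := by linear_combination h1
    have h2 := congrArg (fun z => H z b) hc
    simp only [H_add_left, H_smul_left, H_zero_left, hab, hbb, hfb, h3] at h2
    have h2' : c 2 = 0 := by linear_combination h2
    rw [h2', h3, zero_smul, zero_smul, add_zero, add_zero] at hc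
    have hb0 : c 1 = 0 := by
      by_contra hne
      refine hb (Submodule.mem_span_singleton.2 ⟨-(c 0) / c 1, ?_⟩)
      have e : c 1 • b = -(c 0 • a) := eq_neg_of_add_eq_zero_right hc
      calc (-(c 0) / c 1) • a = (c 1)⁻¹ • (-(c 0 • a)) := by
            rw [smul_neg, smul_smul, div_eq_inv_mul, mul_neg, neg_smul]
        _ = b := by rw [← e, smul_smul, inv_mul_cancel₀ hne, one_smul]
    rw [hb0, zero_smul, add_zero] at hc
    have ha0 := (smul_eq_zero.1 hc).resolve_right ha
    intro i
    fin_cases i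
    exacts [ha0, hb0, h2', h3]
  have := hli.fintype_card_le_finrank
  rw [Module.finrank_pi, Fintype.card_fin, Fintype.card_fin] at this
  omega

/-- The stabiliser of a unit vector has the order of `SU₂`. -/
theorem card_stab (u : UVec F q 3) : Nat.card (stabilizer S3 u) = Nat.card (Cfsg.SU 2 F q) := by
  obtain ⟨k, hk⟩ := exists_su_frame hF (n := 3) (f := ![(sv hF (0 : Fin 3)).1]) (f' := ![u.1]) (by omega)
    (one_frame (sv hF (0 : Fin 3)).2) (one_frame u.2)
  have hku : k • sv hF (0 : Fin 3) = u := Subtype.ext (hk 0)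
  rw [← hku, Nat.card_congr (stabilizerEquivStabilizer rfl).symm.toEquiv, stab_first hF (M := 2),
    ← Nat.card_congr (MonoidHom.ofInjective (shift_injective _ hF)).toEquiv]

omit hF in
theorem perfect_two (hq : 3 < q) (hF : Fintype.card F = q ^ 2) : commutator (Cfsg.SU 2 F q) = ⊤ := by
  have : Fintype (fixField hF) := Fintype.ofFinite _
  have hK : Fintype.card (fixField hF) = q := by rw [← Nat.card_eq_fintype_card, natCard_fixField hF]
  obtain ⟨e⟩ := nonempty_SU_two_equiv hF (fixField hF) hK
  have h := SL2Rep.commutator_two_eq_top (F := fixField hF) (by omega)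
  rw [eq_top_iff]
  intro x _
  have h2 := Subgroup.map_commutator (⊤ : Subgroup SL(2, fixField hF)) ⊤ e.symm.toMonoidHom
  rw [← commutator_def, h, ← MonoidHom.range_eq_map, MonoidHom.range_eq_top.2 e.symm.surjective,
    ← commutator_def] at h2
  rw [← h2]
  trivial

theorem invol_odd {M : S3} (h2 : (2 : F) ≠ 0) (hM : M * M = 1) (hM1 : M ≠ 1) :
    ∃ u : UVec F q 3, ∀ x, mat M *ᵥ x = x → ∃ c : F, x = c • u.1 ∧ mat M *ᵥ u.1 = u.1 := by
  have hMM : ∀ x, mat M *ᵥ (mat M *ᵥ x) = x := fun x => by rw [← mul_mulVec, hM, mat_one, one_mulVec]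
  obtain ⟨a, ha, ha0⟩ : ∃ a, mat M *ᵥ a = a ∧ a ≠ 0 := by
    by_contra hc
    push Not at hc
    have hneg : mat M = -1 := mat_ext fun x => by
      have h0 := hc (mat M *ᵥ x + x) (by rw [Matrix.mulVec_add, hMM, add_comm])
      rw [Matrix.neg_mulVec, one_mulVec]
      exact eq_neg_of_add_eq_zero_left h0
    have hd : (mat M).det = 1 := M.1.2
    rw [hneg, Matrix.det_neg, Matrix.det_one, mul_one, Fintype.card_fin] at hd
    apply h2
    linear_combination -hd
  obtain ⟨w, hw, hw0⟩ : ∃ w, mat M *ᵥ w = w ∧ H w w ≠ 0 := by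
    by_cases haa : H a a = 0
    swap
    · exact ⟨a, ha, haa⟩
    by_contra hc
    push Not at hc
    obtain ⟨f, -, hf⟩ := exists_partner hF ha0 haa
    set b := mat M *ᵥ f + f with hb
    have hbfix : mat M *ᵥ b = b := by rw [hb, Matrix.mulVec_add, hMM, add_comm]
    have hab : H a b = 2 := by
      rw [hb, H_add_right hF, hf]
      nth_rewrite 1 [← ha]
      rw [SU_H, hf]
      norm_num
    have hba : H b a = 2 := by
      rw [← H_conj hF, hab, ← HermStd.qHom_apply hF, map_ofNat]
    obtain ⟨c, hc1⟩ := exists_trace_eq hF (c := (1 : F)) (one_pow q)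
    have h1 := hc (c • a + b) (by rw [Matrix.mulVec_add, Matrix.mulVec_smul, ha, hbfix])
    simp only [H_add_left, H_add_right hF, H_smul_left, H_smul_right, haa, hab, hba, hc b hbfix] at h1
    exact h2 (by linear_combination h1 - 2 * hc1)
  obtain ⟨c, hc0, hcu⟩ := exists_normalise hF hw0
  set u : UVec F q 3 := ⟨c • w, hcu⟩
  have hu : mat M *ᵥ u.1 = u.1 := by rw [Matrix.mulVec_smul, hw]
  refine ⟨u, fun x hx => ⟨H x u.1, ?_, hu⟩⟩
  obtain ⟨k, hk⟩ := exists_su_frame hF (n := 3) (f := ![(sv hF (0 : Fin 3)).1]) (f' := ![u.1]) (by omega)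
    (one_frame (sv hF (0 : Fin 3)).2) (one_frame u.2)
  have hku : k • sv hF (0 : Fin 3) = u := Subtype.ext (hk 0)
  have hmem : k⁻¹ * M * k ∈ stabilizer S3 (sv hF (0 : Fin 3)) := conj_fix' (Subtype.ext hu : M • u = u) hku
  rw [stab_first hF (M := 2)] at hmem
  obtain ⟨g, hg⟩ := hmem
  have hg2 : g * g = 1 := shift_injective _ hF (by
    rw [map_mul, map_one, hg, show k⁻¹ * M * k * (k⁻¹ * M * k) = k⁻¹ * (M * M) * k by group, hM]
    group)
  have hg1 : g ≠ 1 := fun h => hM1 (by
    rw [h, map_one] at hg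
    rw [show M = k * (k⁻¹ * M * k) * k⁻¹ by group, ← hg]
    group)
  -- `g` is `-1`
  have hinv : g⁻¹ = g := inv_eq_of_mul_eq_one_right hg2
  have hadj : (mat g).adjugate = mat g := congrArg mat hinv
  rw [Matrix.adjugate_fin_two] at hadj
  have e00 := congrFun (congrFun hadj 0) 0
  have e01 := congrFun (congrFun hadj 0) 1
  have e10 := congrFun (congrFun hadj 1) 0
  simp at e00 e01 e10
  have g01 : mat g 0 1 = 0 := (mul_eq_zero.1 (show 2 * mat g 0 1 = 0 by linear_combination -e01)).resolve_left h2
  have g10 : mat g 1 0 = 0 := (mul_eq_zero.1 (show 2 * mat g 1 0 = 0 by linear_combination -e10)).resolve_left h2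
  have gd : mat g 0 0 * mat g 1 1 - mat g 0 1 * mat g 1 0 = 1 := by
    rw [← Matrix.det_fin_two]; exact g.1.2
  rw [g01, e00, zero_mul, sub_zero] at gd
  have g00 : mat g 0 0 = -1 := by
    rcases mul_self_eq_one_iff.1 gd with h | h
    · exfalso
      refine hg1 (SU_ext fun y => funext fun i => ?_)
      rw [mat_one, one_mulVec]
      fin_cases i <;> simp [Matrix.mulVec, dotProduct, Fin.sum_univ_two, g01, g10, e00, h]
    · exact h
  set y := mat k⁻¹ *ᵥ x with hy
  have hy' : mat (shift 1 2 3 (by omega) g) *ᵥ y = y := by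
    rw [hg, hy, ← mul_mulVec, show k⁻¹ * M * k * k⁻¹ = k⁻¹ * M by group, mul_mulVec, hx]
  have y1 : y 1 = 0 := by
    have := congrFun hy' 1
    rw [shift_apply, dif_pos (by simp)] at this
    simp [Matrix.mulVec, dotProduct, Fin.sum_univ_two, g01, g00] at this
    exact (mul_eq_zero.1 (show 2 * y 1 = 0 by linear_combination -this)).resolve_left h2
  have y2 : y 2 = 0 := by
    have := congrFun hy' 2
    rw [shift_apply, dif_pos (by simp)] at this
    simp [Matrix.mulVec, dotProduct, Fin.sum_univ_two, g10, e00, g00] at this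
    exact (mul_eq_zero.1 (show 2 * y 2 = 0 by linear_combination -this)).resolve_left h2
  have hxy : x = y 0 • u.1 := by
    have hysv : y = y 0 • (sv hF (0 : Fin 3)).1 := by
      funext i
      fin_cases i <;> simp [sv, y1, y2]
    calc x = mat k *ᵥ y := by rw [hy, ← mul_mulVec, mul_inv_cancel, mat_one, one_mulVec]
      _ = mat k *ᵥ (y 0 • (sv hF (0 : Fin 3)).1) := congrArg _ hysv
      _ = y 0 • u.1 := by rw [Matrix.mulVec_smul, ← smul_val, hku]
  have hyH : y 0 = H x u.1 := by rw [hxy, H_smul_left, u.2, mul_one]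
  rw [← hyH]
  exact hxy

/-- The displacement of a vector. -/
def disp (M : S3) (x : Fin 3 → F) : Fin 3 → F := mat M *ᵥ x - x

theorem disp_adj {M : S3} (hM : M * M = 1) (x y : Fin 3 → F) : H (disp M x) y = H x (disp M y) := by
  have h : H (mat M *ᵥ x) y = H x (mat M *ᵥ y) := by
    conv_lhs => rw [← SU_H M, ← mul_mulVec, hM, mat_one, one_mulVec]
  rw [disp, disp, H_sub_left, H_sub_right hF, h]

theorem disp_iso (h2 : (2 : F) = 0) {M : S3} (hM : M * M = 1) (x y : Fin 3 → F) :
    H (disp M x) (disp M y) = 0 := by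
  have h : H (mat M *ᵥ x) y = H x (mat M *ᵥ y) := by
    conv_lhs => rw [← SU_H M, ← mul_mulVec, hM, mat_one, one_mulVec]
  rw [disp, disp, H_sub_left, H_sub_right hF, H_sub_right hF, SU_H, h]
  linear_combination (H x y - H x (mat M *ᵥ y)) * h2

theorem disp_line (h2 : (2 : F) = 0) {M : S3} (hM : M * M = 1) {y : Fin 3 → F} (hy : disp M y ≠ 0)
    (x : Fin 3 → F) : disp M x ∈ Submodule.span F {disp M y} :=
  iso_prop hF hy (disp_iso hF h2 hM y y) (disp_iso hF h2 hM x x) (disp_iso hF h2 hM x y)

theorem fix_perp (h2 : (2 : F) = 0) {M : S3} (hM : M * M = 1) {v : Fin 3 → F}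
    (hv : ∀ x, disp M x ∈ Submodule.span F {v}) {x : Fin 3 → F} (hx : H x v = 0) : mat M *ᵥ x = x := by
  refine sub_eq_zero.1 (eq_zero_of_H hF (u := disp M x) fun w => ?_)
  rw [disp_adj hF hM]
  obtain ⟨c, hc⟩ := Submodule.mem_span_singleton.1 (hv w)
  rw [← hc, H_smul_right, hx, mul_zero]

theorem disp_ne_zero {M : S3} (hM1 : M ≠ 1) : ∃ y, disp M y ≠ 0 := by
  by_contra hc
  push Not at hc
  exact hM1 (SU_ext fun x => by rw [mat_one, one_mulVec]; exact sub_eq_zero.1 (hc x))

theorem commute_line (h2 : (2 : F) = 0) {M M' : S3} (hM : M * M = 1) (hM' : M' * M' = 1) (hc : M * M' = M' * M)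
    {y y' : Fin 3 → F} (hy : disp M y ≠ 0) (hy' : disp M' y' ≠ 0) :
    disp M' y' ∈ Submodule.span F {disp M y} := by
  set v := disp M y with hv
  set v' := disp M' y' with hv'
  by_contra hne
  have hnc : disp M v' = disp M' (disp M y') := by
    simp only [hv', disp, Matrix.mulVec_sub, ← mul_mulVec, hc]
    abel
  obtain ⟨c, h1⟩ := Submodule.mem_span_singleton.1 (disp_line hF h2 hM hy v')
  obtain ⟨d, h3⟩ := Submodule.mem_span_singleton.1 (hnc ▸ disp_line hF h2 hM' hy' (disp M y') :
    disp M v' ∈ Submodule.span F {v'})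
  have hd : d = 0 := by
    by_contra hd0
    refine hne (Submodule.mem_span_singleton.2 ⟨d⁻¹ * c, ?_⟩)
    rw [← smul_smul, h1, ← h3, smul_smul, inv_mul_cancel₀ hd0, one_smul]
  rw [hd, zero_smul] at h3
  refine hne (iso_prop hF hy (disp_iso hF h2 hM y y) (disp_iso hF h2 hM' y' y') ?_)
  rw [hv, ← disp_adj hF hM, ← h3, H_zero_left]

/-- Subgroups isomorphic to `SU₂` are point stabilisers. -/
theorem exists_fixed (hq : 3 < q) {A : Subgroup S3} (eA : Nonempty (Cfsg.SU 2 F q ≃* A)) :
    ∃ u : UVec F q 3, A = stabilizer S3 u := by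
  obtain ⟨e⟩ := eA
  suffices h : ∃ u : UVec F q 3, A ≤ stabilizer S3 u by
    obtain ⟨u, hu⟩ := h
    refine ⟨u, Subgroup.eq_of_le_of_card_ge hu ?_⟩
    rw [card_stab hF, Nat.card_congr e.toEquiv]
  have : Fintype (fixField hF) := Fintype.ofFinite _
  have hK : Fintype.card (fixField hF) = q := by rw [← Nat.card_eq_fintype_card, natCard_fixField hF]
  obtain ⟨e'⟩ := nonempty_SU_two_equiv hF (fixField hF) hK
  set θ : SL(2, fixField hF) →* S3 := A.subtype.comp (e'.symm.trans e).toMonoidHom with hθ
  have hθi : Function.Injective θ := A.subtype_injective.comp (e'.symm.trans e).injective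
  have hθA : θ.range = A := by
    rw [hθ, MonoidHom.range_comp, MonoidHom.range_eq_top.2 (e'.symm.trans e).surjective, ← MonoidHom.range_eq_map,
      Subgroup.range_subtype]
  by_cases h2 : (2 : F) = 0
  · set T : fixField hF → SL(2, fixField hF) :=
      Matrix.SpecialLinearGroup.transvection (show (0 : Fin 2) ≠ 1 by decide) with hT
    set T' : fixField hF → SL(2, fixField hF) :=
      Matrix.SpecialLinearGroup.transvection (show (1 : Fin 2) ≠ 0 by decide) with hT'
    have h2K : (2 : fixField hF) = 0 := Subtype.ext h2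
    have sq : ∀ {i j : Fin 2} (h : i ≠ j) (c : fixField hF),
        θ (Matrix.SpecialLinearGroup.transvection h c) * θ (Matrix.SpecialLinearGroup.transvection h c) = 1 := by
      intro i j h c
      rw [← map_mul, ← pow_two, SL2Rep.transvection_pow, Nat.cast_two, h2K, zero_mul]
      rw [show (Matrix.SpecialLinearGroup.transvection h (0 : fixField hF) : SL(2, fixField hF)) = 1 from
        GL2.sl_ext (by simp [Matrix.SpecialLinearGroup.transvection_coe]), map_one]
    have ne1 : ∀ {i j : Fin 2} (h : i ≠ j),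
        θ (Matrix.SpecialLinearGroup.transvection h 1) ≠ 1 := by
      intro i j h h1
      have h3 := hθi (h1.trans θ.map_one.symm)
      have h4 := congrFun (congrFun (congrArg Subtype.val h3) i) j
      rw [Matrix.SpecialLinearGroup.transvection_coe] at h4
      simp [h] at h4
    obtain ⟨y, hy⟩ := disp_ne_zero hF (ne1 (show (0 : Fin 2) ≠ 1 by decide))
    obtain ⟨y', hy'⟩ := disp_ne_zero hF (ne1 (show (1 : Fin 2) ≠ 0 by decide))
    set v := disp (θ (T 1)) y with hv
    set v' := disp (θ (T' 1)) y' with hv'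
    have comm : ∀ {i j : Fin 2} (h : i ≠ j) (c d : fixField hF),
        θ (Matrix.SpecialLinearGroup.transvection h c) * θ (Matrix.SpecialLinearGroup.transvection h d) =
          θ (Matrix.SpecialLinearGroup.transvection h d) * θ (Matrix.SpecialLinearGroup.transvection h c) := by
      intro i j h c d
      rw [← map_mul, ← map_mul, ← Matrix.SpecialLinearGroup.transvection_add,
        ← Matrix.SpecialLinearGroup.transvection_add, add_comm]
    have line : ∀ {i j : Fin 2} (h : i ≠ j) {z : Fin 3 → F}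
        (_ : disp (θ (Matrix.SpecialLinearGroup.transvection h 1)) z ≠ 0) (c : fixField hF) (x : Fin 3 → F),
        H x (disp (θ (Matrix.SpecialLinearGroup.transvection h 1)) z) = 0 →
          mat (θ (Matrix.SpecialLinearGroup.transvection h c)) *ᵥ x = x := by
      intro i j h z hz c x hx
      by_cases h0 : θ (Matrix.SpecialLinearGroup.transvection h c) = 1
      · rw [h0, mat_one, one_mulVec]
      obtain ⟨w, hw⟩ := disp_ne_zero hF h0
      refine fix_perp hF h2 (sq h c) (v := disp (θ (Matrix.SpecialLinearGroup.transvection h 1)) z)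
        (fun x => ?_) hx
      exact Submodule.span_le.2 (Set.singleton_subset_iff.2 (commute_line hF h2 (sq h 1) (sq h c) (comm h 1 c) hz hw))
        (disp_line hF h2 (sq h c) hw x)
    have hvv : H v v = 0 := disp_iso hF h2 (sq _ 1) y y
    have hv'v' : H v' v' = 0 := disp_iso hF h2 (sq _ 1) y' y'
    have hnot : v' ∉ Submodule.span F {v} := by
      intro hs
      have e1 : ∀ x, disp (θ (T 1)) x ∈ Submodule.span F {v} := disp_line hF h2 (sq _ 1) hy
      have e2 : ∀ x, disp (θ (T' 1)) x ∈ Submodule.span F {v} := fun x =>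
        Submodule.span_le.2 (Set.singleton_subset_iff.2 hs) (disp_line hF h2 (sq _ 1) hy' x)
      have f1 : mat (θ (T 1)) *ᵥ v = v := fix_perp hF h2 (sq _ 1) e1 hvv
      have f2 : mat (θ (T' 1)) *ᵥ v = v := fix_perp hF h2 (sq _ 1) e2 hvv
      have hc : θ (T 1 * T' 1) = θ (T' 1 * T 1) := SU_ext fun x => by
        obtain ⟨a, ha⟩ := Submodule.mem_span_singleton.1 (e1 x)
        obtain ⟨b, hb⟩ := Submodule.mem_span_singleton.1 (e2 x)
        have g1 : mat (θ (T 1)) *ᵥ x = x + a • v := by rw [ha, disp]; abel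
        have g2 : mat (θ (T' 1)) *ᵥ x = x + b • v := by rw [hb, disp]; abel
        rw [map_mul, map_mul, mul_mulVec, mul_mulVec, g1, g2, Matrix.mulVec_add, Matrix.mulVec_add,
          Matrix.mulVec_smul, Matrix.mulVec_smul, f1, f2, g1, g2]
        abel
      have h3 := congrFun (congrFun (congrArg Subtype.val (hθi hc)) 0) 0
      simp [hT, hT', Matrix.SpecialLinearGroup.transvection_coe, Matrix.mul_apply, Fin.sum_univ_two] at h3
    have hv'v : H v' v ≠ 0 := fun h => hnot (iso_prop hF hy hvv hv'v' h)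
    have hvv' : H v v' ≠ 0 := fun h => hv'v (sym hF h)
    obtain ⟨x, hx⟩ : ∃ x : Fin 3 → F, x ∉ Submodule.span F ({v, v'} : Set (Fin 3 → F)) := by
      classical
      by_contra hc
      push Not at hc
      have htop : Submodule.span F ({v, v'} : Set (Fin 3 → F)) = ⊤ := Submodule.eq_top_iff'.2 hc
      have h3 := finrank_span_finset_le_card (R := F) ({v, v'} : Finset (Fin 3 → F))
      rw [Finset.coe_insert, Finset.coe_singleton, Set.finrank, htop, finrank_top, Module.finrank_pi,
        Fintype.card_fin] at h3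
      have : ({v, v'} : Finset (Fin 3 → F)).card ≤ 2 := Finset.card_le_two
      omega
    set w := x - (H x v / H v' v) • v' - (H x v' / H v v') • v with hw
    have hwv : H w v = 0 := by
      rw [hw, H_sub_left, H_sub_left, H_smul_left, H_smul_left, hvv, div_mul_cancel₀ _ hv'v]; ring
    have hwv' : H w v' = 0 := by
      rw [hw, H_sub_left, H_sub_left, H_smul_left, H_smul_left, hv'v', div_mul_cancel₀ _ hvv']; ring
    have hw0 : H w w ≠ 0 := by
      intro h
      obtain ⟨a, ha⟩ := Submodule.mem_span_singleton.1 (iso_prop hF hy hvv h hwv)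
      refine hx (Submodule.mem_span_pair.2 ⟨H x v' / H v v' + a, H x v / H v' v, ?_⟩)
      rw [add_smul, ha, hw]
      abel
    obtain ⟨c, hc0, hcu⟩ := exists_normalise hF hw0
    refine ⟨⟨c • w, hcu⟩, hθA ▸ ?_⟩
    rw [MonoidHom.range_eq_map, ← Linear.closure_transvectionSet, MonoidHom.map_closure, Subgroup.closure_le]
    rintro _ ⟨_, ⟨i, j, h, d, rfl⟩, rfl⟩
    refine mem_stabilizer_iff.2 (Subtype.ext ?_)
    show mat (θ _) *ᵥ (c • w) = c • w
    rw [Matrix.mulVec_smul]
    congr 1
    fin_cases i <;> fin_cases j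
    · exact absurd rfl h
    · exact line _ hy d w hwv
    · exact line _ hy' d w hwv'
    · exact absurd rfl h
  · set z : SL(2, fixField hF) := -1 with hz
    have hz1 : z ≠ 1 := fun h => h2 (by
      have h3 := congrFun (congrFun (congrArg Subtype.val h) 0) 0
      simp [hz] at h3
      have h4 := congrArg Subtype.val h3
      simp at h4
      linear_combination -h4)
    obtain ⟨u, hu⟩ := invol_odd hF h2 (M := θ z) (by rw [← map_mul, hz, neg_mul_neg, one_mul, map_one])
      (fun h => hz1 (hθi (h.trans θ.map_one.symm)))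
    -- the fixed line is nonzero and invariant
    have hfix : mat (θ z) *ᵥ u.1 = u.1 := by
      obtain ⟨-, -, h⟩ := hu 0 (Matrix.mulVec_zero _)
      exact h
    have inv : ∀ s, ∃ c : F, mat (θ s) *ᵥ u.1 = c • u.1 := fun s => by
      obtain ⟨c, hc, -⟩ := hu (mat (θ s) *ᵥ u.1) (by
        rw [← mul_mulVec, ← map_mul, hz, neg_one_mul, show -s = s * (-1) from (mul_neg_one s).symm, map_mul,
          mul_mulVec, ← hz, hfix])
      exact ⟨c, hc⟩
    choose χ hχ using inv
    have hu0 : u.1 ≠ 0 := fun h => by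
      have := u.2
      rw [h, H_zero_left] at this
      exact zero_ne_one this
    have cancel : ∀ {a b : F}, a • u.1 = b • u.1 → a = b := fun h => by
      by_contra hne
      rw [← sub_eq_zero, ← sub_smul, smul_eq_zero, sub_eq_zero] at h
      exact h.elim hne hu0
    let X : SL(2, fixField hF) →* F :=
      { toFun := χ
        map_one' := cancel (by rw [← hχ, map_one, mat_one, one_mulVec, one_smul])
        map_mul' := fun a b => cancel (by
          rw [← hχ, map_mul, mul_mulVec, hχ, Matrix.mulVec_smul, hχ, smul_smul, mul_comm]) }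
    refine ⟨u, hθA ▸ ?_⟩
    rintro _ ⟨s, rfl⟩
    refine mem_stabilizer_iff.2 (Subtype.ext ?_)
    show mat (θ s) *ᵥ u.1 = u.1
    have hs : s ∈ commutator SL(2, fixField hF) := by
      rw [SL2Rep.commutator_two_eq_top (F := fixField hF) (by omega)]; trivial
    have h1 : X.toHomUnits s = 1 :=
      MonoidHom.mem_ker.1 (Abelianization.commutator_subset_ker X.toHomUnits hs)
    have h3 : X s = 1 := congrArg Units.val h1
    rw [hχ, show χ s = 1 from h3, one_smul]

end Cfsg.Agent.Phan.SubTwo
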