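import Cfsg.Agent.Lib.Phan.Shift
import Cfsg.Agent.Lib.Phan.Align
import Mathlib

/-!
For `q = 2`: the field with four elements, generators of `SU₂` and `SU₃`, and homomorphisms
determined by their values on the two blocks.
-/

set_option autoImplicit false
set_option linter.unusedSectionVars false
set_option linter.unusedSimpArgs false

namespace Cfsg.Agent.Phan.TwoField

open Matrix MulAction
open Cfsg.Agent.Forms Cfsg.Agent.Classical Cfsg.Agent.Classical.Unitary
open Cfsg.Agent.SimpleFacts.SUMult Blocks CosetGeom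
open Cfsg.Agent.Phan.Orth Cfsg.Agent.Phan.Cov Cfsg.Agent.Phan.Base Cfsg.Agent.Phan.Shift

universe u v

variable {F : Type u} [Field F] [Fintype F] (hF : Fintype.card F = 2 ^ 2)

include hF

theorem two_zero : (2 : F) = 0 := by
  have h : ((Fintype.card F : ℕ) : F) = 0 := FiniteField.cast_card_eq_zero F
  rw [hF] at h
  push_cast at h
  exact (pow_eq_zero_iff (n := 2) (by norm_num)).1 (show (2 : F) ^ 2 = 0 by linear_combination h)

theorem pow_four (x : F) : x ^ 4 = x := by
  have := FiniteField.pow_card x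
  rwa [hF] at this

theorem cube_one {x : F} (hx : x ≠ 0) : x ^ 3 = 1 :=
  mul_left_cancel₀ hx (by linear_combination pow_four hF x)

theorem exists_gen : ∃ w : F, w * w = w + 1 ∧ ∀ x : F, x = 0 ∨ x = 1 ∨ x = w ∨ x = w + 1 := by
  classical
  have h2 := two_zero hF
  obtain ⟨w, hw⟩ : ∃ w : F, w ∉ ({0, 1} : Finset F) := by
    by_contra h
    push Not at h
    have h1 := Finset.card_le_card (fun x _ => h x : (Finset.univ : Finset F) ⊆ {0, 1})
    rw [Finset.card_univ, hF] at h1
    exact absurd (h1.trans Finset.card_le_two) (by norm_num)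
  simp only [Finset.mem_insert, Finset.mem_singleton, not_or] at hw
  have root : ∀ x : F, x ≠ 0 → x ≠ 1 → x * x + x + 1 = 0 := fun x h0 h1 =>
    (mul_eq_zero.1 (show (x - 1) * (x * x + x + 1) = 0 by linear_combination cube_one hF h0)).resolve_left
      (sub_ne_zero.2 h1)
  have hw2 : w * w = w + 1 := by linear_combination root w hw.1 hw.2 - (w + 1) * h2
  refine ⟨w, hw2, fun x => ?_⟩
  by_cases h0 : x = 0
  · exact Or.inl h0
  by_cases h1 : x = 1
  · exact Or.inr (Or.inl h1)
  refine Or.inr (Or.inr ?_)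
  have h : (x - w) * (x - (w + 1)) = 0 := by linear_combination root x h0 h1 - (x + w * x - w) * h2 + hw2
  rcases mul_eq_zero.1 h with h | h
  · exact Or.inl (sub_eq_zero.1 h)
  · exact Or.inr (sub_eq_zero.1 h)

/-- A primitive cube root of unity. -/
noncomputable def om : F := (exists_gen hF).choose

theorem om_sq : om hF * om hF = om hF + 1 := (exists_gen hF).choose_spec.1

theorem four_cases (x : F) : x = 0 ∨ x = 1 ∨ x = om hF ∨ x = om hF + 1 := (exists_gen hF).choose_spec.2 x

theorem om_ne : om hF ≠ 0 ∧ om hF ≠ 1 ∧ om hF + 1 ≠ 0 := by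
  have h2 := two_zero hF
  have h := om_sq hF
  refine ⟨fun h0 => ?_, fun h1 => ?_, fun h0 => ?_⟩
  · rw [h0] at h; simp at h
  · rw [h1] at h; exact one_ne_zero (show (1 : F) = 0 by linear_combination -h)
  · exact one_ne_zero (show (1 : F) = 0 by linear_combination (2 - om hF) * h0 + h)

theorem om_cube : om hF * om hF * om hF = 1 := by
  linear_combination (om hF + 1) * om_sq hF + om hF * two_zero hF

/-- The four field elements by their two bits. -/
noncomputable def val : Fin 4 → F := ![0, 1, om hF, om hF + 1]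

theorem val_add (a b : Fin 4) : val hF a + val hF b = val hF (a ^^^ b) := by
  have h2 := two_zero hF
  fin_cases a <;> fin_cases b <;> simp [val] <;> grind

theorem val_injective : Function.Injective (val hF) := by
  obtain ⟨h0, h1, h3⟩ := om_ne hF
  intro a b h
  fin_cases a <;> fin_cases b <;> first | rfl | (exfalso; simp [val] at h <;> grind)

/-- The powers of the cube root of unity. -/
noncomputable def pw : Fin 3 → F := ![1, om hF, om hF + 1]

theorem pw_mul (a b : Fin 3) : pw hF a * pw hF b = pw hF (a + b) := by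
  have h := om_sq hF
  have h2 := two_zero hF
  fin_cases a <;> fin_cases b <;> simp [pw] <;> grind

theorem pw_ne (a : Fin 3) : pw hF a ≠ 0 := by
  obtain ⟨h0, h1, h3⟩ := om_ne hF
  fin_cases a <;> simp [pw, h0, h3]

theorem exists_pw {x : F} (hx : x ≠ 0) : ∃ a, x = pw hF a := by
  rcases four_cases hF x with h | h | h | h
  · exact absurd h hx
  · exact ⟨0, h⟩
  · exact ⟨1, h⟩
  · exact ⟨2, h⟩

theorem pw_injective : Function.Injective (pw hF) := by
  obtain ⟨h0, h1, h3⟩ := om_ne hF
  intro a b h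
  fin_cases a <;> fin_cases b <;> first | rfl | (exfalso; simp [pw] at h <;> grind)

local notation "S2" => Cfsg.SU 2 F 2
local notation "S3" => Cfsg.SU 3 F 2
local notation "L3" => shift (F := F) (q := 2) 0 2 3 (by omega)
local notation "R3" => shift (F := F) (q := 2) 1 2 3 (by omega)

theorem exists_d : ∃ d : S2, mat d = !![om hF, 0; 0, om hF + 1] := by
  obtain ⟨d, d0, d1⟩ := TwoAut.exists_mk hF (q := 2) (x := om hF) (y := 0)
    (by linear_combination om_cube hF)
  obtain ⟨d11, d10, -, -⟩ := TwoAut.shape hF d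
  rw [d0] at d11
  rw [d1] at d10
  refine ⟨d, Matrix.ext fun i j => ?_⟩
  fin_cases i <;> fin_cases j <;> simp [d0, d1, d10, d11, pow_two, om_sq hF]

theorem exists_s : ∃ s : S2, mat s = !![0, 1; 1, 0] := by
  obtain ⟨d, d0, d1⟩ := TwoAut.exists_mk hF (q := 2) (x := 0) (y := 1) (by norm_num)
  obtain ⟨d11, d10, -, -⟩ := TwoAut.shape hF d
  rw [d0] at d11
  rw [d1] at d10
  have h : (-1 : F) = 1 := by linear_combination -two_zero hF
  refine ⟨d, Matrix.ext fun i j => ?_⟩
  fin_cases i <;> fin_cases j <;> simp [d0, d1, d10, d11, h]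

/-- The diagonal generator. -/
noncomputable def gd : S2 := (exists_d hF).choose

/-- The swap. -/
noncomputable def gs : S2 := (exists_s hF).choose

theorem mat_gd : mat (gd hF) = !![om hF, 0; 0, om hF + 1] := (exists_d hF).choose_spec

theorem mat_gs : mat (gs hF) = !![0, 1; 1, 0] := (exists_s hF).choose_spec

theorem two_all : Subgroup.closure ({gd hF, gs hF} : Set S2) = ⊤ := by
  rw [eq_top_iff]
  intro x _
  set K := Subgroup.closure ({gd hF, gs hF} : Set S2)
  have hd : gd hF ∈ K := Subgroup.subset_closure (by simp)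
  have hs : gs hF ∈ K := Subgroup.subset_closure (by simp)
  have h2 := two_zero hF
  have hw := om_sq hF
  obtain ⟨x11, x10, -, hn⟩ := TwoAut.shape hF x
  have hnorm : ∀ {a : F}, a ≠ 0 → a * a ^ 2 = 1 := fun ha => by linear_combination cube_one hF ha
  by_cases h1 : mat x 0 1 = 0
  · have h0 : mat x 0 0 ≠ 0 := fun h => by rw [h, h1] at hn; simp at hn
    rcases four_cases hF (mat x 0 0) with h | h | h | h
    · exact absurd h h0
    · rw [show x = 1 from Align.two_ext hF (by rw [h, mat_one, Matrix.one_apply_eq]) (by rw [h1, mat_one, Matrix.one_apply_ne (by decide)])]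
      exact one_mem _
    · rw [show x = gd hF from Align.two_ext hF (by rw [h, mat_gd]; simp) (by rw [h1, mat_gd]; simp)]
      exact hd
    · rw [show x = gd hF * gd hF from Align.two_ext hF
        (by rw [h, mat_mul, mat_gd]; simp [hw]) (by rw [h1, mat_mul, mat_gd]; simp)]
      exact mul_mem hd hd
  · have h0 : mat x 0 0 = 0 := by
      by_contra h0
      rw [hnorm h0, hnorm h1] at hn
      exact one_ne_zero (show (1 : F) = 0 by linear_combination hn)
    rcases four_cases hF (mat x 0 1) with h | h | h | h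
    · exact absurd h h1
    · rw [show x = gs hF from Align.two_ext hF (by rw [h0, mat_gs]; simp) (by rw [h, mat_gs]; simp)]
      exact hs
    · rw [show x = gd hF * gs hF from Align.two_ext hF
        (by rw [h0, mat_mul, mat_gd, mat_gs]; simp) (by rw [h, mat_mul, mat_gd, mat_gs]; simp)]
      exact mul_mem hd hs
    · rw [show x = gd hF * gd hF * gs hF from Align.two_ext hF
        (by rw [h0, mat_mul, mat_mul, mat_gd, mat_gs]; simp)
        (by rw [h, mat_mul, mat_mul, mat_gd, mat_gs]; simp [hw])]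
      exact mul_mem (mul_mem hd hd) hs

theorem agree2 {K : Type v} [Group K] {f g : S2 →* K} (hd : f (gd hF) = g (gd hF))
    (hs : f (gs hF) = g (gs hF)) (x : S2) : f x = g x := by
  have h : Subgroup.closure ({gd hF, gs hF} : Set S2) ≤ f.eqLocus g :=
    (Subgroup.closure_le _).2 (by rintro y (rfl | rfl); exacts [hd, hs])
  exact h (two_all hF ▸ Subgroup.mem_top x)

theorem left_le {K : Subgroup S3} (hd : L3 (gd hF) ∈ K) (hs : L3 (gs hF) ∈ K) : (L3).range ≤ K := by
  rintro _ ⟨x, rfl⟩
  have h : Subgroup.closure ({gd hF, gs hF} : Set S2) ≤ K.comap L3 :=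
    (Subgroup.closure_le _).2 (by rintro y (rfl | rfl); exacts [hd, hs])
  exact h (two_all hF ▸ Subgroup.mem_top x)

theorem right_le {K : Subgroup S3} (hd : R3 (gd hF) ∈ K) (hs : R3 (gs hF) ∈ K) : (R3).range ≤ K := by
  rintro _ ⟨x, rfl⟩
  have h : Subgroup.closure ({gd hF, gs hF} : Set S2) ≤ K.comap R3 :=
    (Subgroup.closure_le _).2 (by rintro y (rfl | rfl); exacts [hd, hs])
  exact h (two_all hF ▸ Subgroup.mem_top x)

theorem mat_Ld : mat (L3 (gd hF)) = !![om hF, 0, 0; 0, om hF + 1, 0; 0, 0, 1] := by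
  rw [Align.left_entries, mat_gd]; simp

theorem mat_Ls : mat (L3 (gs hF)) = !![0, 1, 0; 1, 0, 0; 0, 0, 1] := by
  rw [Align.left_entries, mat_gs]; simp

theorem mat_Rd : mat (R3 (gd hF)) = !![1, 0, 0; 0, om hF, 0; 0, 0, om hF + 1] := by
  rw [Align.right_entries, mat_gd]; simp

theorem mat_Rs : mat (R3 (gs hF)) = !![1, 0, 0; 0, 0, 1; 0, 1, 0] := by
  rw [Align.right_entries, mat_gs]; simp

theorem exists_U : ∃ U : S3, mat U = !![1, 1, 1; 1, om hF, om hF + 1; 1, om hF + 1, om hF] := by
  have h2 := two_zero hF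
  have hw := om_sq hF
  refine ⟨suMk !![1, 1, 1; 1, om hF, om hF + 1; 1, om hF + 1, om hF] ?_ ?_, rfl⟩
  · rw [Matrix.det_fin_three]
    simp
    grind
  · rw [preserves_iff hF]
    ext i j
    fin_cases i <;> fin_cases j <;>
      simp [Matrix.mul_apply, Fin.sum_univ_three, HermStd.qHom_apply, pow_two, add_mul, mul_add, hw] <;>
      grind

/-- The block subgroup. -/
def blocks (_ : Fintype.card F = 2 ^ 2) : Subgroup S3 := (L3).range ⊔ (R3).range

theorem mem_left (x : S2) : L3 x ∈ blocks hF := Subgroup.mem_sup_left ⟨x, rfl⟩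

theorem mem_right (x : S2) : R3 x ∈ blocks hF := Subgroup.mem_sup_right ⟨x, rfl⟩

set_option maxHeartbeats 2000000 in
theorem conj_U {U : S3} (hU : mat U = !![1, 1, 1; 1, om hF, om hF + 1; 1, om hF + 1, om hF])
    {m : S3} (hm : m ∈ blocks hF) : U * m * U⁻¹ ∈ blocks hF := by
  have h2 := two_zero hF
  have hw := om_sq hF
  set a := L3 (gd hF) with ha
  set s := L3 (gs hF) with hs
  set b := R3 (gd hF) with hb
  set t := R3 (gs hF) with ht
  have eq : ∀ {x y : S3}, (∀ i j, (mat U * mat x) i j = (mat y * mat U) i j) → U * x * U⁻¹ = y := fun h =>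
    mul_inv_eq_iff_eq_mul.2 (Align.su_ext_entries fun i j => h i j)
  have e1 : U * a * U⁻¹ = a * t * b * s := eq fun i j => by
    simp only [mat_mul, ha, hs, hb, ht, mat_Ld, mat_Ls, mat_Rd, mat_Rs, hU]
    fin_cases i <;> fin_cases j <;> simp [Matrix.mul_apply, Fin.sum_univ_three] <;> grind
  have e2 : U * s * U⁻¹ = b * t := eq fun i j => by
    simp only [mat_mul, ha, hs, hb, ht, mat_Ld, mat_Ls, mat_Rd, mat_Rs, hU]
    fin_cases i <;> fin_cases j <;> simp [Matrix.mul_apply, Fin.sum_univ_three] <;> grind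
  have e3 : U * b * U⁻¹ = t * s := eq fun i j => by
    simp only [mat_mul, ha, hs, hb, ht, mat_Ld, mat_Ls, mat_Rd, mat_Rs, hU]
    fin_cases i <;> fin_cases j <;> simp [Matrix.mul_apply, Fin.sum_univ_three] <;> grind
  have e4 : U * t * U⁻¹ = t := eq fun i j => by
    simp only [mat_mul, ha, hs, hb, ht, mat_Ld, mat_Ls, mat_Rd, mat_Rs, hU]
    fin_cases i <;> fin_cases j <;> simp [Matrix.mul_apply, Fin.sum_univ_three] <;> grind
  have hle : blocks hF ≤ (blocks hF).comap (MulAut.conj U).toMonoidHom := by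
    refine sup_le (left_le hF ?_ ?_) (right_le hF ?_ ?_) <;>
      simp only [Subgroup.mem_comap, MulEquiv.coe_toMonoidHom, MulAut.conj_apply]
    · rw [← ha, e1]; exact mul_mem (mul_mem (mul_mem (mem_left hF _) (mem_right hF _)) (mem_right hF _)) (mem_left hF _)
    · rw [← hs, e2]; exact mul_mem (mem_right hF _) (mem_right hF _)
    · rw [← hb, e3]; exact mul_mem (mem_right hF _) (mem_left hF _)
    · rw [← ht, e4]; exact mem_right hF _
  exact hle hm

theorem sq_U {U : S3} (hU : mat U = !![1, 1, 1; 1, om hF, om hF + 1; 1, om hF + 1, om hF]) :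
    U * U ∈ blocks hF := by
  have h2 := two_zero hF
  have hw := om_sq hF
  rw [show U * U = R3 (gs hF) from Align.su_ext_entries fun i j => by
    rw [mat_mul, hU, mat_Rs]
    fin_cases i <;> fin_cases j <;> simp [Matrix.mul_apply, Fin.sum_univ_three] <;> grind]
  exact mem_right hF _

theorem theta_blocks {a : F} (hd : ∀ i, (![a, 1, 1] : Fin 3 → F) i ^ (2 + 1) = 1) :
    (blocks hF).map (Align.theta hF (RingEquiv.refl F) _ hd) = blocks hF := by
  refine Subgroup.eq_of_le_of_card_ge ?_ ?_
  · rw [blocks, Subgroup.map_sup]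
    refine sup_le_sup ?_ ?_
    · rintro _ ⟨_, ⟨x, rfl⟩, rfl⟩
      rw [mem_range hF]
      intro j hj
      have hj2 : j = 2 := Fin.ext (by simp; omega)
      subst hj2
      funext i
      rw [← Align.col_entry, Align.theta_entry, Align.left_entries]
      fin_cases i <;> simp
    · rintro _ ⟨_, ⟨x, rfl⟩, rfl⟩
      refine ⟨x, Align.su_ext_entries fun i j => ?_⟩
      have ha : a ≠ 0 := by simpa using Align.ne_of_norm hF (hd 0)
      rw [Align.theta_entry, Align.right_entries]
      fin_cases i <;> fin_cases j <;> simp [ha]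
  · rw [Subgroup.card_map_of_injective (Align.theta_injective hF _ _ hd)]

/-- The three extra generators. -/
theorem exists_Ua {a : F} (ha : a ≠ 0) : ∃ U : S3, (∀ m ∈ blocks hF, U * m * U⁻¹ ∈ blocks hF) ∧
    U * U ∈ blocks hF ∧ ∀ i, mat U i 0 = (![1, a * a, a * a] : Fin 3 → F) i := by
  obtain ⟨U, hU⟩ := exists_U hF
  have hd : ∀ i, (![a, 1, 1] : Fin 3 → F) i ^ (2 + 1) = 1 := fun i => by
    fin_cases i <;> simp [cube_one hF ha]
  refine ⟨Align.theta hF (RingEquiv.refl F) _ hd U, fun m hm => ?_, ?_, fun i => ?_⟩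
  · obtain ⟨m', hm', rfl⟩ := (theta_blocks hF hd).symm ▸ hm
    rw [← map_inv, ← map_mul, ← map_mul]
    exact (theta_blocks hF hd) ▸ Subgroup.mem_map_of_mem _ (conj_U hF hU hm')
  · rw [← map_mul]
    exact (theta_blocks hF hd) ▸ Subgroup.mem_map_of_mem _ (sq_U hF hU)
  · rw [Align.theta_entry, hU]
    have h := cube_one hF ha
    fin_cases i <;> simp [ha] <;> field_simp <;> linear_combination -h

theorem diag_three_mem {x y z : F} (h : x * y * z = 1) (g : S3)
    (hg : ∀ v : Fin 3 → F, mat g *ᵥ v = fun i => (![x, y, z] : Fin 3 → F) i * v i) : g ∈ blocks hF := by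
  have hx : x ≠ 0 := fun e => by simp [e] at h
  have hz : z ≠ 0 := fun e => by simp [e] at h
  obtain ⟨a, a0, a1⟩ := TwoAut.exists_mk hF (q := 2) (x := x) (y := 0) (by linear_combination cube_one hF hx)
  obtain ⟨c, c0, c1⟩ := TwoAut.exists_mk hF (q := 2) (x := z * z) (y := 0)
    (by linear_combination (z * z * z + 1) * cube_one hF hz)
  obtain ⟨a11, a10, -, -⟩ := TwoAut.shape hF a
  obtain ⟨c11, c10, -, -⟩ := TwoAut.shape hF c
  rw [a0] at a11; rw [a1] at a10; rw [c0] at c11; rw [c1] at c10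
  rw [show g = L3 a * R3 c from SU_ext fun v => ?_]
  · exact mul_mem (mem_left hF _) (mem_right hF _)
  rw [hg, mul_mulVec, Align.left_entries, Align.right_entries]
  have e1 : x ^ 2 * (z * z) = y := by
    have hxz := cube_one hF (mul_ne_zero hx hz)
    linear_combination y * hxz - x ^ 2 * (z * z) * h
  have e2 : (z * z) ^ 2 = z := by linear_combination pow_four hF z
  funext i
  fin_cases i <;> simp [Matrix.mulVec, dotProduct, Fin.sum_univ_three, a0, a1, a10, a11, c0, c1, c10, c11, e2,
    ← mul_assoc] <;> first | (left; linear_combination -e1) | linear_combination (-v 1) * e1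

/-- The blocks and the extra generators generate. -/
theorem generate {K : Subgroup S3} (hM : blocks hF ≤ K)
    (hU : ∀ U : S3, (∀ m ∈ blocks hF, U * m * U⁻¹ ∈ blocks hF) → U * U ∈ blocks hF → U ∈ K) : K = ⊤ := by
  rw [eq_top_iff]
  intro g _
  have h2 := two_zero hF
  set e : Fin 3 → F := Pi.single 0 1 with he
  have finish : ∀ k ∈ K, mat k *ᵥ e = mat g *ᵥ e → g ∈ K := by
    intro k hk hke
    have h1 : k⁻¹ * g ∈ (R3).range := (mem_range hF (i := 1) (k := 2) (by omega) _).2 fun j hj => by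
      have hj0 : j = 0 := Fin.ext (by simp; omega)
      subst hj0
      rw [mul_mulVec, ← he, ← hke, ← mul_mulVec, inv_mul_cancel, mat_one, one_mulVec]
    simpa using mul_mem hk (hM (Subgroup.mem_sup_right h1))
  set v := mat g *ᵥ e with hv
  have hn : v 0 ^ 3 + v 1 ^ 3 + v 2 ^ 3 = 1 := by
    have h := SU_H g e e
    rw [he, H_single_single hF, if_pos rfl, ← he, ← hv] at h
    simp [Cfsg.hermForm, Fin.sum_univ_three] at h
    linear_combination h
  have c3 : ∀ {x : F}, x ≠ 0 → x ^ 3 = 1 := cube_one hF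
  -- a coordinate vector
  have mono : ∀ (j : Fin 3) (c : F), c ≠ 0 → v = Pi.single j c → g ∈ K := by
    intro j c hc hvj
    obtain ⟨a, a0, a1⟩ := TwoAut.exists_mk hF (q := 2) (x := c) (y := 0) (by linear_combination c3 hc)
    obtain ⟨a11, a10, -, -⟩ := TwoAut.shape hF a
    rw [a1] at a10
    have hk : ∀ p ∈ K, mat p *ᵥ e = Pi.single j 1 → g ∈ K := fun p hp hpe =>
      finish (p * L3 a) (mul_mem hp (hM (mem_left hF _))) (by
        rw [mul_mulVec, show mat (L3 a) *ᵥ e = c • e from ?_, Matrix.mulVec_smul, hpe, hvj]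
        · funext i; simp [Pi.single_apply]
        · rw [Align.left_entries]
          funext i
          fin_cases i <;> simp [he, a0, a10, Matrix.mulVec, dotProduct, Fin.sum_univ_three, Pi.single_apply])
    have hs := hM (mem_left hF (gs hF))
    have ht := hM (mem_right hF (gs hF))
    fin_cases j
    · exact hk 1 (one_mem _) (by rw [mat_one, one_mulVec]; rfl)
    · refine hk _ hs ?_
      rw [mat_Ls]; funext i
      fin_cases i <;> simp [he, Matrix.mulVec, dotProduct, Fin.sum_univ_three, Pi.single_apply]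
    · refine hk _ (mul_mem ht hs) ?_
      rw [mul_mulVec, mat_Ls, mat_Rs]; funext i
      fin_cases i <;> simp [he, Matrix.mulVec, dotProduct, Fin.sum_univ_three, Pi.single_apply]
  have tw : (1 : F) + 1 = 0 := by linear_combination h2
  by_cases h0 : v 0 = 0 <;> by_cases h1 : v 1 = 0 <;> by_cases h2' : v 2 = 0
  · simp [h0, h1, h2'] at hn
  · exact mono 2 _ h2' (by funext i; fin_cases i <;> simp [h0, h1, Pi.single_apply])
  · exact mono 1 _ h1 (by funext i; fin_cases i <;> simp [h0, h2', Pi.single_apply])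
  · simp [h0, c3 h1, c3 h2', tw] at hn
  · exact mono 0 _ h0 (by funext i; fin_cases i <;> simp [h1, h2', Pi.single_apply])
  · simp [h1, c3 h0, c3 h2', tw] at hn
  · simp [h2', c3 h0, c3 h1, tw] at hn
  -- all coordinates non-zero
  set a := v 0 * v 1 * v 2 with ha
  have ha0 : a ≠ 0 := mul_ne_zero (mul_ne_zero h0 h1) h2'
  obtain ⟨U, hUn, hUU, hU0⟩ := exists_Ua hF ha0
  obtain ⟨p, hp⟩ : ∃ p : S3, ∀ u : Fin 3 → F, mat p *ᵥ u = fun i => (![v 0, v 1 * a, v 2 * a] : Fin 3 → F) i * u i := by
    refine ⟨suMk (Matrix.diagonal ![v 0, v 1 * a, v 2 * a]) ?_ (diag_preserves hF _ ?_), fun u => ?_⟩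
    · rw [Matrix.det_diagonal, Fin.prod_univ_three]
      simp
      linear_combination c3 ha0
    · intro i
      fin_cases i <;> simp [mul_pow, c3 h0, c3 h1, c3 h2', c3 ha0]
    · rw [suMk_mulVec]
      funext i
      rw [Matrix.mulVec_diagonal]
  refine finish (p * U) (mul_mem (hM (diag_three_mem hF ?_ p hp)) (hU U hUn hUU)) ?_
  · linear_combination c3 ha0
  rw [mul_mulVec, hp]
  funext i
  rw [he, ← Align.col_entry, hU0]
  fin_cases i <;> simp
  · linear_combination v 1 * c3 ha0
  · linear_combination v 2 * c3 ha0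

/-- Homomorphisms agreeing on both blocks agree, given a small centraliser. -/
theorem core {K : Type v} [Group K] {ψ ψ' : S3 →* K} (hL : ∀ x, ψ (L3 x) = ψ' (L3 x))
    (hR : ∀ x, ψ (R3 x) = ψ' (R3 x))
    (hC : ∀ g : K, (∀ m ∈ blocks hF, g * ψ m = ψ m * g) → g ^ 3 = 1 ∧ ∀ x, g * ψ x = ψ x * g) : ψ = ψ' := by
  have hM : blocks hF ≤ ψ.eqLocus ψ' :=
    sup_le (by rintro _ ⟨x, rfl⟩; exact hL x) (by rintro _ ⟨x, rfl⟩; exact hR x)
  have h := generate hF hM fun U hn hUU => by
    set g := (ψ U)⁻¹ * ψ' U with hg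
    have hgm : ∀ m ∈ blocks hF, g * ψ m = ψ m * g := by
      intro m hm
      have h1 : ψ (U * m * U⁻¹) = ψ' (U * m * U⁻¹) := hM (hn m hm)
      rw [map_mul, map_mul, map_inv, map_mul, map_mul, map_inv, show ψ' m = ψ m from (hM hm).symm] at h1
      rw [hg]
      calc (ψ U)⁻¹ * ψ' U * ψ m = (ψ U)⁻¹ * (ψ' U * ψ m * (ψ' U)⁻¹) * ψ' U := by group
        _ = (ψ U)⁻¹ * (ψ U * ψ m * (ψ U)⁻¹) * ψ' U := by rw [h1]
        _ = _ := by group
    obtain ⟨h3, hc⟩ := hC g hgm
    have hU' : ψ' U = ψ U * g := by rw [hg, mul_inv_cancel_left]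
    have h4 : ψ (U * U) = ψ' (U * U) := hM hUU
    clear_value g
    rw [map_mul, map_mul, hU'] at h4
    have h5 : g ^ 2 = 1 := by
      have : ψ U * g * (ψ U * g) = ψ U * ψ U * g ^ 2 := by
        rw [mul_assoc, ← mul_assoc g, hc, mul_assoc, pow_two, mul_assoc]
      rw [this] at h4
      exact mul_eq_left.1 h4.symm
    have hg1 : g = 1 := by rw [pow_succ, h5, one_mul] at h3; exact h3
    show ψ U = ψ' U
    rw [hU', hg1, mul_one]
  exact MonoidHom.ext fun x => (h ▸ Subgroup.mem_top x : x ∈ ψ.eqLocus ψ')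

end Cfsg.Agent.Phan.TwoField
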