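import Cfsg.Agent.Lib.Phan.TwoField
import Mathlib

/-!
For `q = 2`: commuting elements of order three in unitary groups have a common orthonormal eigenframe, and
the possible exponent patterns of two such elements.
-/

set_option autoImplicit false
set_option linter.unusedSectionVars false
set_option linter.unusedSimpArgs false

namespace Cfsg.Agent.Phan.TwoFrame

open Matrix MulAction
open Cfsg.Agent.Forms Cfsg.Agent.Classical Cfsg.Agent.Classical.Unitary
open Cfsg.Agent.SimpleFacts.SUMult Blocks CosetGeom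
open Cfsg.Agent.Phan.Orth Cfsg.Agent.Phan.Cov Cfsg.Agent.Phan.Base Cfsg.Agent.Phan.Shift
open Cfsg.Agent.Phan.TwoField

universe u

theorem diag_of_commute {K : Type u} [Field K] {n : ℕ} (g : Matrix (Fin n) (Fin n) K) (i j : Fin n → K)
    (hi : g * Matrix.diagonal i = Matrix.diagonal i * g) (hj : g * Matrix.diagonal j = Matrix.diagonal j * g)
    (sep : ∀ k l, k ≠ l → i k ≠ i l ∨ j k ≠ j l) : g = Matrix.diagonal fun k => g k k := by
  ext k l
  by_cases h : k = l
  · subst h; rw [Matrix.diagonal_apply_eq]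
  rw [Matrix.diagonal_apply_ne _ h]
  have key : ∀ d : Fin n → K, g * Matrix.diagonal d = Matrix.diagonal d * g → d k ≠ d l → g k l = 0 := by
    intro d hd hne
    have e := congrFun (congrFun hd k) l
    rw [Matrix.mul_diagonal, Matrix.diagonal_mul] at e
    exact (mul_eq_zero.1 (show (d k - d l) * g k l = 0 by linear_combination -e)).resolve_left
      (sub_ne_zero.2 hne)
  rcases sep k l h with h' | h'
  · exact key i hi h'
  · exact key j hj h'

variable {F : Type u} [Field F] [Fintype F] (hF : Fintype.card F = 2 ^ 2)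

include hF

/-- An eigenvector that is not isotropic. -/
theorem eig {n : ℕ} (A : Matrix (Fin n) (Fin n) F) (hA : A * A * A = 1)
    (hH : ∀ x y, Cfsg.hermForm n F 2 (A *ᵥ x) (A *ᵥ y) = Cfsg.hermForm n F 2 x y)
    (P : (Fin n → F) → Prop) (hadd : ∀ x y, P x → P y → P (x + y)) (hsmul : ∀ (c : F) x, P x → P (c • x))
    (hPA : ∀ x, P x → P (A *ᵥ x)) {v : Fin n → F} (hv : P v) (hvv : Cfsg.hermForm n F 2 v v ≠ 0) :
    ∃ (v' : Fin n → F) (l : Fin 3), P v' ∧ A *ᵥ v' = pw hF l • v' ∧ Cfsg.hermForm n F 2 v' v' ≠ 0 := by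
  set a := Cfsg.hermForm n F 2 v (A *ᵥ v) with ha
  set a' := Cfsg.hermForm n F 2 (A *ᵥ v) v with ha'
  set h := Cfsg.hermForm n F 2 v v with hh
  have hA3 : A *ᵥ (A *ᵥ (A *ᵥ v)) = v := by
    rw [Matrix.mulVec_mulVec, Matrix.mulVec_mulVec, hA, one_mulVec]
  let p : Fin 3 → Fin n → F := fun l => v + (pw hF l ^ 2) • (A *ᵥ v) + pw hF l • (A *ᵥ (A *ᵥ v))
  have hc : ∀ l, pw hF l * pw hF l * pw hF l = 1 := fun l => by
    linear_combination cube_one hF (pw_ne hF l)
  have hP : ∀ l, P (p l) := fun l =>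
    hadd _ _ (hadd _ _ hv (hsmul _ _ (hPA _ hv))) (hsmul _ _ (hPA _ (hPA _ hv)))
  have hAp : ∀ l, A *ᵥ p l = pw hF l • p l := by
    intro l
    funext i
    simp only [p, Matrix.mulVec_add, Matrix.mulVec_smul, hA3, Pi.add_apply, Pi.smul_apply, smul_eq_mul]
    linear_combination (-(A *ᵥ v) i) * hc l
  have hHp : ∀ l, Cfsg.hermForm n F 2 (p l) (p l) = h + pw hF l * a + pw hF l ^ 2 * a' := by
    intro l
    have e1 : Cfsg.hermForm n F 2 (A *ᵥ v) (A *ᵥ v) = h := hH v v
    have e2 : Cfsg.hermForm n F 2 (A *ᵥ (A *ᵥ v)) (A *ᵥ (A *ᵥ v)) = h := by rw [hH, e1]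
    have e3 : Cfsg.hermForm n F 2 (A *ᵥ v) (A *ᵥ (A *ᵥ v)) = a := hH _ _
    have e4 : Cfsg.hermForm n F 2 (A *ᵥ (A *ᵥ v)) (A *ᵥ v) = a' := hH _ _
    have e5 : Cfsg.hermForm n F 2 (A *ᵥ (A *ᵥ v)) v = a := by
      conv_lhs => arg 5; rw [← hA3]
      rw [hH, e3]
    have e6 : Cfsg.hermForm n F 2 v (A *ᵥ (A *ᵥ v)) = a' := by
      conv_lhs => arg 4; rw [← hA3]
      rw [hH, e4]
    simp only [p, H_add_left, H_add_right hF, H_smul_left, H_smul_right, e1, e2, e3, e4, e5, e6]
    rw [← ha, ← ha', ← hh]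
    have h2 := two_zero hF
    have h4 : pw hF l ^ 4 = pw hF l := pow_four hF _
    have h3 : pw hF l ^ 3 = 1 := cube_one hF (pw_ne hF l)
    grind
  by_contra hall
  push Not at hall
  have hz : ∀ l, h + pw hF l * a + pw hF l ^ 2 * a' = 0 := fun l => by
    rw [← hHp]; exact hall _ l (hP l) (hAp l)
  have z0 := hz 0
  have z1 := hz 1
  have z2 := hz 2
  simp only [pw, Matrix.cons_val_zero, Matrix.cons_val_one, Matrix.cons_val_two, Matrix.head_cons,
    Matrix.tail_cons] at z0 z1 z2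
  have h2 := two_zero hF
  have hw := om_sq hF
  exact hvv (by grind)

local notation "S4" => Cfsg.SU 4 F 2
local notation "H" => Cfsg.hermForm 4 F 2

/-- A common orthonormal eigenframe. -/
theorem exists_frame (A B : S4) (hA : A * A * A = 1) (hB : B * B * B = 1) (hAB : A * B = B * A) :
    ∃ (g : Cfsg.GU 4 F 2) (a b : Fin 4 → Fin 3),
      gmat g⁻¹ * mat A * gmat g = Matrix.diagonal (fun i => pw hF (a i)) ∧
      gmat g⁻¹ * mat B * gmat g = Matrix.diagonal (fun i => pw hF (b i)) := by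
  have hA' : mat A * mat A * mat A = 1 := by rw [← mat_mul, ← mat_mul, hA, mat_one]
  have hB' : mat B * mat B * mat B = 1 := by rw [← mat_mul, ← mat_mul, hB, mat_one]
  have hAB' : mat A * mat B = mat B * mat A := by rw [← mat_mul, ← mat_mul, hAB]
  have build : ∀ k ≤ 4, ∃ (f : Fin k → Fin 4 → F) (a b : Fin k → Fin 3), IsFrame 2 f ∧
      ∀ i, mat A *ᵥ f i = pw hF (a i) • f i ∧ mat B *ᵥ f i = pw hF (b i) • f i := by
    intro k
    induction k with
    | zero => exact fun _ => ⟨Fin.elim0, Fin.elim0, Fin.elim0, fun i => i.elim0, fun i => i.elim0⟩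
    | succ k ih =>
      intro hk
      obtain ⟨f, a, b, hf, he⟩ := ih (by omega)
      obtain ⟨z, hz, hzf⟩ := exists_unit_perp hF f f hf id (fun i => rfl) (by omega)
      let P : (Fin 4 → F) → Prop := fun x => ∀ i, H x (f i) = 0
      have hinv : ∀ (C : S4) (c : Fin k → Fin 3), (∀ i, mat C *ᵥ f i = pw hF (c i) • f i) →
          ∀ x, P x → P (mat C *ᵥ x) := by
        intro C c hc x hx i
        have h1 : H (mat C *ᵥ x) (pw hF (c i) • f i) = 0 := by rw [← hc, SU_H]; exact hx i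
        rw [H_smul_right] at h1
        exact (mul_eq_zero.1 h1).resolve_left (pow_ne_zero _ (pw_ne hF _))
      obtain ⟨v1, la, hv1, hA1, hn1⟩ := eig hF (mat A) hA' (SU_H A) P
        (fun x y hx hy i => by rw [H_add_left, hx, hy, add_zero])
        (fun c x hx i => by rw [H_smul_left, hx, mul_zero])
        (hinv A a fun i => (he i).1) hzf (by rw [hz]; exact one_ne_zero)
      obtain ⟨v2, lb, ⟨hv2, hA2⟩, hB2, hn2⟩ := eig hF (mat B) hB' (SU_H B)
        (fun x => P x ∧ mat A *ᵥ x = pw hF la • x)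
        (fun x y hx hy => ⟨fun i => by rw [H_add_left, hx.1, hy.1, add_zero],
          by rw [Matrix.mulVec_add, hx.2, hy.2, smul_add]⟩)
        (fun c x hx => ⟨fun i => by rw [H_smul_left, hx.1, mul_zero],
          by rw [Matrix.mulVec_smul, hx.2, smul_comm]⟩)
        (fun x hx => ⟨hinv B b (fun i => (he i).2) x hx.1,
          by rw [Matrix.mulVec_mulVec, hAB', ← Matrix.mulVec_mulVec, hx.2, Matrix.mulVec_smul]⟩)
        ⟨hv1, hA1⟩ hn1
      have h11 : H v2 v2 = 1 := by
        have h := H_conj hF v2 v2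
        exact mul_left_cancel₀ hn2 (by rw [mul_one, ← pow_two, h])
      refine ⟨Fin.snoc f v2, Fin.snoc a la, Fin.snoc b lb, ?_, fun i => ?_⟩
      · intro i j
        induction i using Fin.lastCases with
        | last =>
          induction j using Fin.lastCases with
          | last => simp [h11]
          | cast j =>
            rw [Fin.snoc_last, Fin.snoc_castSucc, hv2 j, if_neg (Fin.castSucc_lt_last j).ne']
        | cast i =>
          induction j using Fin.lastCases with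
          | last =>
            rw [Fin.snoc_last, Fin.snoc_castSucc, sym hF (hv2 i), if_neg (Fin.castSucc_lt_last i).ne]
          | cast j =>
            rw [Fin.snoc_castSucc, Fin.snoc_castSucc, hf i j]
            simp [Fin.castSucc_inj]
      · induction i using Fin.lastCases with
        | last => simp only [Fin.snoc_last]; exact ⟨hA2, hB2⟩
        | cast i => simp only [Fin.snoc_castSucc]; exact he i
  obtain ⟨f, a, b, hf, he⟩ := build 4 le_rfl
  obtain ⟨g, hg⟩ := exists_gu_frame (r := 0) hF f hf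
  have key : ∀ (C : S4) (c : Fin 4 → Fin 3), (∀ i, mat C *ᵥ f i = pw hF (c i) • f i) →
      gmat g⁻¹ * mat C * gmat g = Matrix.diagonal (fun i => pw hF (c i)) := by
    intro C c hc
    refine Matrix.ext_of_mulVec_single fun i => ?_
    rw [← Matrix.mulVec_mulVec, ← Matrix.mulVec_mulVec]
    rw [show gmat g *ᵥ (Pi.single i 1 : Fin 4 → F) = f i from hg i, hc, Matrix.mulVec_smul,
      ginv_mulVec g (hg i)]
    funext j
    rw [Matrix.mulVec_diagonal, Pi.smul_apply, smul_eq_mul]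
    by_cases hji : j = i
    · subst hji; rfl
    · simp [Pi.single_apply, hji]
  exact ⟨g, a, b, key A a fun i => (he i).1, key B b fun i => (he i).2⟩

/-- The two-bit code of a sum of four powers. -/
def code (a : Fin 4 → Fin 3) : Fin 4 :=
  let x : Fin 3 → Fin 4 := ![1, 2, 3]
  x (a 0) ^^^ x (a 1) ^^^ x (a 2) ^^^ x (a 3)

theorem sum_pw (a : Fin 4 → Fin 3) :
    pw hF (a 0) + pw hF (a 1) + pw hF (a 2) + pw hF (a 3) = val hF (code a) := by
  have e : ∀ k : Fin 3, pw hF k = val hF ((![1, 2, 3] : Fin 3 → Fin 4) k) := fun k => by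
    fin_cases k <;> rfl
  simp only [code, e, val_add]

omit hF

/-- The conditions on a pair of exponent patterns. -/
def Cond (a b : Fin 4 → Fin 3) : Prop :=
  a 0 + a 1 + a 2 + a 3 = 0 ∧ b 0 + b 1 + b 2 + b 3 = 0 ∧ (code a).val < 2 ∧ code b = code a ∧
    code (fun i => a i + b i) = code a ∧ (∃ i, a i ≠ 0) ∧ (∃ i, b i ≠ 0) ∧ (∃ i, a i + b i ≠ 0) ∧ ∃ i, a i ≠ b i

instance (a b : Fin 4 → Fin 3) : Decidable (Cond a b) := by
  unfold Cond
  infer_instance

/-- The standard patterns. -/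
def stdA : Fin 4 → Fin 3 := ![1, 2, 0, 0]

/-- The standard patterns. -/
def stdB : Fin 4 → Fin 3 := ![0, 1, 2, 0]

/-- All arrangements of four indices. -/
def perms : List (Fin 4 → Fin 4) :=
  [![0,1,2,3], ![0,1,3,2], ![0,2,1,3], ![0,2,3,1], ![0,3,1,2], ![0,3,2,1],
   ![1,0,2,3], ![1,0,3,2], ![1,2,0,3], ![1,2,3,0], ![1,3,0,2], ![1,3,2,0],
   ![2,0,1,3], ![2,0,3,1], ![2,1,0,3], ![2,1,3,0], ![2,3,0,1], ![2,3,1,0],
   ![3,0,1,2], ![3,0,2,1], ![3,1,0,2], ![3,1,2,0], ![3,2,0,1], ![3,2,1,0]]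

theorem perms_inj : ∀ π ∈ perms, ∀ i j, π i = π j → i = j := by decide +kernel

theorem normal_form : ∀ a0 a1 a2 a3 : Fin 3, a0 + a1 + a2 + a3 = 0 → (code ![a0, a1, a2, a3]).val < 2 →
    ∀ b0 b1 b2 b3 : Fin 3, Cond ![a0, a1, a2, a3] ![b0, b1, b2, b3] →
      ∃ π ∈ perms, ∃ s : Bool, ∀ i, ((![a0, a1, a2, a3] : Fin 4 → Fin 3) (π i) = (bif s then -stdA i else stdA i))
        ∧ ((![b0, b1, b2, b3] : Fin 4 → Fin 3) (π i) = (bif s then -stdB i else stdB i)) := by
  decide +kernel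

theorem second_form : ∀ b0 b2 b3 : Fin 3, Cond ![0, 1, 2, 0] ![b0, b0, b2, b3] →
    b0 = 0 ∧ b2 = 1 ∧ b3 = 2 := by
  decide +kernel

end Cfsg.Agent.Phan.TwoFrame
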